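import Groth.Agent.ZCLib.TS
import Mathlib.RingTheory.TensorProduct.Free
import Mathlib.RingTheory.TensorProduct.Maps
import Mathlib.RingTheory.Nilpotent.Lemmas
import Mathlib.RingTheory.LocalRing.ResidueField.Ideal

/-! Symmetric tensors of flat algebras with geometrically reduced fibres. -/

noncomputable section

open TensorProduct PiTensorProduct

namespace ZCLib

universe u

variable {A : Type u} [CommRing A]

lemma exists_sum_ker {P N : Type u} [AddCommGroup P] [Module A P] [AddCommGroup N] [Module A N]
    (S : Type u) [CommRing S] [Algebra A S] (Q : P →ₗ[A] N) (hQ : Function.Surjective Q)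
    {x : S ⊗[A] P} (hx : Q.lTensor S x = 0) :
    ∃ (L : Type u) (_ : Fintype L) (s : L → S) (z : L → P), (∀ l, Q (z l) = 0) ∧
      x = ∑ l, s l ⊗ₜ[A] z l := by
  obtain ⟨w, rfl⟩ := (lTensor_exact S (LinearMap.exact_subtype_ker_map Q) hQ _).1 hx
  obtain ⟨L, _, s, z, rfl⟩ := exists_sum S w
  exact ⟨L, inferInstance, s, fun l => (z l).1, fun l => LinearMap.mem_ker.1 (z l).2, by simp⟩

/-- Symmetric tensors of a flat module embed after any base change. -/
lemma lTensor_subtype_injective_of_flat {M : Type u} [AddCommGroup M] [Module A M] [Module.Flat A M]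
    (d : ℕ) (S : Type u) [CommRing S] [Algebra A S] :
    Function.Injective ((symSub A d M).subtype.lTensor S) := by
  classical
  refine (injective_iff_map_eq_zero _).2 fun x hx => ?_
  obtain ⟨J, _, s, y, rfl⟩ := exists_sum S x
  have hlift : ∀ x : ⨂[A] _ : Fin d, M,
      ∃ t, PiTensorProduct.map (fun _ : Fin d => pres A M) t = x := by
    intro x
    induction x using PiTensorProduct.induction_on with
    | smul_tprod r m =>
      exact ⟨r • tprod A fun i => Finsupp.single (m i) 1, by
        simp [PiTensorProduct.map_tprod, pres_single]⟩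
    | add b c hb hc =>
      obtain ⟨tb, hb⟩ := hb
      obtain ⟨tc, hc⟩ := hc
      exact ⟨tb + tc, by rw [map_add, hb, hc]⟩
  choose t ht using fun j => hlift (y j).1
  set Q := PiTensorProduct.map (fun _ : Fin d => pres A M) with hQ
  have hx0 : Q.lTensor S (∑ j, s j ⊗ₜ[A] t j) = 0 := by
    rw [map_sum] at hx ⊢
    simpa [ht] using hx
  have key := @exists_sum_ker A _ (⨂[A] _ : Fin d, M →₀ A) (⨂[A] _ : Fin d, M) _ _ _ _ S _ _
  obtain ⟨L, _, s', z, hz, hw⟩ := key Q hlift hx0
  obtain ⟨κ, π, f, g', hg', hπ, hf⟩ := exists_factor (pres A M) pres_surjective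
    (Sum.elim (fun p : Equiv.Perm (Fin d) × J => PiTensorProduct.reindex A _ p.1 (t p.2) - t p.2)
      fun l : L => z l)
    (by
      rintro (⟨σ, i⟩ | l)
      · simp only [Sum.elim_inl]
        rw [map_sub, map_reindex_comm, ht, mem_symSub.1 (y i).2 σ, sub_self]
      · simp only [Sum.elim_inr]
        exact hz l) t
  let y' : J → symSub A d (κ →₀ A) := fun j =>
    ⟨PiTensorProduct.map (fun _ : Fin d => f) (t j), mem_symSub.2 fun σ => by
      have h1 := hf (Sum.inl (σ, j))
      rwa [Sum.elim_inl, map_sub, map_reindex_comm, sub_eq_zero] at h1⟩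
  have h0 : ∑ j, s j ⊗ₜ[A] y' j = 0 := by
    refine lTensor_subtype_injective (Finsupp.basisSingleOne : Module.Basis κ A (κ →₀ A)) S ?_
    have h1 := congrArg ((PiTensorProduct.map fun _ : Fin d => f).lTensor S) hw
    simp only [map_sum, LinearMap.lTensor_tmul] at h1
    rw [map_sum, map_zero]
    simp only [LinearMap.lTensor_tmul, Submodule.subtype_apply, y']
    rw [h1]
    refine Finset.sum_eq_zero fun l _ => ?_
    rw [show PiTensorProduct.map (fun _ : Fin d => f) (z l) = 0 from hf (Sum.inr l), tmul_zero]
  let G : symSub A d (κ →₀ A) →ₗ[A] symSub A d M :=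
    (PiTensorProduct.map fun _ : Fin d => g').restrict fun t ht => map_mem_symSub _ ht
  have hy : ∀ j, G (y' j) = y j := fun j => Subtype.ext <| by
    show PiTensorProduct.map (fun _ : Fin d => g') (PiTensorProduct.map (fun _ : Fin d => f) (t j)) = _
    rw [map_map, ← hg', ← map_map, hπ j, ht]
  have h2 := congrArg (G.lTensor S) h0
  simpa [map_sum, hy] using h2

/-- Tensoring a reduced algebra with a geometrically reduced one gives a reduced algebra. -/
lemma isReduced_tensor_of_field {k R D : Type u} [Field k] [CommRing R] [Algebra k R] [IsReduced R]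
    [CommRing D] [Algebra k D]
    (hD : ∀ (L : Type u) [Field L] [Algebra k L], IsReduced (L ⊗[k] D)) : IsReduced (R ⊗[k] D) := by
  refine ⟨fun x hx => ?_⟩
  let b := Module.Basis.ofVectorSpace k D
  refine (Algebra.TensorProduct.basis R b).repr.injective (Finsupp.ext fun i => ?_)
  rw [map_zero, Finsupp.zero_apply]
  refine IsReduced.eq_zero _ (nilpotent_iff_mem_prime.2 fun p hp => ?_)
  haveI := hp
  haveI := hD p.ResidueField
  let ρ : R →ₐ[k] p.ResidueField := IsScalarTower.toAlgHom k R p.ResidueField
  have h0 : Algebra.TensorProduct.map ρ (AlgHom.id k D) x = 0 :=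
    (hx.map (Algebra.TensorProduct.map ρ (AlgHom.id k D))).eq_zero
  have hrepr : ∀ y : R ⊗[k] D, (Algebra.TensorProduct.basis p.ResidueField b).repr
      (Algebra.TensorProduct.map ρ (AlgHom.id k D) y) i =
        algebraMap R p.ResidueField ((Algebra.TensorProduct.basis R b).repr y i) := by
    intro y
    induction y with
    | zero => simp
    | add a c ha hc => simp only [map_add, Finsupp.add_apply, ha, hc]
    | tmul r q =>
      simp [Algebra.TensorProduct.map_tmul, Algebra.TensorProduct.basis_repr_tmul, ρ,
        Algebra.smul_def, IsScalarTower.algebraMap_apply k R p.ResidueField]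
  have h1 := hrepr x
  rw [h0, map_zero, Finsupp.zero_apply, eq_comm, Ideal.algebraMap_residueField_eq_zero] at h1
  exact h1

variable {B : Type u} [CommRing B] [Algebra A B]

/-- An algebra map out of a tensor power. -/
def piLift {d : ℕ} {U : Type u} [CommRing U] [Algebra A U] (f : Fin d → B →ₐ[A] U) :
    (⨂[A] _ : Fin d, B) →ₐ[A] U :=
  PiTensorProduct.liftAlgHom
    ((MultilinearMap.mkPiAlgebra A (Fin d) U).compLinearMap fun i => (f i).toLinearMap)
    (by simp) (fun x y => by simp [Finset.prod_mul_distrib])

lemma piLift_single {d : ℕ} {U : Type u} [CommRing U] [Algebra A U] (f : Fin d → B →ₐ[A] U)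
    (i : Fin d) (x : B) :
    piLift f (PiTensorProduct.singleAlgHom (A := fun _ : Fin d => B) i x) = f i x := by
  classical
  simp only [piLift, PiTensorProduct.singleAlgHom_apply, MonoidHom.mulSingle_apply,
    PiTensorProduct.liftAlgHom_apply, lift.tprod, MultilinearMap.compLinearMap_apply,
    MultilinearMap.mkPiAlgebra_apply, AlgHom.toLinearMap_apply]
  rw [Finset.prod_eq_single i (fun k _ hk => by rw [Pi.mulSingle_eq_of_ne hk, map_one])
    (fun h => absurd (Finset.mem_univ i) h), Pi.mulSingle_eq_same]

lemma isReduced_baseChange_tensorPower (d : ℕ)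
    (hred : ∀ (K : Type u) [Field K] [Algebra A K], IsReduced (K ⊗[A] B))
    (K : Type u) [Field K] [Algebra A K] : IsReduced (K ⊗[A] (⨂[A] _ : Fin d, B)) := by
  induction d with
  | zero =>
    have h : (Algebra.ofId A _).comp (piLift (A := A) (B := B) (U := A) (d := 0) Fin.elim0) =
        AlgHom.id A (⨂[A] _ : Fin 0, B) := by
      refine PiTensorProduct.algHom_ext fun i => i.elim0
    have hinj : Function.Injective (Algebra.TensorProduct.map (AlgHom.id A K)
        (piLift (A := A) (B := B) (U := A) (d := 0) Fin.elim0)) :=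
      Function.LeftInverse.injective
        (g := Algebra.TensorProduct.map (AlgHom.id A K) (Algebra.ofId A _)) fun x => by
        rw [← AlgHom.comp_apply, ← Algebra.TensorProduct.map_comp, h, AlgHom.id_comp,
          Algebra.TensorProduct.map_id, AlgHom.id_apply]
    haveI : IsReduced (K ⊗[A] A) :=
      isReduced_of_injective (Algebra.TensorProduct.rid A A K) (Algebra.TensorProduct.rid A A K).injective
    exact isReduced_of_injective _ hinj
  | succ d ih =>
    let e : (⨂[A] _ : Fin (d + 1), B) →ₐ[A] (⨂[A] _ : Fin d, B) ⊗[A] B :=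
      piLift fun i => Fin.lastCases (motive := fun _ => B →ₐ[A] (⨂[A] _ : Fin d, B) ⊗[A] B)
        Algebra.TensorProduct.includeRight
        (fun j => Algebra.TensorProduct.includeLeft.comp
          (PiTensorProduct.singleAlgHom (A := fun _ : Fin d => B) j)) i
    let e' : (⨂[A] _ : Fin d, B) ⊗[A] B →ₐ[A] ⨂[A] _ : Fin (d + 1), B :=
      Algebra.TensorProduct.lift
        (piLift fun j => PiTensorProduct.singleAlgHom (A := fun _ : Fin (d + 1) => B) j.castSucc)
        (PiTensorProduct.singleAlgHom (A := fun _ : Fin (d + 1) => B) (Fin.last d))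
        fun _ _ => Commute.all _ _
    have he : e'.comp e = AlgHom.id A _ := by
      refine PiTensorProduct.algHom_ext fun i => AlgHom.ext fun x => ?_
      simp only [AlgHom.comp_apply, AlgHom.id_apply, e, piLift_single]
      induction i using Fin.lastCases with
      | last => simp [e']
      | cast j =>
        simp only [Fin.lastCases_castSucc, AlgHom.comp_apply, Algebra.TensorProduct.includeLeft_apply,
          e', Algebra.TensorProduct.lift_tmul, map_one, mul_one, piLift_single]
    have hinj : Function.Injective (Algebra.TensorProduct.map (AlgHom.id A K) e) :=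
      Function.LeftInverse.injective (g := Algebra.TensorProduct.map (AlgHom.id A K) e') fun x => by
        rw [← AlgHom.comp_apply, ← Algebra.TensorProduct.map_comp, he, AlgHom.id_comp,
          Algebra.TensorProduct.map_id, AlgHom.id_apply]
    haveI : IsReduced ((K ⊗[A] (⨂[A] _ : Fin d, B)) ⊗[K] (K ⊗[A] B)) :=
      isReduced_tensor_of_field fun L _ _ => by
        letI : Algebra A L := ((algebraMap K L).comp (algebraMap A K)).toAlgebra
        haveI : IsScalarTower A K L := IsScalarTower.of_algebraMap_eq fun _ => rfl
        haveI := hred L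
        exact isReduced_of_injective _
          (Algebra.TensorProduct.cancelBaseChange A K L L B).injective
    haveI : IsReduced ((K ⊗[A] (⨂[A] _ : Fin d, B)) ⊗[A] B) :=
      isReduced_of_injective _
        (Algebra.TensorProduct.cancelBaseChange A K (K ⊗[A] (⨂[A] _ : Fin d, B))
          (K ⊗[A] (⨂[A] _ : Fin d, B)) B).symm.injective
    haveI : IsReduced (K ⊗[A] ((⨂[A] _ : Fin d, B) ⊗[A] B)) :=
      isReduced_of_injective _
        (Algebra.TensorProduct.assoc A A A K (⨂[A] _ : Fin d, B) B).symm.injective
    exact isReduced_of_injective _ hinj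

/-- The divided powers of a flat algebra with geometrically reduced fibres have reduced fibres. -/
lemma isReduced_baseChange_gamma {C : Type u} [CommRing C] [Algebra A C] {d : ℕ}
    (γ : PolLaw.MulLaw A B C d) (hγ : PolLaw.IsGammaD γ) [Module.Flat A B]
    (hred : ∀ (K : Type u) [Field K] [Algebra A K], IsReduced (K ⊗[A] B))
    (K : Type u) [Field K] [Algebra A K] : IsReduced (K ⊗[A] C) := by
  obtain ⟨e, -⟩ := exists_equiv_TS hγ isGammaD_tau_of_flat
  haveI := isReduced_baseChange_tensorPower d hred K
  let V : SymTen.TS A B d →ₗ[A] symSub A d B :=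
    (SymTen.TS A B d).val.toLinearMap.codRestrict _ fun t => by rw [← TS_toSubmodule]; exact t.2
  let W : symSub A d B →ₗ[A] SymTen.TS A B d :=
    (symSub A d B).subtype.codRestrict (Subalgebra.toSubmodule (SymTen.TS A B d))
      fun t => by rw [TS_toSubmodule]; exact t.2
  have hV : Function.Injective (V.lTensor K) :=
    Function.LeftInverse.injective (g := W.lTensor K) fun x => by
      rw [← LinearMap.comp_apply, ← LinearMap.lTensor_comp,
        show W ∘ₗ V = LinearMap.id from LinearMap.ext fun t => rfl, LinearMap.lTensor_id,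
        LinearMap.id_apply]
  have hval : Function.Injective
      (Algebra.TensorProduct.map (AlgHom.id A K) (SymTen.TS A B d).val) := by
    have h : ∀ x, Algebra.TensorProduct.map (AlgHom.id A K) (SymTen.TS A B d).val x =
        (symSub A d B).subtype.lTensor K (V.lTensor K x) := fun x => by
      induction x with
      | zero => simp
      | tmul q n => rfl
      | add a b ha hb => simp only [map_add, ha, hb]
    intro x y hxy
    rw [h, h] at hxy
    exact hV (lTensor_subtype_injective_of_flat d K hxy)
  haveI := isReduced_of_injective _ hval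
  exact isReduced_of_injective _ (Algebra.TensorProduct.congr (AlgEquiv.refl (R := A) (A₁ := K)) e).injective

end ZCLib
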