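import Groth.Agent.ZCLib.Law

/-! Products of coefficients of multiplicative laws and the divided power algebra. -/

noncomputable section

open TensorProduct MvPolynomial

namespace ZCLib

universe u

variable {A : Type u} [CommRing A] {B C C' : Type u} [CommRing B] [Algebra A B] [CommRing C]
  [Algebra A C] [CommRing C'] [Algebra A C'] {d : ℕ}

/-- The exponent on a disjoint union of two index types. -/
def idx {κ κ' : Type u} (α : κ →₀ ℕ) (β : κ' →₀ ℕ) : κ ⊕ κ' →₀ ℕ :=
  α.mapDomain Sum.inl + β.mapDomain Sum.inr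

lemma idx_inj {κ κ' : Type u} {α α' : κ →₀ ℕ} {β β' : κ' →₀ ℕ} (h : idx α β = idx α' β') :
    α = α' ∧ β = β' := by
  constructor <;> ext j
  · simpa [idx, Finsupp.mapDomain_apply Sum.inl_injective, Finsupp.mapDomain_notin_range]
      using DFunLike.congr_fun h (Sum.inl j)
  · simpa [idx, Finsupp.mapDomain_apply Sum.inr_injective, Finsupp.mapDomain_notin_range]
      using DFunLike.congr_fun h (Sum.inr j)

lemma coeff_mul_idx {κ κ' : Type u} (z : (κ →₀ ℕ) →₀ C) (w : (κ' →₀ ℕ) →₀ C) (α : κ →₀ ℕ)
    (β : κ' →₀ ℕ) :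
    polEquiv A (κ ⊕ κ') C
        (evalAt (fun j => (X (Sum.inl j) : MvPolynomial (κ ⊕ κ') A)) z *
          evalAt (fun j => X (Sum.inr j)) w) (idx α β) = z α * w β := by
  classical
  induction z using Finsupp.induction_linear with
  | zero => simp
  | add z₁ z₂ h₁ h₂ => simp only [map_add, add_mul, Finsupp.add_apply, h₁, h₂]
  | single α' c =>
    induction w using Finsupp.induction_linear with
    | zero => simp
    | add w₁ w₂ h₁ h₂ => simp only [map_add, mul_add, Finsupp.add_apply, h₁, h₂]
    | single β' c' =>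
      rw [evalAt_single, evalAt_single, Algebra.TensorProduct.tmul_mul_tmul, polEquiv_tmul]
      have hm : ((α'.prod fun j k => (X (Sum.inl j) : MvPolynomial (κ ⊕ κ') A) ^ k) *
          β'.prod fun j k => X (Sum.inr j) ^ k) = monomial (idx α' β') 1 := by
        rw [monomial_eq, map_one, one_mul, idx,
          Finsupp.prod_add_index' (by simp) (by simp [pow_add]),
          Finsupp.prod_mapDomain_index_inj Sum.inl_injective,
          Finsupp.prod_mapDomain_index_inj Sum.inr_injective]
      rw [hm, coeff_monomial]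
      by_cases h : idx α' β' = idx α β
      · obtain ⟨rfl, rfl⟩ := idx_inj h
        simp
      · rw [if_neg h, zero_smul]
        by_cases h1 : α' = α
        · subst h1
          rw [Finsupp.single_eq_of_ne (a := β') fun h2 => h (by rw [h2]), mul_zero]
        · rw [Finsupp.single_eq_of_ne (a := α') fun h2 => h1 h2.symm, zero_mul]

/-- The family of products. -/
def prodPt {κ κ' : Type u} (v : κ → B) (w : κ' → B) : κ × κ' → B := fun p => v p.1 * w p.2

/-- The variables attached to the family of products. -/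
def prodVar (A : Type u) [CommRing A] (κ κ' : Type u) : κ × κ' → MvPolynomial (κ ⊕ κ') A :=
  fun p => X (Sum.inl p.1) * X (Sum.inr p.2)

/-- The product formula for coefficients. -/
lemma coeffs_mul (F : PolLaw.MulLaw A B C d) {κ κ' : Type u} [Fintype κ] [Fintype κ'] (v : κ → B)
    (w : κ' → B) (α : κ →₀ ℕ) (β : κ' →₀ ℕ) :
    coeffs F.law v α * coeffs F.law w β =
      polEquiv A (κ ⊕ κ') C (evalAt (prodVar A κ κ') (coeffs F.law (prodPt v w))) (idx α β) := by
  rw [← coeff_mul_idx (A := A), ← toFun'_sum, ← toFun'_sum, ← toFun'_sum, ← (F.mult _).2,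
    Finset.sum_mul_sum, ← Finset.sum_product', Finset.univ_product_univ]
  simp only [Algebra.TensorProduct.tmul_mul_tmul]
  rfl

lemma coeffs_one (F : PolLaw.MulLaw A B C d) :
    ((coeffs F.law fun _ : PUnit.{u + 1} => (1 : B)).sum fun _ n => n) = 1 := by
  have h := toFun'_sum F.law (fun _ : PUnit.{u + 1} => (1 : A)) fun _ => (1 : B)
  rw [Fintype.sum_unique, ← Algebra.TensorProduct.one_def, (F.mult A).1] at h
  have h' := congrArg (Algebra.TensorProduct.lid A C) h
  rw [map_one, evalAt, Finsupp.lsum_apply, map_finsuppSum] at h'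
  simpa using h'.symm

/-- The coefficients of a law at families from a subalgebra. -/
def coeffSet (F : B →ₚₗ[A] C) (B₀ : Subalgebra A B) : Set C :=
  {c | ∃ (κ : Type u) (_ : Fintype κ) (v : κ → B) (α : κ →₀ ℕ),
    (∀ j, v j ∈ B₀) ∧ c = coeffs F v α}

/-- The subalgebra spanned by the coefficients. -/
def coeffAlg (F : PolLaw.MulLaw A B C d) (B₀ : Subalgebra A B) : Subalgebra A C :=
  (Submodule.span A (coeffSet F.law B₀)).toSubalgebra
    (by
      rw [← coeffs_one F]
      exact Submodule.sum_mem _ fun α _ => Submodule.subset_span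
        ⟨_, inferInstance, _, α, fun _ => B₀.one_mem, rfl⟩)
    (by
      intro x y hx hy
      induction hx using Submodule.span_induction with
      | zero => simp
      | add a b _ _ ha hb => rw [add_mul]; exact add_mem ha hb
      | smul r a _ ha => rw [smul_mul_assoc]; exact Submodule.smul_mem _ r ha
      | mem a ha =>
        induction hy using Submodule.span_induction with
        | zero => simp
        | add a b _ _ ha hb => rw [mul_add]; exact add_mem ha hb
        | smul r a _ ha => rw [mul_smul_comm]; exact Submodule.smul_mem _ r ha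
        | mem b hb =>
          obtain ⟨κ, _, v, α, hv, rfl⟩ := ha
          obtain ⟨κ', _, w, β, hw, rfl⟩ := hb
          rw [coeffs_mul F v w α β]
          exact polEquiv_evalAt_mem _ _ (Submodule.span A (coeffSet F.law B₀))
            (fun γ => Submodule.subset_span
              ⟨_, inferInstance, _, γ, fun p => B₀.mul_mem (hv p.1) (hw p.2), rfl⟩) _)

lemma coeffs_mem_coeffAlg (F : PolLaw.MulLaw A B C d) {B₀ : Subalgebra A B} {κ : Type u} [Fintype κ]
    (v : κ → B) (hv : ∀ j, v j ∈ B₀) (α : κ →₀ ℕ) : coeffs F.law v α ∈ coeffAlg F B₀ :=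
  Submodule.subset_span (s := coeffSet F.law B₀) ⟨κ, _, v, α, hv, rfl⟩

/-- The coefficients span the divided power algebra. -/
lemma span_coeffSet_eq_top {γ : PolLaw.MulLaw A B C d} (hγ : PolLaw.IsGammaD γ) :
    Submodule.span A (coeffSet γ.law ⊤) = ⊤ := by
  let E := coeffAlg γ ⊤
  have hE : ∀ (κ : Type u) [Fintype κ] (v : κ → B) α, coeffs γ.law v α ∈ E :=
    fun κ _ v α => coeffs_mem_coeffAlg γ v (fun _ => Algebra.mem_top) α
  obtain ⟨f, hf, -⟩ := hγ E (corestrictMul γ E hE)
  have h : E.val.comp f = AlgHom.id A C := by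
    refine (hγ C γ).unique ?_ ?_
    · show PolLaw.postcomp (E.val.toLinearMap ∘ₗ f.toLinearMap) γ.law = γ.law
      rw [← postcomp_postcomp, hf, postcomp_corestrictMul]
    · exact law_ext fun κ _ v => Finsupp.ext fun α => coeffs_postcomp _ _ _ _
  refine top_le_iff.1 fun c _ => ?_
  have hc := AlgHom.congr_fun h c
  rw [AlgHom.comp_apply, AlgHom.id_apply, Subalgebra.val_apply] at hc
  rw [← hc]
  exact (f c).2

lemma algHom_ext_of_span {F : B →ₚₗ[A] C} (hF : Submodule.span A (coeffSet F ⊤) = ⊤)
    {f g : C →ₐ[A] C'} (h : PolLaw.postcomp f.toLinearMap F = PolLaw.postcomp g.toLinearMap F) :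
    f = g :=
  AlgHom.toLinearMap_injective <| LinearMap.ext_on hF fun c ⟨κ, _, v, α, _, hc⟩ => by
    rw [hc, ← coeffs_postcomp, h, coeffs_postcomp]

/-- A linear map matching the coefficients of two multiplicative laws is an algebra map. -/
lemma exists_algHom_of_linear (F : PolLaw.MulLaw A B C d) (G : PolLaw.MulLaw A B C' d)
    (hF : Submodule.span A (coeffSet F.law ⊤) = ⊤) (f : C →ₗ[A] C')
    (hf : ∀ (κ : Type u) [Fintype κ] (v : κ → B) α, f (coeffs F.law v α) = coeffs G.law v α) :
    ∃ f' : C →ₐ[A] C', f'.toLinearMap = f ∧ PolLaw.postcomp f'.toLinearMap F.law = G.law := by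
  have hone : f 1 = 1 := by
    rw [← coeffs_one F, ← coeffs_one G, map_finsuppSum]
    rw [show (coeffs G.law fun _ : PUnit.{u + 1} => (1 : B)) =
      Finsupp.mapRange f (map_zero f) (coeffs F.law fun _ => 1) from
        Finsupp.ext fun α => (hf _ _ α).symm, Finsupp.sum_mapRange_index fun _ => rfl]
  have hmul : ∀ x y, f (x * y) = f x * f y := by
    intro x y
    have hx : x ∈ Submodule.span A (coeffSet F.law ⊤) := hF ▸ trivial
    have hy : y ∈ Submodule.span A (coeffSet F.law ⊤) := hF ▸ trivial
    induction hx using Submodule.span_induction with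
    | zero => simp
    | add a b _ _ ha hb => rw [add_mul, map_add, ha, hb, map_add, add_mul]
    | smul r a _ ha => rw [smul_mul_assoc, map_smul, ha, map_smul, smul_mul_assoc]
    | mem a ha =>
      induction hy using Submodule.span_induction with
      | zero => simp
      | add a b _ _ ha hb => rw [mul_add, map_add, ha, hb, map_add, mul_add]
      | smul r a _ ha => rw [mul_smul_comm, map_smul, ha, map_smul, mul_smul_comm]
      | mem b hb =>
        obtain ⟨κ, _, v, α, -, rfl⟩ := ha
        obtain ⟨κ', _, w, β, -, rfl⟩ := hb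
        rw [hf, hf, coeffs_mul, coeffs_mul, ← polEquiv_lTensor, evalAt_mapRange]
        congr 3
        exact Finsupp.ext fun γ => hf _ _ γ
  exact ⟨AlgHom.ofLinearMap f hone hmul, rfl,
    law_ext fun κ _ v => Finsupp.ext fun α => (coeffs_postcomp _ _ _ _).trans (hf κ v α)⟩

/-- A criterion for the universal property. -/
lemma isGammaD_of_span (F : PolLaw.MulLaw A B C d) (hF : Submodule.span A (coeffSet F.law ⊤) = ⊤)
    (h : ∀ (C' : Type u) [CommRing C'] [Algebra A C'] (G : PolLaw.MulLaw A B C' d),
      ∃ f : C →ₗ[A] C', ∀ (κ : Type u) [Fintype κ] (v : κ → B) α,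
        f (coeffs F.law v α) = coeffs G.law v α) :
    PolLaw.IsGammaD F := by
  intro C' _ _ G
  obtain ⟨f, hf⟩ := h C' G
  obtain ⟨f', -, hf'⟩ := exists_algHom_of_linear F G hF f hf
  exact ⟨f', hf', fun g hg => algHom_ext_of_span hF (hg.trans hf'.symm)⟩

lemma coeffAlg_le_span (F : PolLaw.MulLaw A B C d) (B₀ : Subalgebra A B) {κ : Type u} [Fintype κ]
    (w : κ → B) (hw : Subalgebra.toSubmodule B₀ ≤ Submodule.span A (Set.range w)) :
    Subalgebra.toSubmodule (coeffAlg F B₀) ≤ Submodule.span A (Set.range (coeffs F.law w)) := by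
  refine Submodule.span_le.2 fun c ⟨κ', _, v, α, hv, hc⟩ => ?_
  subst hc
  choose a ha using fun j => (Submodule.mem_span_range_iff_exists_fun A).1 (hw (hv j))
  exact coeffs_mem_of_linear F.law v w a (fun j => (ha j).symm)
    (Submodule.span A (Set.range (coeffs F.law w)))
    (fun γ => Submodule.subset_span ⟨γ, rfl⟩) α

lemma coeffAlg_fg (F : PolLaw.MulLaw A B C d) (B₀ : Subalgebra A B)
    (hB₀ : (Subalgebra.toSubmodule B₀).FG) : (Subalgebra.toSubmodule (coeffAlg F B₀)).FG := by
  obtain ⟨T, hT⟩ := hB₀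
  let w : {x // x ∈ T} → B := Subtype.val
  have hmem : ∀ j, w j ∈ B₀ := fun j => by
    rw [← Subalgebra.mem_toSubmodule, ← hT]; exact Submodule.subset_span j.2
  have h : Subalgebra.toSubmodule (coeffAlg F B₀) = Submodule.span A (Set.range (coeffs F.law w)) := by
    refine le_antisymm (coeffAlg_le_span F B₀ w ?_) (Submodule.span_le.2 ?_)
    · rw [← hT]; simp [w]
    · rintro _ ⟨α, rfl⟩
      exact coeffs_mem_coeffAlg F w hmem α
  rw [h]
  exact Submodule.fg_span (Finsupp.finite_range _)

end ZCLib
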