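import Groth.Agent.ZCLib.TS
import Mathlib.LinearAlgebra.TensorProduct.RightExactness

/-! The norm law from the tensor power to the divided power algebra. -/

noncomputable section

open TensorProduct PiTensorProduct

namespace ZCLib

universe u

variable {A : Type u} [CommRing A] {B : Type u} [CommRing B] [Algebra A B] {d : ℕ}

lemma tmap_eq_map {P Q : Type u} [CommRing P] [Algebra A P] [CommRing Q] [Algebra A Q]
    (f : P →ₐ[A] Q) (t : ⨂[A] _ : Fin d, P) :
    SymTen.tmap A d f t = PiTensorProduct.map (fun _ : Fin d => f.toLinearMap) t := by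
  induction t using PiTensorProduct.induction_on with
  | smul_tprod r g => simp [PiTensorProduct.map_tprod]
  | add a b ha hb => simp only [map_add, ha, hb]

lemma tmap_comp_perm {P Q : Type u} [CommRing P] [Algebra A P] [CommRing Q] [Algebra A Q]
    (f : P →ₐ[A] Q) (σ : Equiv.Perm (Fin d)) :
    (SymTen.tmap A d f).comp (SymTen.perm A P d σ) =
      (SymTen.perm A Q d σ).comp (SymTen.tmap A d f) :=
  AlgHom.ext fun t => by
    rw [AlgHom.comp_apply, AlgHom.comp_apply, SymTen.perm_apply, SymTen.perm_apply, SymTen.tmap_reindex]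

lemma perm_comp_perm (σ τ : Equiv.Perm (Fin d)) :
    (SymTen.perm A B d σ).comp (SymTen.perm A B d τ) = SymTen.perm A B d (σ * τ) := by
  refine AlgHom.ext fun t => ?_
  induction t using PiTensorProduct.induction_on with
  | smul_tprod r g => simp; rfl
  | add a b ha hb => simp only [map_add, ha, hb]

lemma perm_comp_val (σ : Equiv.Perm (Fin d)) :
    (SymTen.perm A B d σ).comp (SymTen.TS A B d).val = (SymTen.TS A B d).val :=
  AlgHom.ext fun t => by
    rw [AlgHom.comp_apply, Subalgebra.val_apply, SymTen.perm_apply]; exact t.2 σ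

variable {S : Type u} [CommSemiring S] [Algebra A S]

lemma map_id_comp {P Q R : Type u} [CommRing P] [Algebra A P] [CommRing Q] [Algebra A Q]
    [CommRing R] [Algebra A R] (g : Q →ₐ[A] R) (f : P →ₐ[A] Q) (x : S ⊗[A] P) :
    Algebra.TensorProduct.map (AlgHom.id S S) g (Algebra.TensorProduct.map (AlgHom.id S S) f x) =
      Algebra.TensorProduct.map (AlgHom.id S S) (g.comp f) x := by
  induction x with
  | zero => simp
  | tmul s p => rfl
  | add a b ha hb => simp only [map_add, ha, hb]

lemma symmLaw_apply (x : S ⊗[A] (⨂[A] _ : Fin d, B)) :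
    (SymTen.symmLaw A B d).law.toFun' S x =
      ∏ σ : Equiv.Perm (Fin d), Algebra.TensorProduct.map (AlgHom.id S S) (SymTen.perm A B d σ) x :=
  rfl

lemma map_tmap_symmLaw {Q : Type u} [CommRing Q] [Algebra A Q] (f : B →ₐ[A] Q)
    (x : S ⊗[A] (⨂[A] _ : Fin d, B)) :
    Algebra.TensorProduct.map (AlgHom.id S S) (SymTen.tmap A d f)
        ((SymTen.symmLaw A B d).law.toFun' S x) =
      (SymTen.symmLaw A Q d).law.toFun' S
        (Algebra.TensorProduct.map (AlgHom.id S S) (SymTen.tmap A d f) x) := by
  rw [symmLaw_apply, symmLaw_apply, map_prod]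
  refine Finset.prod_congr rfl fun σ _ => ?_
  rw [map_id_comp, map_id_comp, tmap_comp_perm]

lemma symmLaw_val (x : S ⊗[A] SymTen.TS A B d) :
    (SymTen.symmLaw A B d).law.toFun' S
        (Algebra.TensorProduct.map (AlgHom.id S S) (SymTen.TS A B d).val x) =
      Algebra.TensorProduct.map (AlgHom.id S S) (SymTen.TS A B d).val (x ^ d.factorial) := by
  simp only [symmLaw_apply, map_id_comp, perm_comp_val, Finset.prod_const, map_pow,
    Finset.card_univ, Fintype.card_perm, Fintype.card_fin]

variable (A B d) in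
lemma coeffs_symmLaw_mem (κ : Type u) [Fintype κ] (v : κ → ⨂[A] _ : Fin d, B) (α : κ →₀ ℕ) :
    coeffs (SymTen.symmLaw A B d).law v α ∈ SymTen.TS A B d := by
  intro τ
  rw [← SymTen.perm_apply, ← AlgHom.toLinearMap_apply, ← coeffs_postcomp]
  congr 2
  refine PolynomialLaw.ext ?_
  funext S _ _ x
  show (SymTen.perm A B d τ).toLinearMap.lTensor S _ = _
  rw [PolLaw.lTensor_algHom_apply, symmLaw_apply, map_prod]
  refine Fintype.prod_equiv (Equiv.mulLeft τ) _ _ fun σ => ?_
  rw [map_id_comp, perm_comp_perm]
  rfl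

variable (A B d) in
/-- The product of all permutations, as a law into the symmetric tensors. -/
def symmTS : PolLaw.MulLaw A (⨂[A] _ : Fin d, B) (SymTen.TS A B d) d.factorial :=
  corestrictMul (SymTen.symmLaw A B d) (SymTen.TS A B d) (coeffs_symmLaw_mem A B d)

lemma map_val_symmTS (x : S ⊗[A] (⨂[A] _ : Fin d, B)) :
    Algebra.TensorProduct.map (AlgHom.id S S) (SymTen.TS A B d).val
        ((symmTS A B d).law.toFun' S x) =
      (SymTen.symmLaw A B d).law.toFun' S x := by
  rw [← PolLaw.lTensor_algHom_apply]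
  exact congrFun (congrFun (congrFun (congrFun (congrArg PolynomialLaw.toFun'
    (postcomp_corestrictMul (SymTen.symmLaw A B d) (SymTen.TS A B d) (coeffs_symmLaw_mem A B d)))
    S) _) _) x

lemma symmTS_natural {P Q : Type u} [CommRing P] [Algebra A P] [CommRing Q] [Algebra A Q]
    (f : P →ₐ[A] Q) :
    ((symmTS A Q d).precomp (SymTen.tmap A d f)).law =
      ((symmTS A P d).postcomp (SymTen.TSmap A d f)).law := by
  refine law_ext_of_injective (SymTen.TS A Q d).val.toLinearMap Subtype.val_injective ?_
  refine PolynomialLaw.ext ?_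
  funext S _ _ x
  show (SymTen.TS A Q d).val.toLinearMap.lTensor S ((symmTS A Q d).law.toFun' S
      ((SymTen.tmap A d f).toLinearMap.lTensor S x)) =
    (SymTen.TS A Q d).val.toLinearMap.lTensor S
      ((SymTen.TSmap A d f).toLinearMap.lTensor S ((symmTS A P d).law.toFun' S x))
  simp only [PolLaw.lTensor_algHom_apply]
  rw [map_val_symmTS, map_id_comp, ← map_tmap_symmLaw, ← map_val_symmTS, map_id_comp]
  rfl

section Descend

variable {R R' C : Type u} [CommRing R] [Algebra A R] [CommRing R'] [Algebra A R'] [CommRing C]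
  [Algebra A C] {n : ℕ}

lemma map_id_surjective (p : R →ₐ[A] R') (hp : Function.Surjective p) :
    Function.Surjective (Algebra.TensorProduct.map (AlgHom.id S S) p) := fun y => by
  obtain ⟨x, rfl⟩ := LinearMap.lTensor_surjective S (g := p.toLinearMap) hp y
  exact ⟨x, (PolLaw.lTensor_algHom_apply p S x).symm⟩

/-- A multiplicative law which is constant on the fibres of a surjection descends along it. -/
def descend (G : PolLaw.MulLaw A R C n) (p : R →ₐ[A] R') (hp : Function.Surjective p)
    (h : ∀ (S : Type u) [CommSemiring S] [Algebra A S] (x y : S ⊗[A] R),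
      Algebra.TensorProduct.map (AlgHom.id S S) p x = Algebra.TensorProduct.map (AlgHom.id S S) p y →
        G.law.toFun' S x = G.law.toFun' S y) : PolLaw.MulLaw A R' C n where
  law :=
  { toFun' := fun S _ _ x => G.law.toFun' S (Function.surjInv (map_id_surjective p hp) x)
    isCompat' := fun {S} _ _ {S'} _ _ φ => by
      funext x
      simp only [Function.comp_apply]
      refine (congrFun (G.law.isCompat' φ) _).trans (h S' _ _ ?_)
      rw [Function.surjInv_eq (map_id_surjective p hp),
        ← PolLaw.map_id_rTensor, Function.surjInv_eq (map_id_surjective p hp)] }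
  homog S _ _ s x := by
    show G.law.toFun' S _ = s ^ n • G.law.toFun' S _
    rw [← G.homog]
    refine h S _ _ ?_
    rw [map_smul, Function.surjInv_eq (map_id_surjective p hp),
      Function.surjInv_eq (map_id_surjective p hp)]
  mult S _ _ := by
    refine ⟨?_, fun x y => ?_⟩
    · refine (h S _ 1 ?_).trans (G.mult S).1
      rw [Function.surjInv_eq (map_id_surjective p hp), map_one]
    · show G.law.toFun' S _ = G.law.toFun' S _ * G.law.toFun' S _
      rw [← (G.mult S).2]
      refine h S _ _ ?_
      rw [map_mul, Function.surjInv_eq (map_id_surjective p hp),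
        Function.surjInv_eq (map_id_surjective p hp), Function.surjInv_eq (map_id_surjective p hp)]

lemma descend_map (G : PolLaw.MulLaw A R C n) (p : R →ₐ[A] R') (hp : Function.Surjective p)
    (h : ∀ (S : Type u) [CommSemiring S] [Algebra A S] (x y : S ⊗[A] R),
      Algebra.TensorProduct.map (AlgHom.id S S) p x = Algebra.TensorProduct.map (AlgHom.id S S) p y →
        G.law.toFun' S x = G.law.toFun' S y) (x : S ⊗[A] R) :
    (descend G p hp h).law.toFun' S (Algebra.TensorProduct.map (AlgHom.id S S) p x) =
      G.law.toFun' S x :=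
  h S _ _ (Function.surjInv_eq (map_id_surjective p hp) _)

/-- Constancy on the fibres from invariance under the generators of the kernel. -/
lemma constant_of_gens (G : R →ₚₗ[A] C) (p : R →ₐ[A] R') (hp : Function.Surjective p) (gens : Set R)
    (hker : LinearMap.ker p.toLinearMap ≤ Submodule.span A gens)
    (hG : ∀ (S : Type u) [CommSemiring S] [Algebra A S] (x : S ⊗[A] R) (s : S), ∀ g ∈ gens,
      G.toFun' S (x + s ⊗ₜ[A] g) = G.toFun' S x)
    (S : Type u) [CommSemiring S] [Algebra A S] (x y : S ⊗[A] R)
    (hxy : Algebra.TensorProduct.map (AlgHom.id S S) p x =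
      Algebra.TensorProduct.map (AlgHom.id S S) p y) : G.toFun' S x = G.toFun' S y := by
  letI : AddCommGroup S := Module.addCommMonoidToAddCommGroup A
  rw [← PolLaw.lTensor_algHom_apply, ← PolLaw.lTensor_algHom_apply] at hxy
  obtain ⟨k, hk⟩ := (lTensor_exact S (LinearMap.exact_subtype_ker_map p.toLinearMap) hp
    (x - y)).1 (by rw [map_sub, hxy, sub_self])
  have key2 : ∀ r ∈ Submodule.span A gens, ∀ (s : S) (z : S ⊗[A] R),
      G.toFun' S (z + s ⊗ₜ[A] r) = G.toFun' S z := by
    intro r hr
    induction hr using Submodule.span_induction with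
    | zero => simp
    | add a b _ _ ha hb => intro s z; rw [TensorProduct.tmul_add, ← add_assoc, hb, ha]
    | smul c a _ ha => intro s z; rw [← TensorProduct.smul_tmul, ha]
    | mem a ha => intro s z; exact hG S z s a ha
  have key : ∀ (k : S ⊗[A] LinearMap.ker p.toLinearMap) (z : S ⊗[A] R),
      G.toFun' S (z + (LinearMap.ker p.toLinearMap).subtype.lTensor S k) = G.toFun' S z := by
    intro k
    induction k with
    | zero => simp
    | add a b ha hb => intro z; rw [map_add, ← add_assoc, hb, ha]
    | tmul s r =>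
      intro z
      rw [LinearMap.lTensor_tmul, Submodule.subtype_apply]
      exact key2 _ (hker r.2) s z
  rw [← key k y, hk, add_sub_cancel]

end Descend

section Gamma

variable {C : Type u} [CommRing C] [Algebra A C] (γ : PolLaw.MulLaw A B C d)
  {Q : Type u} [CommRing Q] [Algebra A Q] [Module.Flat A Q] (f : Q →ₐ[A] B)

/-- The map from symmetric tensors of a flat cover. -/
def psiHom : SymTen.TS A Q d →ₐ[A] C :=
  (isGammaD_tau_of_flat (A := A) (B := Q) (d := d) C (γ.precomp f)).exists.choose

lemma psiHom_coeffs {κ : Type u} [Fintype κ] (v : κ → Q) (α : κ →₀ ℕ) :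
    psiHom γ f (coeffs (tau A Q d).law v α) = coeffs γ.law (f ∘ v) α := by
  have h := (isGammaD_tau_of_flat (A := A) (B := Q) (d := d) C (γ.precomp f)).exists.choose_spec
  rw [← AlgHom.toLinearMap_apply, ← coeffs_postcomp, psiHom, h]
  exact DFunLike.congr_fun (coeffs_precomp γ.law f.toLinearMap v) α

lemma TSmap_coeffs_tau {P R : Type u} [CommRing P] [Algebra A P] [CommRing R] [Algebra A R]
    (g : P →ₐ[A] R) {κ : Type u} [Fintype κ] (v : κ → P) (α : κ →₀ ℕ) :
    SymTen.TSmap A d g (coeffs (tau A P d).law v α) = coeffs (tau A R d).law (g ∘ v) α := by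
  apply Subtype.ext
  show SymTen.tmap A d g (coeffs (tau A P d).law v α : ⨂[A] _ : Fin d, P) = _
  rw [val_coeffs_tau, val_coeffs_tau, tmap_eq_map, map_orbs]
  rfl

lemma span_coeffSet_tau_flat : Submodule.span A (coeffSet (tau A Q d).law ⊤) = ⊤ :=
  span_coeffSet_tau symSub_le_span_of_flat

lemma algHom_ext_tau {R : Type u} [CommRing R] [Algebra A R] {g h : SymTen.TS A Q d →ₐ[A] R}
    (hgh : ∀ (κ : Type u) [Fintype κ] (v : κ → Q) α,
      g (coeffs (tau A Q d).law v α) = h (coeffs (tau A Q d).law v α)) : g = h :=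
  algHom_ext_of_span (span_coeffSet_tau_flat) <| law_ext fun κ _ v => Finsupp.ext fun α => by
    rw [coeffs_postcomp, coeffs_postcomp]; exact hgh κ v α

/-- The norm law of a flat cover. -/
def coverNorm : PolLaw.MulLaw A (⨂[A] _ : Fin d, Q) C d.factorial :=
  (symmTS A Q d).postcomp (psiHom γ f)

lemma coverNorm_natural {Q' : Type u} [CommRing Q'] [Algebra A Q'] [Module.Flat A Q']
    (g : Q' →ₐ[A] Q) (x : S ⊗[A] (⨂[A] _ : Fin d, Q')) :
    (coverNorm γ f).law.toFun' S (Algebra.TensorProduct.map (AlgHom.id S S) (SymTen.tmap A d g) x) =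
      (coverNorm γ (f.comp g)).law.toFun' S x := by
  show (psiHom γ f).toLinearMap.lTensor S ((symmTS A Q d).law.toFun' S _) =
    (psiHom γ (f.comp g)).toLinearMap.lTensor S _
  have h := congrFun (congrFun (congrFun (congrFun (congrArg PolynomialLaw.toFun'
    (symmTS_natural (d := d) g)) S) _) _) x
  rw [← PolLaw.lTensor_algHom_apply]
  refine (congrArg _ h).trans ?_
  show (psiHom γ f).toLinearMap.lTensor S ((SymTen.TSmap A d g).toLinearMap.lTensor S _) = _
  rw [← LinearMap.comp_apply, ← LinearMap.lTensor_comp, ← AlgHom.comp_toLinearMap,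
    algHom_ext_tau (g := (psiHom γ f).comp (SymTen.TSmap A d g)) (h := psiHom γ (f.comp g))
      fun κ _ v α => by
        rw [AlgHom.comp_apply, TSmap_coeffs_tau, psiHom_coeffs, psiHom_coeffs]; rfl]

end Gamma

section Main

open MvPolynomial

variable {C : Type u} [CommRing C] [Algebra A C] (γ : PolLaw.MulLaw A B C d)

variable (A B) in
/-- The tautological cover of an algebra. -/
def cover : MvPolynomial B A →ₐ[A] B := aeval id

lemma cover_surjective : Function.Surjective (cover A B) := fun b => ⟨X b, by simp [cover]⟩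

lemma coverNorm_constant (S : Type u) [CommSemiring S] [Algebra A S]
    (x y : S ⊗[A] (⨂[A] _ : Fin d, MvPolynomial B A))
    (h : Algebra.TensorProduct.map (AlgHom.id S S) (SymTen.tmap A d (cover A B)) x =
      Algebra.TensorProduct.map (AlgHom.id S S) (SymTen.tmap A d (cover A B)) y) :
    (coverNorm γ (cover A B)).law.toFun' S x = (coverNorm γ (cover A B)).law.toFun' S y := by
  classical
  refine constant_of_gens _ (SymTen.tmap A d (cover A B)) ?_
    {t | ∃ (p : Fin d → MvPolynomial B A) (i : Fin d), cover A B (p i) = 0 ∧ t = tprod A p} ?_ ?_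
    S x y h
  · intro z
    induction z using PiTensorProduct.induction_on with
    | smul_tprod r g =>
      exact ⟨r • tprod A fun i => (X (g i) : MvPolynomial B A), by simp [cover]⟩
    | add a b ha hb =>
      obtain ⟨a', ha⟩ := ha
      obtain ⟨b', hb⟩ := hb
      exact ⟨a' + b', by rw [map_add, ha, hb]⟩
  · intro t ht
    refine ker_map_le (cover A B).toLinearMap cover_surjective ?_
    rw [LinearMap.mem_ker, ← tmap_eq_map]
    exact ht
  · intro S _ _ x s t ht
    obtain ⟨p, i, hp, rfl⟩ := ht
    let emb : MvPolynomial B A →ₐ[A] MvPolynomial (Option B) A := rename some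
    let ev₁ : MvPolynomial (Option B) A →ₐ[A] MvPolynomial B A := aeval fun o => o.elim (p i) X
    let ev₀ : MvPolynomial (Option B) A →ₐ[A] MvPolynomial B A := aeval fun o => o.elim 0 X
    have e1 : ev₁.comp emb = AlgHom.id A _ := MvPolynomial.algHom_ext fun b => by simp [ev₁, emb]
    have e0 : ev₀.comp emb = AlgHom.id A _ := MvPolynomial.algHom_ext fun b => by simp [ev₀, emb]
    have hev : (cover A B).comp ev₁ = (cover A B).comp ev₀ := MvPolynomial.algHom_ext fun o => by
      rcases o with _ | b
      · simpa [ev₁, ev₀] using hp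
      · simp [ev₁, ev₀]
    let q : Fin d → MvPolynomial (Option B) A := Function.update (emb ∘ p) i (X none)
    have q1 : SymTen.tmap A d ev₁ (tprod A q) = tprod A p := by
      rw [SymTen.tmap_tprod]
      congr 1
      funext j
      rcases eq_or_ne j i with rfl | hj
      · simp [q, ev₁]
      · simp only [q, Function.update_of_ne hj, Function.comp_apply]
        exact AlgHom.congr_fun e1 (p j)
    have q0 : SymTen.tmap A d ev₀ (tprod A q) = 0 := by
      rw [SymTen.tmap_tprod]
      exact (tprod A).map_coord_zero i (by simp [q, ev₀])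
    have hid : ∀ g : MvPolynomial (Option B) A →ₐ[A] MvPolynomial B A, g.comp emb = AlgHom.id A _ →
        Algebra.TensorProduct.map (AlgHom.id S S) (SymTen.tmap A d g)
          (Algebra.TensorProduct.map (AlgHom.id S S) (SymTen.tmap A d emb) x) = x := by
      intro g hg
      rw [map_id_comp, show (SymTen.tmap A d g).comp (SymTen.tmap A d emb) =
        AlgHom.id A (⨂[A] _ : Fin d, MvPolynomial B A) from AlgHom.ext fun t => by
          rw [AlgHom.comp_apply, tmap_eq_map, tmap_eq_map, map_map, ← AlgHom.comp_toLinearMap, hg]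
          simp [PiTensorProduct.map_id],
        Algebra.TensorProduct.map_id]
      rfl
    set y' := Algebra.TensorProduct.map (AlgHom.id S S) (SymTen.tmap A d emb) x +
      s ⊗ₜ[A] tprod A q with hy'
    have y1 : Algebra.TensorProduct.map (AlgHom.id S S) (SymTen.tmap A d ev₁) y' =
        x + s ⊗ₜ[A] tprod A p := by
      rw [hy', map_add, hid _ e1, Algebra.TensorProduct.map_tmul, q1, AlgHom.id_apply]
    have y0 : Algebra.TensorProduct.map (AlgHom.id S S) (SymTen.tmap A d ev₀) y' = x := by
      rw [hy', map_add, hid _ e0, Algebra.TensorProduct.map_tmul, q0, TensorProduct.tmul_zero,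
        add_zero]
    rw [← y1, coverNorm_natural, hev, ← coverNorm_natural, y0]

lemma tmap_cover_surjective :
    Function.Surjective (SymTen.tmap A d (cover A B)) := fun z => by
  induction z using PiTensorProduct.induction_on with
  | smul_tprod r g =>
    exact ⟨r • tprod A fun i => (X (g i) : MvPolynomial B A), by simp [cover]⟩
  | add a b ha hb =>
    obtain ⟨a', ha⟩ := ha
    obtain ⟨b', hb⟩ := hb
    exact ⟨a' + b', by rw [map_add, ha, hb]⟩

/-- The norm law `T^d B → Γ^d B`. -/
def normPow : PolLaw.MulLaw A (⨂[A] _ : Fin d, B) C d.factorial :=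
  descend (coverNorm γ (cover A B)) (SymTen.tmap A d (cover A B)) tmap_cover_surjective
    (coverNorm_constant γ)

lemma normPow_map (x : S ⊗[A] (⨂[A] _ : Fin d, MvPolynomial B A)) :
    (normPow γ).law.toFun' S
        (Algebra.TensorProduct.map (AlgHom.id S S) (SymTen.tmap A d (cover A B)) x) =
      Algebra.TensorProduct.map (AlgHom.id S S) (psiHom γ (cover A B))
        ((symmTS A (MvPolynomial B A) d).law.toFun' S x) := by
  rw [normPow, descend_map, ← PolLaw.lTensor_algHom_apply]
  rfl

section Phi

variable (φ : C →ₐ[A] SymTen.TS A B d)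
  (hφ : ∀ (S : Type u) [CommSemiring S] [Algebra A S] (n : ℕ) (s : Fin n → S) (b : Fin n → B),
    ((SymTen.TS A B d).val.comp φ).toLinearMap.lTensor S
        (γ.law.toFun' S (∑ j, s j ⊗ₜ[A] b j)) =
      ∑ c : Fin d → Fin n, (∏ i, s (c i)) ⊗ₜ[A] tprod A (fun i => b (c i)))

include hφ in
lemma phi_comp_psiHom : φ.comp (psiHom γ (cover A B)) = SymTen.TSmap A d (cover A B) :=
  algHom_ext_tau fun κ _ v α => by
    rw [AlgHom.comp_apply, psiHom_coeffs, phi_coeffs φ hφ, TSmap_coeffs_tau]

include hφ in
lemma map_phi_normPow (x : S ⊗[A] (⨂[A] _ : Fin d, B)) :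
    Algebra.TensorProduct.map (AlgHom.id S S) ((SymTen.TS A B d).val.comp φ)
        ((normPow γ).law.toFun' S x) = (SymTen.symmLaw A B d).law.toFun' S x := by
  obtain ⟨x, rfl⟩ := map_id_surjective (SymTen.tmap A d (cover A B)) tmap_cover_surjective x
  rw [normPow_map, map_id_comp, AlgHom.comp_assoc, phi_comp_psiHom γ φ hφ, ← map_tmap_symmLaw,
    ← map_val_symmTS, map_id_comp]
  rfl

include hφ in
lemma postcomp_normPow_val :
    ((normPow γ).precomp (SymTen.TS A B d).val).postcomp φ =
      PolLaw.MulLaw.pow A (SymTen.TS A B d) d.factorial := by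
  ext1
  refine law_ext_of_injective (SymTen.TS A B d).val.toLinearMap Subtype.val_injective ?_
  refine PolynomialLaw.ext ?_
  funext S _ _ x
  show (SymTen.TS A B d).val.toLinearMap.lTensor S (φ.toLinearMap.lTensor S
      ((normPow γ).law.toFun' S ((SymTen.TS A B d).val.toLinearMap.lTensor S x))) =
    (SymTen.TS A B d).val.toLinearMap.lTensor S (x ^ d.factorial)
  simp only [PolLaw.lTensor_algHom_apply]
  rw [map_id_comp, map_phi_normPow γ φ hφ, symmLaw_val]

include hφ in
lemma precomp_normPow_phi (hγ : PolLaw.IsGammaD γ) :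
    ((normPow γ).precomp (SymTen.TS A B d).val).precomp φ = PolLaw.MulLaw.pow A C d.factorial := by
  ext1
  refine PolynomialLaw.ext ?_
  funext S _ _ x
  have hs : Function.Surjective (psiHom γ (cover A B)) := fun c => by
    have hc : c ∈ Submodule.span A (coeffSet γ.law ⊤) := by
      rw [span_coeffSet_eq_top hγ]; trivial
    suffices h : c ∈ LinearMap.range (psiHom γ (cover A B)).toLinearMap from h
    refine (Submodule.span_le (p := LinearMap.range (psiHom γ (cover A B)).toLinearMap)).2 ?_ hc
    rintro _ ⟨κ, _, v, α, -, rfl⟩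
    refine ⟨coeffs (tau A (MvPolynomial B A) d).law (fun k => X (v k)) α, ?_⟩
    rw [AlgHom.toLinearMap_apply, psiHom_coeffs,
      show (cover A B) ∘ (fun k => X (v k)) = v from funext fun k => by simp [cover]]
  obtain ⟨y, rfl⟩ := map_id_surjective (psiHom γ (cover A B)) hs x
  show (normPow γ).law.toFun' S ((SymTen.TS A B d).val.toLinearMap.lTensor S
      (φ.toLinearMap.lTensor S _)) = (_ : S ⊗[A] C) ^ d.factorial
  simp only [PolLaw.lTensor_algHom_apply]
  rw [map_id_comp, map_id_comp, AlgHom.comp_assoc, phi_comp_psiHom γ φ hφ,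
    show (SymTen.TS A B d).val.comp (SymTen.TSmap A d (cover A B)) =
      (SymTen.tmap A d (cover A B)).comp (SymTen.TS A (MvPolynomial B A) d).val from rfl,
    ← map_id_comp, normPow_map, ← map_pow]
  congr 1
  have hinj : Function.Injective
      ((SymTen.TS A (MvPolynomial B A) d).val.toLinearMap.lTensor S) := by
    let e := MvPolynomial.basisMonomials B A
    let V : SymTen.TS A (MvPolynomial B A) d →ₗ[A] symSub A d (MvPolynomial B A) :=
      (SymTen.TS A (MvPolynomial B A) d).val.toLinearMap.codRestrict _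
        fun t => by rw [← TS_toSubmodule]; exact t.2
    let W : symSub A d (MvPolynomial B A) →ₗ[A] SymTen.TS A (MvPolynomial B A) d :=
      (symSub A d (MvPolynomial B A)).subtype.codRestrict
        (Subalgebra.toSubmodule (SymTen.TS A (MvPolynomial B A) d))
        fun t => by rw [TS_toSubmodule]; exact t.2
    refine Function.LeftInverse.injective (g := (W ∘ₗ retr d e).lTensor S) fun t => ?_
    rw [← LinearMap.comp_apply, ← LinearMap.lTensor_comp,
      show (W ∘ₗ retr d e) ∘ₗ (SymTen.TS A (MvPolynomial B A) d).val.toLinearMap = LinearMap.id from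
        LinearMap.ext fun t => Subtype.ext (by
          have h := congrArg Subtype.val (retr_val e (V t))
          exact h),
      LinearMap.lTensor_id, LinearMap.id_apply]
  apply hinj
  simp only [PolLaw.lTensor_algHom_apply]
  rw [map_val_symmTS, symmLaw_val]

end Phi

end Main

end ZCLib

namespace ZCLib

universe v

lemma one_tmul_ground {A : Type v} [CommRing A] {M N : Type v} [AddCommGroup M] [Module A M]
    [AddCommGroup N] [Module A N] (F : M →ₚₗ[A] N) (m : M) :
    (1 : A) ⊗ₜ[A] F.ground m = F.toFun' A ((1 : A) ⊗ₜ[A] m) := by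
  rw [← TensorProduct.lid_symm_apply, LinearEquiv.symm_apply_eq]
  rfl

lemma lid_map {A : Type v} [CommRing A] {P Q : Type v} [CommRing P] [Algebra A P] [CommRing Q]
    [Algebra A Q] (f : P →ₐ[A] Q) (x : A ⊗[A] P) :
    TensorProduct.lid A Q (Algebra.TensorProduct.map (AlgHom.id A A) f x) =
      f (TensorProduct.lid A P x) := by
  induction x with
  | zero => simp
  | tmul s p => simp
  | add a b ha hb => simp only [map_add, ha, hb]

lemma ground_pow {A : Type v} [CommRing A] {B : Type v} [CommRing B] [Algebra A B] (n : ℕ) (b : B) :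
    (PolLaw.MulLaw.pow A B n).law.ground b = b ^ n := by
  show TensorProduct.lid A B (((1 : A) ⊗ₜ[A] b) ^ n) = b ^ n
  simp [Algebra.TensorProduct.tmul_pow]

lemma ground_postcomp {A : Type v} [CommRing A] {B C D : Type v} [CommRing B] [Algebra A B]
    [CommRing C] [Algebra A C] [CommRing D] [Algebra A D] {n : ℕ} (g : C →ₐ[A] D)
    (F : PolLaw.MulLaw A B C n) (b : B) : (F.postcomp g).law.ground b = g (F.law.ground b) := by
  show TensorProduct.lid A D (g.toLinearMap.lTensor A (F.law.toFun' A ((1 : A) ⊗ₜ[A] b))) = _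
  rw [PolLaw.lTensor_algHom_apply, lid_map]
  rfl

lemma ground_precomp {A : Type v} [CommRing A] {B B' C : Type v} [CommRing B] [Algebra A B]
    [CommRing B'] [Algebra A B'] [CommRing C] [Algebra A C] {n : ℕ} (g : B' →ₐ[A] B)
    (F : PolLaw.MulLaw A B C n) (b : B') : (F.precomp g).law.ground b = F.law.ground (g b) := by
  show TensorProduct.lid A C (F.law.toFun' A (g.toLinearMap.lTensor A ((1 : A) ⊗ₜ[A] b))) = _
  rw [LinearMap.lTensor_tmul]
  rfl

lemma ground_symmLaw {A : Type v} [CommRing A] {B : Type v} [CommRing B] [Algebra A B] {d : ℕ}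
    (z : ⨂[A] _ : Fin d, B) :
    (SymTen.symmLaw A B d).law.ground z = ∏ σ : Equiv.Perm (Fin d), SymTen.perm A B d σ z := by
  show TensorProduct.lid A _ ((SymTen.symmLaw A B d).law.toFun' A ((1 : A) ⊗ₜ[A] z)) = _
  simp only [symmLaw_apply, Algebra.TensorProduct.map_tmul, AlgHom.id_apply]
  rw [prod_tmul, TensorProduct.lid_tmul, Finset.prod_const_one, one_smul]

lemma ground_zero {A : Type v} [CommRing A] {B C : Type v} [CommRing B] [Algebra A B]
    [CommRing C] [Algebra A C] {n : ℕ} (hn : n ≠ 0) (F : PolLaw.MulLaw A B C n) :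
    F.law.ground 0 = 0 := by
  show TensorProduct.lid A C (F.law.toFun' A ((1 : A) ⊗ₜ[A] 0)) = 0
  rw [TensorProduct.tmul_zero, ← zero_smul A (0 : A ⊗[A] B), F.homog, zero_pow hn, zero_smul,
    map_zero]

end ZCLib
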