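import Groth.Agent.ZCLib.Coeff
import Groth.Prelude.Def_SymTen
import Mathlib.LinearAlgebra.PiTensorProduct.Basis

/-! Symmetric tensors of free modules and the coefficients of homogeneous laws. -/

noncomputable section

open TensorProduct MvPolynomial PiTensorProduct

namespace ZCLib

universe u

variable {A : Type u} [CommRing A] {M N P : Type u} [AddCommGroup M] [Module A M]
  [AddCommGroup N] [Module A N] [AddCommGroup P] [Module A P] {d : ℕ}

section Count

variable {ι κ : Type*}

/-- The multiplicities of a tuple. -/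
def cnt (c : Fin d → ι) : ι →₀ ℕ := ∑ i, Finsupp.single (c i) 1

lemma cnt_degree (c : Fin d → ι) : (cnt c).degree = d := by
  simp [cnt, map_sum]

lemma cnt_mapDomain (j : ι → κ) (c : Fin d → ι) : (cnt c).mapDomain j = cnt (j ∘ c) := by
  simp [cnt, Finsupp.mapDomain_finsetSum]

lemma cnt_apply [DecidableEq ι] (c : Fin d → ι) (a : ι) :
    cnt c a = (Finset.univ.filter fun i => c i = a).card := by
  rw [cnt, Finsupp.coe_finsetSum, Finset.sum_apply, Finset.card_filter]
  exact Finset.sum_congr rfl fun i _ => by rw [Finsupp.single_apply]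

lemma cnt_comp (c : Fin d → ι) (σ : Equiv.Perm (Fin d)) : cnt (c ∘ σ) = cnt c :=
  Equiv.sum_comp σ fun i => Finsupp.single (c i) 1

lemma exists_perm_of_cnt_eq {f g : Fin d → ι} (h : cnt f = cnt g) :
    ∃ σ : Equiv.Perm (Fin d), f = g ∘ σ := by
  classical
  have hc : ∀ a, Fintype.card {i // f i = a} = Fintype.card {i // g i = a} := by
    intro a
    rw [Fintype.card_subtype, Fintype.card_subtype, ← cnt_apply f a, ← cnt_apply g a, h]
  refine ⟨(Equiv.sigmaFiberEquiv f).symm.trans ((Equiv.sigmaCongrRight fun a =>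
    Fintype.equivOfCardEq (hc a)).trans (Equiv.sigmaFiberEquiv g)), funext fun i => ?_⟩
  exact ((Fintype.equivOfCardEq (hc (f i))) ⟨i, rfl⟩).2.symm

lemma exists_cnt : ∀ {d : ℕ} (α : ι →₀ ℕ), α.degree = d → ∃ c : Fin d → ι, cnt c = α := by
  classical
  intro d
  induction d with
  | zero =>
    intro α h
    exact ⟨Fin.elim0, by rw [(Finsupp.degree_eq_zero_iff α).1 h, cnt]; simp⟩
  | succ d ih =>
    intro α h
    obtain ⟨a, ha⟩ := Finsupp.support_nonempty_iff.2 (fun h0 : α = 0 => by simp [h0] at h)
    have hle : Finsupp.single a 1 ≤ α :=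
      Finsupp.single_le_iff.2 (Nat.one_le_iff_ne_zero.2 (Finsupp.mem_support_iff.1 ha))
    obtain ⟨c, hc⟩ := ih (α - Finsupp.single a 1) (by
      have := congrArg Finsupp.degree (tsub_add_cancel_of_le hle)
      rw [map_add, Finsupp.degree_single, h] at this
      omega)
    exact ⟨Fin.cons a c, by
      rw [cnt, Fin.sum_univ_succ]
      simp only [Fin.cons_zero, Fin.cons_succ]
      rw [show (∑ i, Finsupp.single (c i) 1) = cnt c from rfl, hc, add_tsub_cancel_of_le hle]⟩

/-- A chosen tuple with given multiplicities. -/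
def canon (f : Fin d → ι) : Fin d → ι :=
  Classical.choose (⟨f, rfl⟩ : ∃ g : Fin d → ι, cnt g = cnt f)

lemma cnt_canon (f : Fin d → ι) : cnt (canon f) = cnt f :=
  Classical.choose_spec (⟨f, rfl⟩ : ∃ g : Fin d → ι, cnt g = cnt f)

lemma canon_congr {f g : Fin d → ι} (h : cnt f = cnt g) : canon f = canon g := by
  unfold canon
  congr 1
  funext k
  rw [h]

lemma canon_canon (f : Fin d → ι) : canon (canon f) = canon f := canon_congr (cnt_canon f)

end Count

section Orb

variable (A d) in
/-- The symmetric tensors of a module. -/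
def symSub (M : Type u) [AddCommGroup M] [Module A M] : Submodule A (⨂[A] _ : Fin d, M) :=
  ⨅ σ : Equiv.Perm (Fin d), LinearMap.eqLocus
    (PiTensorProduct.reindex A (fun _ : Fin d => M) σ).toLinearMap LinearMap.id

lemma mem_symSub {x : ⨂[A] _ : Fin d, M} :
    x ∈ symSub A d M ↔ ∀ σ : Equiv.Perm (Fin d), PiTensorProduct.reindex A (fun _ : Fin d => M) σ x = x := by
  simp [symSub, LinearMap.eqLocus, Submodule.mem_iInf]

variable {κ : Type u} [Fintype κ]

variable (A d) in
/-- The orbit sums of a finite family. -/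
def orbs (v : κ → M) : (κ →₀ ℕ) →₀ (⨂[A] _ : Fin d, M) :=
  ∑ c : Fin d → κ, Finsupp.single (cnt c) (tprod A fun i => v (c i))

lemma evalAt_orbs {S : Type u} [CommSemiring S] [Algebra A S] (s : κ → S) (v : κ → M) :
    evalAt s (orbs A d v) = ∑ c : Fin d → κ, (∏ i, s (c i)) ⊗ₜ[A] tprod A fun i => v (c i) := by
  rw [orbs, map_sum]
  refine Finset.sum_congr rfl fun c _ => ?_
  rw [evalAt_single]
  congr 1
  rw [cnt, ← Finsupp.prod_finsetSum_index (by simp) (by simp [pow_add])]
  exact Finset.prod_congr rfl fun i _ => by rw [Finsupp.prod_single_index (by simp), pow_one]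

lemma orbs_mem (v : κ → M) (α : κ →₀ ℕ) : orbs A d v α ∈ symSub A d M := by
  classical
  rw [mem_symSub]
  intro σ
  simp only [orbs, Finsupp.coe_finsetSum, Finset.sum_apply, Finsupp.single_apply, map_sum]
  refine Fintype.sum_equiv (Equiv.arrowCongr σ (Equiv.refl κ)) _ _ fun c => ?_
  have h : Equiv.arrowCongr σ (Equiv.refl κ) c = c ∘ σ.symm := rfl
  rw [h, cnt_comp]
  split_ifs with hc
  · rw [PiTensorProduct.reindex_tprod]; rfl
  · exact map_zero _

lemma map_orbs (g : M →ₗ[A] P) (v : κ → M) (α : κ →₀ ℕ) :
    PiTensorProduct.map (fun _ : Fin d => g) (orbs A d v α) = orbs A d (g ∘ v) α := by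
  classical
  simp only [orbs, Finsupp.coe_finsetSum, Finset.sum_apply, Finsupp.single_apply, map_sum]
  refine Finset.sum_congr rfl fun c _ => ?_
  split_ifs
  · simp [PiTensorProduct.map_tprod]
  · exact map_zero _

variable {κ' : Type u} [Fintype κ']

/-- Multilinear expansion of the orbit sums. -/
lemma evalAt_orbs_linear {S : Type u} [CommSemiring S] [Algebra A S] (s : κ → S) (a : κ → κ' → A)
    (e : κ' → M) :
    evalAt (A := A) s (orbs A d fun j => ∑ k, a j k • e k) =
      evalAt (A := A) (fun k => ∑ j, a j k • s j) (orbs A d e) := by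
  classical
  rw [evalAt_orbs, evalAt_orbs]
  have h : ∀ c : Fin d → κ, (tprod A fun i => ∑ k, a (c i) k • e k) =
      ∑ c' : Fin d → κ', (∏ i, a (c i) (c' i)) • tprod A fun i => e (c' i) := by
    intro c
    rw [MultilinearMap.map_sum]
    exact Finset.sum_congr rfl fun c' _ => MultilinearMap.map_smul_univ _ _ _
  simp only [h, TensorProduct.tmul_sum, TensorProduct.tmul_smul]
  rw [Finset.sum_comm]
  refine Finset.sum_congr rfl fun c' _ => ?_
  rw [Fintype.prod_sum, TensorProduct.sum_tmul]
  refine Finset.sum_congr rfl fun c _ => ?_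
  rw [TensorProduct.smul_tmul']
  congr 1
  rw [Finset.prod_smul]

end Orb

section Restrict

variable {κ κ' : Type u} [Fintype κ] [Fintype κ']

lemma coeffs_comp_injective (F : M →ₚₗ[A] N) (v : κ → M) {j : κ' → κ} (hj : Function.Injective j)
    (β : κ' →₀ ℕ) : coeffs F (v ∘ j) β = coeffs F v (β.mapDomain j) := by
  classical
  let φ : MvPolynomial κ A →ₐ[A] MvPolynomial κ' A := killCompl hj
  have hφ : φ.toLinearMap.rTensor M (gen v) = gen (v ∘ j) := by
    rw [rTensor_gen, gen]
    refine (Fintype.sum_of_injective j hj _ _ (fun k hk => ?_) fun i => ?_).symm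
    · rw [show φ (X k) = 0 by simp only [φ, killCompl, aeval_X]; rw [dif_neg]; simpa using hk, TensorProduct.zero_tmul]
    · rw [show φ (X (j i)) = X i by
        rw [← rename_X j i]; exact killCompl_rename_app hj _]
      rfl
  rw [coeffs, ← hφ, toFun'_aeval, toFun'_gen]
  generalize coeffs F v = z
  induction z using Finsupp.induction_linear with
  | zero => simp
  | add z w hz hw => simp only [map_add, Finsupp.add_apply, hz, hw]
  | single α n =>
    rw [polEquiv_symm_single, LinearMap.rTensor_tmul, polEquiv_tmul, AlgHom.toLinearMap_apply,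
      Finsupp.single_apply]
    have hc : ∀ p : MvPolynomial κ A, MvPolynomial.coeff β (φ p) = MvPolynomial.coeff (β.mapDomain j) p := by
      intro p
      induction p using MvPolynomial.induction_on' with
      | add p q hp hq => rw [map_add, MvPolynomial.coeff_add, MvPolynomial.coeff_add, hp, hq]
      | monomial γ a =>
        by_cases h : ↑γ.support ⊆ Set.range j
        · obtain ⟨γ', rfl⟩ : ∃ γ', γ'.mapDomain j = γ :=
            ⟨γ.comapDomain j hj.injOn, Finsupp.mapDomain_comapDomain j hj γ h⟩
          rw [← rename_monomial, killCompl_rename_app, rename_monomial, coeff_monomial, coeff_monomial]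
          exact if_congr (Finsupp.mapDomain_injective hj).eq_iff.symm rfl rfl
        · obtain ⟨k, hk, hkj⟩ := Set.not_subset.1 h
          have h0 : φ (monomial γ a) = 0 := by
            rw [monomial_eq, map_mul, Finsupp.prod, map_prod]
            refine mul_eq_zero_of_right _ (Finset.prod_eq_zero hk ?_)
            rw [map_pow, show φ (X k) = 0 by simp only [φ, killCompl, aeval_X]; rw [dif_neg]; simpa using hkj]
            exact zero_pow (Finsupp.mem_support_iff.1 hk)
          rw [h0, MvPolynomial.coeff_zero, coeff_monomial, if_neg]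
          rintro rfl
          exact hkj (by
            obtain ⟨x, -, hx⟩ := Finset.mem_image.1 (Finsupp.mapDomain_support hk)
            exact ⟨x, hx⟩)
    rw [hc, coeff_monomial, ite_smul, one_smul, zero_smul]

end Restrict

section Free

variable {ι : Type u} (e : Module.Basis ι A M) (F : P →ₚₗ[A] N) (g : M →ₗ[A] P)

/-- The coefficient of a law at a multiplicity function on a basis. -/
def coeffAt (α : ι →₀ ℕ) : N :=
  coeffs F (fun k : {x // x ∈ α.support} => g (e k)) (α.subtypeDomain fun x => x ∈ α.support)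

lemma coeffAt_eq {κ : Type u} [Fintype κ] {j : κ → ι} (hj : Function.Injective j) (β : κ →₀ ℕ) :
    coeffAt e F g (β.mapDomain j) = coeffs F (fun k => g (e (j k))) β := by
  classical
  set α := β.mapDomain j with hα
  have hmem : ∀ x : {x // x ∈ α.support}, ∃ k, j k = x.1 := fun x => by
    obtain ⟨k, -, hk⟩ := Finset.mem_image.1 (Finsupp.mapDomain_support x.2)
    exact ⟨k, hk⟩
  choose p hp using hmem
  have hpinj : Function.Injective p := fun a b h => Subtype.ext (by rw [← hp a, ← hp b, h])
  have h1 := coeffs_comp_injective F (fun k => g (e (j k))) hpinj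
    (α.subtypeDomain fun x => x ∈ α.support)
  simp only [Function.comp_def, hp] at h1
  rw [coeffAt, h1]
  congr 1
  apply Finsupp.mapDomain_injective hj
  rw [← Finsupp.mapDomain_comp, ← hα, show j ∘ p = Subtype.val from funext hp]
  ext x
  by_cases hx : x ∈ α.support
  · rw [show x = ((⟨x, hx⟩ : {x // x ∈ α.support}) : ι) from rfl,
      Finsupp.mapDomain_apply Subtype.val_injective]
    rfl
  · rw [Finsupp.mapDomain_notin_range _ _ fun ⟨y, hy⟩ => hx (by rw [← hy]; exact y.2)]
    exact (Finsupp.notMem_support_iff.1 hx).symm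

variable (d) in
/-- The linear map on tensors giving the coefficients of a law. -/
def psi : (⨂[A] _ : Fin d, M) →ₗ[A] N :=
  haveI := Classical.decEq (Fin d → ι)
  (Basis.piTensorProduct fun _ : Fin d => e).constr ℕ
    fun f => if canon f = f then coeffAt e F g (cnt f) else 0

lemma psi_tprod (f : Fin d → ι) [Decidable (canon f = f)] :
    psi d e F g (tprod A fun i => e (f i)) = if canon f = f then coeffAt e F g (cnt f) else 0 := by
  rw [psi, ← Basis.piTensorProduct_apply (fun _ : Fin d => e) f, Module.Basis.constr_basis]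
  congr

variable {e F g}

lemma psi_orbs (hF : PolLaw.IsHomog F d) {κ : Type u} [Fintype κ] (v : κ → M) (α : κ →₀ ℕ) :
    psi d e F g (orbs A d v α) = coeffs F (g ∘ v) α := by
  classical
  -- first, injective families of basis vectors
  have h0 : ∀ {κ : Type u} [Fintype κ] (j : κ → ι), Function.Injective j → ∀ β : κ →₀ ℕ,
      psi d e F g (orbs A d (e ∘ j) β) = coeffs F (g ∘ e ∘ j) β := by
    intro κ _ j hj β
    simp only [orbs, Finsupp.coe_finsetSum, Finset.sum_apply, Finsupp.single_apply, map_sum,
      apply_ite (psi d e F g), map_zero, Function.comp_apply]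
    simp only [fun c : Fin d → κ => psi_tprod (d := d) e F g (fun i => j (c i))]
    by_cases hβ : ∃ c : Fin d → κ, cnt c = β
    · obtain ⟨c₀, rfl⟩ := hβ
      obtain ⟨σ, hσ⟩ := exists_perm_of_cnt_eq (cnt_canon (j ∘ c₀))
      rw [Finset.sum_eq_single (c₀ ∘ σ), if_pos (cnt_comp c₀ σ), if_pos]
      · rw [show (fun i => j ((c₀ ∘ σ) i)) = j ∘ (c₀ ∘ σ) from rfl, ← cnt_mapDomain, cnt_comp,
          coeffAt_eq e F g hj]
        rfl
      · rw [show (fun i => j ((c₀ ∘ σ) i)) = canon (j ∘ c₀) from hσ.symm, canon_canon]
      · intro c _ hc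
        split_ifs with h1 h2
        · refine absurd (funext fun i => hj ?_) hc
          have h3 : canon (j ∘ c) = canon (j ∘ c₀) :=
            canon_congr (by rw [← cnt_mapDomain, ← cnt_mapDomain, h1])
          exact congrFun ((h2.symm.trans h3).trans hσ) i
        all_goals rfl
      · simp
    · rw [Finset.sum_eq_zero fun c _ => if_neg fun h => hβ ⟨c, h⟩]
      by_contra hne
      have hdeg := coeffs_degree hF _ (Ne.symm hne)
      exact hβ (exists_cnt β hdeg)
  -- then expand
  let K : Finset ι := Finset.univ.biUnion fun k => (e.repr (v k)).support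
  have hv : ∀ k, v k = ∑ i : {x // x ∈ K}, e.repr (v k) i.1 • e i.1 := by
    intro k
    conv_lhs => rw [← e.linearCombination_repr (v k), Finsupp.linearCombination_apply]
    rw [Finsupp.sum_of_support_subset _ (Finset.subset_biUnion_of_mem
      (fun k => (e.repr (v k)).support) (Finset.mem_univ k)) _ (by simp)]
    exact (Finset.sum_coe_sort K fun i => e.repr (v k) i • e i).symm
  have key : (psi d e F g).lTensor _ (evalAt (X : κ → MvPolynomial κ A) (orbs A d v)) =
      evalAt (X : κ → MvPolynomial κ A) (coeffs F (g ∘ v)) := by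
    rw [funext hv, evalAt_orbs_linear, evalAt_mapRange,
      show Finsupp.mapRange (psi d e F g) (map_zero _) (orbs A d fun i : {x // x ∈ K} => e i.1) =
        coeffs F (g ∘ e ∘ Subtype.val) from
          Finsupp.ext fun β => h0 _ Subtype.val_injective β,
      ← toFun'_sum, ← toFun'_sum]
    congr 1
    simp only [Function.comp_apply, map_sum, map_smul, TensorProduct.sum_tmul,
      TensorProduct.tmul_sum, TensorProduct.smul_tmul]
    rw [Finset.sum_comm]
  have hX : ∀ z : (κ →₀ ℕ) →₀ N, polEquiv A κ N (evalAt (X : κ → MvPolynomial κ A) z) = z := by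
    intro z
    conv_lhs => rw [← (polEquiv A κ N).apply_symm_apply z, ← rTensor_aeval]
    rw [show aeval (X : κ → MvPolynomial κ A) = AlgHom.id A _ from algHom_ext fun i => by simp]
    simp
  rw [evalAt_mapRange] at key
  have := congrArg (polEquiv A κ N) key
  rw [hX, hX] at this
  exact DFunLike.congr_fun this α

end Free

end ZCLib
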