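import Groth.Agent.ZCLib.Mul
import Groth.Agent.ZCLib.Orbit
import Mathlib.RingTheory.Polynomial.Quotient
import Mathlib.RingTheory.Nilpotent.Basic

/-! Kernels of multiplicative laws. -/

noncomputable section

open TensorProduct

namespace ZCLib

universe u

variable {A : Type u} [CommRing A] {B C : Type u} [CommRing B] [Algebra A B] [CommRing C]
  [Algebra A C] {d : ℕ}

lemma map_rTensor {S S' : Type u} [CommSemiring S] [Algebra A S] [CommSemiring S'] [Algebra A S']
    (φ : S →ₐ[A] S') (F : B →ₚₗ[A] C) (x : S ⊗[A] B) :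
    F.toFun' S' (Algebra.TensorProduct.map φ (AlgHom.id A B) x) =
      Algebra.TensorProduct.map φ (AlgHom.id A C) (F.toFun' S x) := by
  rw [← rTensor_algHom, ← rTensor_algHom]
  exact (congrFun (F.isCompat' φ) x).symm

lemma law_algebraMap (F : PolLaw.MulLaw A B C d) {S : Type u} [CommSemiring S] [Algebra A S]
    (s : S) : F.law.toFun' S (s ⊗ₜ[A] (1 : B)) = (s ^ d) ⊗ₜ[A] (1 : C) := by
  rw [show s ⊗ₜ[A] (1 : B) = s • (1 : S ⊗[A] B) by
      rw [Algebra.TensorProduct.one_def, TensorProduct.smul_tmul', smul_eq_mul, mul_one],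
    F.homog, (F.mult S).1, Algebra.TensorProduct.one_def, TensorProduct.smul_tmul', smul_eq_mul,
    mul_one]

/-- The coefficient of the power `d` in the value at `1 + s z` is the value at `z`. -/
lemma coeff_top (F : PolLaw.MulLaw A B C d) {S S' : Type u} [CommRing S] [Algebra A S]
    [CommRing S'] [Algebra A S'] (L : S' →ₗ[A] S) (ι : S →ₐ[A] S') (s : S')
    (hL : ∀ (a : S) (k : ℕ), k ≤ d → L (ι a * s ^ k) = if k = d then a else 0) (z : S ⊗[A] B) :
    L.rTensor C (F.law.toFun' S'
      (1 + (s ⊗ₜ[A] (1 : B)) * Algebra.TensorProduct.map ι (AlgHom.id A B) z)) =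
      F.law.toFun' S z := by
  classical
  obtain ⟨κ, _, t, v, rfl⟩ := exists_sum S z
  have hx : (1 : S' ⊗[A] B) + (s ⊗ₜ[A] (1 : B)) *
      Algebra.TensorProduct.map ι (AlgHom.id A B) (∑ j, t j ⊗ₜ[A] v j) =
      ∑ o : Option κ, (Option.elim o 1 fun j => s * ι (t j)) ⊗ₜ[A] Option.elim o 1 v := by
    simp [Fintype.sum_option, map_sum, Finset.mul_sum, Algebra.TensorProduct.one_def]
  have hbase := coeffs_comp_injective F.law (fun o : Option κ => Option.elim o 1 v)
    (Option.some_injective κ)
  rw [hx, toFun'_sum, toFun'_sum]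
  have hdeg : ∀ α, coeffs F.law (fun o : Option κ => Option.elim o 1 v) α ≠ 0 → α.degree = d :=
    fun α hα => coeffs_degree F.homog _ hα
  set w := coeffs F.law (fun o : Option κ => Option.elim o 1 v) with hw
  have hv : coeffs F.law v = Finsupp.comapDomain (fun β : κ →₀ ℕ => β.mapDomain some) w
      (Finsupp.mapDomain_injective (Option.some_injective κ)).injOn := Finsupp.ext fun β => by
    rw [Finsupp.comapDomain_apply, hw, ← hbase]
    rfl
  rw [hv]
  clear_value w
  clear hv hw hbase hx
  induction w using Finsupp.induction with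
  | zero => simp
  | single_add α c w hα hc ih =>
    have hd' : ∀ β, w β ≠ 0 → β.degree = d := fun β hβ => hdeg β (by
      have hne : β ≠ α := fun h => hβ (h ▸ Finsupp.notMem_support_iff.1 hα)
      simpa [Finsupp.single_eq_of_ne hne] using hβ)
    have hdα : α.degree = d := hdeg α (by
      simpa [Finsupp.notMem_support_iff.1 hα] using hc)
    rw [Finsupp.comapDomain_add_of_injective (Finsupp.mapDomain_injective (Option.some_injective κ)),
      map_add, map_add, map_add, ih hd', add_left_inj, evalAt_single, LinearMap.rTensor_tmul]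
    have hprod : (α.prod fun o k => (Option.elim o (1 : S') fun j => s * ι (t j)) ^ k) =
        ι (α.some.prod fun j k => t j ^ k) * s ^ α.some.degree := by
      rw [Finsupp.prod_option_index α _ (by simp) (by simp [pow_add])]
      simp only [Option.elim, one_pow, one_mul, mul_pow]
      rw [Finsupp.prod_mul, mul_comm]
      congr 1
      · simp [map_finsuppProd]
      · rw [Finsupp.prod, Finset.prod_pow_eq_pow_sum]; rfl
    have hsplit : α none + α.some.degree = α.degree := by
      rw [Finsupp.degree_eq_sum, Finsupp.degree_eq_sum, Fintype.sum_option]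
      simp
    rw [hprod, hL _ _ (by omega)]
    by_cases h0 : α.some.degree = d
    · rw [if_pos h0]
      have hαn : α none = 0 := by omega
      have hαm : α.some.mapDomain some = α := by
        ext o
        rcases o with _ | j
        · rw [Finsupp.mapDomain_notin_range _ _ (by simp), hαn]
        · rw [Finsupp.mapDomain_apply (Option.some_injective κ), Finsupp.some_apply]
      conv_rhs => rw [show Finsupp.single α c = Finsupp.single (α.some.mapDomain some) c by rw [hαm]]
      rw [Finsupp.comapDomain_single, evalAt_single]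
    · rw [if_neg h0, TensorProduct.zero_tmul]
      have hnr : Finsupp.comapDomain (fun β : κ →₀ ℕ => β.mapDomain some) (Finsupp.single α c)
          (Finsupp.mapDomain_injective (Option.some_injective κ)).injOn = 0 := by
        ext β
        rw [Finsupp.comapDomain_apply, Finsupp.single_apply, if_neg]
        · rfl
        · rintro rfl
          apply h0
          have : (β.mapDomain some : Option κ →₀ ℕ).some = β := by
            ext j; simp [Finsupp.mapDomain_apply (Option.some_injective κ)]
          rw [this] at hsplit ⊢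
          rw [Finsupp.mapDomain_notin_range _ _ (by simp)] at hsplit
          omega
      rw [hnr, map_zero]

lemma toFun'_add_mul_aux (F : PolLaw.MulLaw A B C d) {S S' : Type u} [CommRing S] [Algebra A S]
    [CommRing S'] [Algebra A S'] (L : S' →ₗ[A] S) (ι : S →ₐ[A] S') (s : S') (hs : s ^ (d + 1) = 0)
    (hL : ∀ (a : S) (k : ℕ), k ≤ d → L (ι a * s ^ k) = if k = d then a else 0) (c : S ⊗[A] B)
    (h : ∀ w : S' ⊗[A] B,
      F.law.toFun' S' (1 + w * Algebra.TensorProduct.map ι (AlgHom.id A B) c) = 1)
    (x w : S ⊗[A] B) : F.law.toFun' S (x + w * c) = F.law.toFun' S x := by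
  rw [← coeff_top F L ι s hL, ← coeff_top F L ι s hL x]
  congr 1
  have hn : IsNilpotent ((s ⊗ₜ[A] (1 : B)) * Algebra.TensorProduct.map ι (AlgHom.id A B) x) :=
    ⟨d + 1, by rw [mul_pow, Algebra.TensorProduct.tmul_pow, hs, TensorProduct.zero_tmul, zero_mul]⟩
  obtain ⟨u, hu⟩ := hn.isUnit_one_add
  have e : 1 + (s ⊗ₜ[A] (1 : B)) * Algebra.TensorProduct.map ι (AlgHom.id A B) (x + w * c) =
      (↑u : S' ⊗[A] B) * (1 + ((↑u⁻¹ : S' ⊗[A] B) *
        ((s ⊗ₜ[A] (1 : B)) * Algebra.TensorProduct.map ι (AlgHom.id A B) w)) *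
          Algebra.TensorProduct.map ι (AlgHom.id A B) c) := by
    rw [mul_add ((↑u : S' ⊗[A] B)), mul_one, ← mul_assoc, ← mul_assoc, Units.mul_inv, one_mul,
      hu, map_add, map_mul]
    ring
  rw [e, (F.mult _).2, h, mul_one, hu]

/-- A law which takes the value `1` on `1 + w c` is constant on the cosets of `c`. -/
lemma toFun'_add_mul_of_one_add (F : PolLaw.MulLaw A B C d) {S : Type u} [CommRing S] [Algebra A S]
    (c : S ⊗[A] B)
    (h : ∀ (S' : Type u) [CommRing S'] [Algebra A S'] (ι : S →ₐ[A] S') (w : S' ⊗[A] B),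
      F.law.toFun' S' (1 + w * Algebra.TensorProduct.map ι (AlgHom.id A B) c) = 1)
    (x w : S ⊗[A] B) : F.law.toFun' S (x + w * c) = F.law.toFun' S x := by
  classical
  let I : Ideal (Polynomial S) := Ideal.span {Polynomial.X ^ (d + 1)}
  let ι : S →ₐ[A] Polynomial S ⧸ I :=
    (Ideal.Quotient.mkₐ A I).comp (IsScalarTower.toAlgHom A S (Polynomial S))
  let s : Polynomial S ⧸ I := Ideal.Quotient.mk I Polynomial.X
  let L : (Polynomial S ⧸ I) →ₗ[A] S :=
    (Submodule.liftQ (I.restrictScalars A) ((Polynomial.lcoeff S d).restrictScalars A) (by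
      intro p hp
      obtain ⟨q, rfl⟩ := Ideal.mem_span_singleton'.1 hp
      rw [LinearMap.mem_ker, LinearMap.restrictScalars_apply, Polynomial.lcoeff_apply,
        Polynomial.coeff_mul_X_pow', if_neg (by omega)])).comp
      (Submodule.Quotient.restrictScalarsEquiv A I).symm.toLinearMap
  have hL : ∀ (a : S) (k : ℕ), k ≤ d → L (ι a * s ^ k) = if k = d then a else 0 := by
    intro a k _
    have : ι a * s ^ k = Ideal.Quotient.mk I (Polynomial.C a * Polynomial.X ^ k) := by
      simp [ι, s]
    rw [this]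
    show Polynomial.coeff (Polynomial.C a * Polynomial.X ^ k) d = _
    rw [Polynomial.coeff_C_mul_X_pow]
    simp [eq_comm]
  refine toFun'_add_mul_aux F L ι s ?_ hL c (fun w' => h _ ι w') x w
  rw [← map_pow, Ideal.Quotient.eq_zero_iff_mem]
  exact Ideal.mem_span_singleton_self _

/-- Kernel membership is detected on `1 + w b`. -/
lemma mem_ker_iff (F : PolLaw.MulLaw A B C d) (b : B) :
    b ∈ PolLaw.ker F.law ↔ ∀ (S : Type u) [CommRing S] [Algebra A S] (w : S ⊗[A] B),
      F.law.toFun' S (1 + w * ((1 : S) ⊗ₜ[A] b)) = 1 := by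
  refine ⟨fun h S _ _ w => (h S 1 w).trans (F.mult S).1, fun h S _ _ x w => ?_⟩
  letI : CommRing S := (algebraMap A S).commSemiringToCommRing
  refine toFun'_add_mul_of_one_add F _ (fun S' _ _ ι w' => ?_) x w
  rw [Algebra.TensorProduct.map_tmul, map_one, AlgHom.id_apply]
  exact h S' w'

/-- The map used in the definition of the kernel of a base change. -/
def bcMap (A' R : Type u) [CommRing A'] [Algebra A A'] [CommSemiring R] [Algebra A R] [Algebra A' R]
    [IsScalarTower A A' R] : A' ⊗[A] B →ₐ[A] R ⊗[A] B :=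
  Algebra.TensorProduct.map (IsScalarTower.toAlgHom A A' R) (AlgHom.id A B)

/-- Kernel membership after base change is detected on `1 + w b`. -/
lemma mem_kerBC_iff (F : PolLaw.MulLaw A B C d) (A' : Type u) [CommRing A'] [Algebra A A']
    (b : A' ⊗[A] B) :
    b ∈ PolLaw.kerBC F.law A' ↔ ∀ (R : Type u) [CommRing R] [Algebra A R] [Algebra A' R]
      [IsScalarTower A A' R] (w : R ⊗[A] B), F.law.toFun' R (1 + w * bcMap A' R b) = 1 := by
  refine ⟨fun h R _ _ _ _ w => (h R 1 w).trans (F.mult R).1, fun h R _ _ _ _ x w => ?_⟩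
  letI : CommRing R := (algebraMap A R).commSemiringToCommRing
  refine toFun'_add_mul_of_one_add F _ (fun R' _ _ ι w' => ?_) x w
  letI : Algebra A' R' := (ι.toRingHom.comp (algebraMap A' R)).toAlgebra
  haveI : IsScalarTower A A' R' := IsScalarTower.of_algebraMap_eq fun a => by
    show algebraMap A R' a = ι (algebraMap A' R (algebraMap A A' a))
    rw [← IsScalarTower.algebraMap_apply, ι.commutes]
  have e : (Algebra.TensorProduct.map ι (AlgHom.id A B))
      (Algebra.TensorProduct.map (IsScalarTower.toAlgHom A A' R) (AlgHom.id A B) b) =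
      bcMap A' R' b := by
    rw [bcMap, ← AlgHom.comp_apply]
    congr 1
    ext <;> simp [RingHom.algebraMap_toAlgebra]
  rw [e]
  exact h R' w'

lemma map_ker_le_kerBC (F : PolLaw.MulLaw A B C d) (A' : Type u) [CommRing A'] [Algebra A A'] :
    (PolLaw.ker F.law).map (Algebra.TensorProduct.includeRight : B →ₐ[A] A' ⊗[A] B) ≤
      PolLaw.kerBC F.law A' := by
  refine Ideal.map_le_iff_le_comap.2 fun b hb R _ _ _ _ x w => ?_
  rw [Algebra.TensorProduct.includeRight_apply, Algebra.TensorProduct.map_tmul, map_one,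
    AlgHom.id_apply]
  exact hb R x w

lemma comap_ker_le {B' : Type u} [CommRing B'] [Algebra A B'] (F : PolLaw.MulLaw A B C d)
    (φ : B' →ₐ[A] B) : (PolLaw.ker F.law).comap φ ≤ PolLaw.ker (F.precomp φ).law := by
  intro b hb S _ _ x w
  show F.law.toFun' S (φ.toLinearMap.lTensor S _) = F.law.toFun' S (φ.toLinearMap.lTensor S x)
  rw [PolLaw.lTensor_algHom_apply, PolLaw.lTensor_algHom_apply, map_add, map_mul,
    Algebra.TensorProduct.map_tmul, map_one]
  exact hb S _ _

end ZCLib
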