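import Groth.Agent.ZCLib.Mul
import Groth.Agent.ZCLib.Ker
import Mathlib.Algebra.Polynomial.Div

/-! Surjectivity of Iversen's map. -/

noncomputable section

open TensorProduct

namespace ZCLib

universe u

variable {A : Type u} [CommRing A] {D : Type u} [CommRing D] [Algebra A D] {κ : Type u}

/-- Tensors over a polynomial ring in one more variable as iterated polynomials. -/
def polPol (A D κ : Type u) [CommRing A] [CommRing D] [Algebra A D] :
    Polynomial (MvPolynomial κ A) ⊗[A] D →ₐ[A] Polynomial (MvPolynomial κ D) :=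
  Algebra.TensorProduct.lift (Polynomial.mapAlgHom (MvPolynomial.mapAlgHom (Algebra.ofId A D)))
    ((IsScalarTower.toAlgHom A (MvPolynomial κ D) (Polynomial (MvPolynomial κ D))).comp
      (IsScalarTower.toAlgHom A D (MvPolynomial κ D))) fun _ _ => Commute.all _ _

lemma coeff_coeff_zero_polPol (y : Polynomial (MvPolynomial κ A) ⊗[A] D) (α : κ →₀ ℕ) :
    MvPolynomial.coeff α ((polPol A D κ y).coeff 0) =
      polEquiv A κ D (Algebra.TensorProduct.map
        ((Polynomial.aeval (0 : MvPolynomial κ A)).restrictScalars A) (AlgHom.id A D) y) α := by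
  induction y with
  | zero => simp
  | tmul p c =>
    rw [Algebra.TensorProduct.map_tmul, polEquiv_tmul]
    simp only [polPol, Algebra.TensorProduct.lift_tmul, AlgHom.comp_apply,
      IsScalarTower.coe_toAlgHom', AlgHom.restrictScalars_apply, AlgHom.id_apply,
      ← Polynomial.C_eq_algebraMap, Polynomial.coeff_mul_C, MvPolynomial.algebraMap_eq]
    rw [mul_comm, MvPolynomial.coeff_C_mul, Algebra.smul_def, mul_comm]
    congr 1
    simp [Polynomial.aeval_def, Polynomial.coeff_zero_eq_eval_zero, MvPolynomial.coeff_map]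
  | add a b ha hb => simp only [map_add, Polynomial.coeff_add, MvPolynomial.coeff_add,
      Finsupp.add_apply, ha, hb]

lemma exists_map_eq_of_mul_monic {R S : Type*} [CommRing R] [CommRing S] (f : R →+* S)
    (Q L : Polynomial R) (hL : L.Monic) (P : Polynomial S) (h : Q.map f = P * L.map f) :
    ∃ P' : Polynomial R, P'.map f = P := by
  refine ⟨Q /ₘ L, ?_⟩
  rw [Polynomial.map_divByMonic _ hL, h, mul_comm]
  exact Polynomial.mul_divByMonic_cancel_left _ (hL.map _)

variable {B Cd Ce : Type u} [CommRing B] [Algebra A B] [CommRing Cd] [Algebra A Cd] [CommRing Ce]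
  [Algebra A Ce]

lemma iversen_surjective {e : ℕ} (γd : PolLaw.MulLaw A B Cd (e + 1))
    (γe : PolLaw.MulLaw A B Ce e) (hγe : PolLaw.IsGammaD γe)
    (ω : Cd ⊗[A] B →ₐ[A] Ce ⊗[A] B)
    (hω : ∀ (S : Type u) [CommSemiring S] [Algebra A S] (x y : S ⊗[A] B),
      ω.toLinearMap.lTensor S
        ((Algebra.TensorProduct.includeLeft : Cd →ₐ[A] Cd ⊗[A] B).toLinearMap.lTensor S (γd.law.toFun' S x) *
          (Algebra.TensorProduct.includeRight : B →ₐ[A] Cd ⊗[A] B).toLinearMap.lTensor S y) =
      (Algebra.TensorProduct.includeLeft : Ce →ₐ[A] Ce ⊗[A] B).toLinearMap.lTensor S (γe.law.toFun' S x) *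
        (Algebra.TensorProduct.includeRight : B →ₐ[A] Ce ⊗[A] B).toLinearMap.lTensor S (x * y)) :
    Function.Surjective ω := by
  classical
  let E : Subalgebra A (Ce ⊗[A] B) := ω.range
  have hb : ∀ b : B, (1 : Ce) ⊗ₜ[A] b ∈ E := by
    intro b
    have h := hω A 1 ((1 : A) ⊗ₜ[A] b)
    rw [(γd.mult A).1, (γe.mult A).1] at h
    simp only [Algebra.TensorProduct.one_def, LinearMap.lTensor_tmul, AlgHom.toLinearMap_apply,
      Algebra.TensorProduct.includeLeft_apply, Algebra.TensorProduct.includeRight_apply,
      Algebra.TensorProduct.tmul_mul_tmul, one_mul] at h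
    have h' := congrArg (TensorProduct.lid A (Ce ⊗[A] B)) h
    simp only [TensorProduct.lid_tmul, one_smul] at h'
    exact ⟨_, h'⟩
  have hcoef : ∀ (κ : Type u) [Fintype κ] (v : κ → B) (α : κ →₀ ℕ),
      coeffs γe.law v α ⊗ₜ[A] (1 : B) ∈ E := by
    intro κ _ v α
    let il : Ce →ₐ[A] Ce ⊗[A] B := Algebra.TensorProduct.includeLeft
    let ir : B →ₐ[A] Ce ⊗[A] B := Algebra.TensorProduct.includeRight
    let S := Polynomial (MvPolynomial κ A)
    let x : Polynomial (MvPolynomial κ A) ⊗[A] B :=
      Polynomial.X ⊗ₜ[A] 1 + ∑ j, Polynomial.C (MvPolynomial.X j) ⊗ₜ[A] v j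
    have h := hω (Polynomial (MvPolynomial κ A)) x 1
    rw [mul_one, PolLaw.lTensor_algHom_apply _ _ (1 : Polynomial (MvPolynomial κ A) ⊗[A] B), map_one,
      mul_one] at h
    have hQ : ∀ z : Polynomial (MvPolynomial κ A) ⊗[A] (Cd ⊗[A] B),
        ∃ Q : Polynomial (MvPolynomial κ (Cd ⊗[A] B)), Q.map (MvPolynomial.map ω.toRingHom) =
          polPol A (Ce ⊗[A] B) κ (ω.toLinearMap.lTensor _ z) := by
      intro z
      induction z with
      | zero => exact ⟨0, by simp⟩
      | tmul p c =>
        refine ⟨p.map (MvPolynomial.map (algebraMap A (Cd ⊗[A] B))) *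
          Polynomial.C (MvPolynomial.C c), ?_⟩
        simp only [Polynomial.map_mul, Polynomial.map_C, MvPolynomial.map_C, LinearMap.lTensor_tmul,
          polPol, Algebra.TensorProduct.lift_tmul, Polynomial.map_map]
        congr 1
        show _ = Polynomial.map _ p
        congr 1
        refine MvPolynomial.ringHom_ext (fun a => ?_) fun j => ?_
        · simp
          rw [← Algebra.TensorProduct.algebraMap_apply, ← Algebra.TensorProduct.algebraMap_apply,
            AlgHom.commutes]
        · simp
      | add a b ha hb =>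
        obtain ⟨P, hP⟩ := ha
        obtain ⟨Q, hQ⟩ := hb
        exact ⟨P + Q, by simp only [Polynomial.map_add, map_add, hP, hQ]⟩
    obtain ⟨Q, hQ'⟩ := hQ _
    choose pre hpre using fun j => hb (v j)
    let L : Polynomial (MvPolynomial κ (Cd ⊗[A] B)) := Polynomial.X +
      Polynomial.C (∑ j, MvPolynomial.X j * MvPolynomial.C (pre j))
    have hLm : L.Monic := Polynomial.monic_X_add_C _
    set P := polPol A (Ce ⊗[A] B) κ (il.toLinearMap.lTensor _ (γe.law.toFun' _ x)) with hP
    have hL : L.map (MvPolynomial.map ω.toRingHom) =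
        polPol A (Ce ⊗[A] B) κ (ir.toLinearMap.lTensor _ x) := by
      simp only [L, x, ir, map_add, map_sum, LinearMap.lTensor_tmul, AlgHom.toLinearMap_apply,
        Algebra.TensorProduct.includeRight_apply, polPol, Algebra.TensorProduct.lift_tmul,
        Polynomial.map_add, Polynomial.map_X, Polynomial.map_C, map_mul, MvPolynomial.map_X,
        MvPolynomial.map_C, AlgHom.comp_apply, IsScalarTower.coe_toAlgHom']
      have hpre' : ∀ j, ω (pre j) = (1 : Ce) ⊗ₜ[A] v j := hpre
      simp [← Polynomial.C_eq_algebraMap, hpre', Polynomial.map_sum, MvPolynomial.algebraMap_eq,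
        ← Algebra.TensorProduct.one_def]
    rw [h, map_mul, ← hL, ← hP] at hQ'
    obtain ⟨P', hdiv⟩ := exists_map_eq_of_mul_monic (MvPolynomial.map ω.toRingHom) Q L hLm P hQ'
    have h0 := congrArg (fun p => MvPolynomial.coeff α (Polynomial.coeff p 0)) hdiv
    simp only [Polynomial.coeff_map, MvPolynomial.coeff_map] at h0
    have hval : MvPolynomial.coeff α (P.coeff 0) = coeffs γe.law v α ⊗ₜ[A] (1 : B) := by
      rw [hP, coeff_coeff_zero_polPol]
      have hnat : Algebra.TensorProduct.map
          ((Polynomial.aeval (0 : MvPolynomial κ A)).restrictScalars A) (AlgHom.id A (Ce ⊗[A] B))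
          (il.toLinearMap.lTensor _ (γe.law.toFun' _ x)) =
          il.toLinearMap.lTensor _ (γe.law.toFun' _ (gen v)) := by
        have hc : ∀ z : Polynomial (MvPolynomial κ A) ⊗[A] Ce, Algebra.TensorProduct.map
            ((Polynomial.aeval (0 : MvPolynomial κ A)).restrictScalars A) (AlgHom.id A (Ce ⊗[A] B))
            (il.toLinearMap.lTensor _ z) = il.toLinearMap.lTensor _ (Algebra.TensorProduct.map
            ((Polynomial.aeval (0 : MvPolynomial κ A)).restrictScalars A) (AlgHom.id A Ce) z) := by
          intro z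
          induction z with
          | zero => simp
          | tmul p c => simp
          | add a b ha hb => simp only [map_add, ha, hb]
        rw [hc, ← map_rTensor]
        simp [x, gen]
      rw [hnat, polEquiv_lTensor]
      rfl
    rw [hval] at h0
    exact ⟨_, h0⟩
  intro z
  suffices hz : z ∈ E from hz
  induction z with
  | zero => exact zero_mem _
  | add a b ha hb => exact add_mem ha hb
  | tmul c b =>
    rw [show c ⊗ₜ[A] b = (c ⊗ₜ[A] (1 : B)) * ((1 : Ce) ⊗ₜ[A] b) by simp]
    refine mul_mem ?_ (hb b)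
    have hc : c ∈ Submodule.span A (coeffSet γe.law ⊤) := by
      rw [span_coeffSet_eq_top hγe]; trivial
    induction hc using Submodule.span_induction with
    | zero => rw [TensorProduct.zero_tmul]; exact zero_mem _
    | add a b _ _ ha hb => rw [TensorProduct.add_tmul]; exact add_mem ha hb
    | smul r a _ ha => rw [← TensorProduct.smul_tmul']; exact Subalgebra.smul_mem _ ha r
    | mem a ha =>
      obtain ⟨κ, _, v, α, -, rfl⟩ := ha
      exact hcoef κ v α

end ZCLib
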