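import Groth.Prelude.Def_PolLaw
import Mathlib.RingTheory.Spectrum.Prime.Topology
import Mathlib.Algebra.Algebra.Prod

/-!
Multiplicative laws on a product `B₁ × B₂` split as products of laws on the factors when the
spectrum of the base ring is connected.
-/

set_option autoImplicit false
universe u
open scoped TensorProduct
open Polynomial LinearMap

namespace Groth.Agent.ZCLib.Prod

section gen

/-- A multiplicative polynomial in one variable over a ring with connected spectrum is a power of
the variable. -/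
lemma eq_X_pow {A : Type u} [CommRing A] [Nontrivial A]
    (hA : ∀ e : A, IsIdempotentElem e → e = 0 ∨ e = 1) (g : A[X]) (h1 : g.eval 1 = 1)
    (hmul : C g * g.map C = aeval (C X * X : A[X][X]) g) : ∃ n, g = X ^ n := by
  have hco : ∀ i j, g.coeff i * g.coeff j = if i = j then g.coeff j else 0 := by
    intro i j
    have h := congrArg (fun p : A[X][X] => (p.coeff j).coeff i) hmul
    simp only [coeff_C_mul, coeff_map, coeff_mul_C] at h
    rw [h, aeval_eq_sum_range, finsetSum_coeff, finsetSum_coeff]
    rw [Finset.sum_eq_single j]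
    · rw [mul_pow, ← C_pow, coeff_smul, coeff_C_mul, coeff_X_pow, if_pos rfl, mul_one, coeff_smul,
        coeff_X_pow]
      split_ifs <;> simp
    · intro b _ hb
      rw [mul_pow, ← C_pow, coeff_smul, coeff_C_mul, coeff_X_pow, if_neg (Ne.symm hb), mul_zero,
        smul_zero, coeff_zero]
    · intro hj
      have : g.coeff j = 0 := coeff_eq_zero_of_natDegree_lt (by simpa using hj)
      simp [this]
  have hex : ∃ n, g.coeff n = 1 := by
    by_contra hn
    simp only [not_exists] at hn
    have : g = 0 := by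
      ext n
      have hidem : IsIdempotentElem (g.coeff n) := by
        have := hco n n
        rwa [if_pos rfl] at this
      exact (hA _ hidem).resolve_right (hn n)
    simp [this] at h1
  obtain ⟨n, hn⟩ := hex
  refine ⟨n, ?_⟩
  ext m
  rw [coeff_X_pow]
  split_ifs with h
  · rw [h, hn]
  · have := hco n m
    rwa [if_neg (Ne.symm h), hn, one_mul] at this

lemma idempotent_eq {A : Type u} [CommRing A] [ConnectedSpace (PrimeSpectrum A)] (e : A)
    (he : IsIdempotentElem e) : e = 0 ∨ e = 1 := by
  have hc : IsClopen (PrimeSpectrum.basicOpen e : Set (PrimeSpectrum A)) :=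
    PrimeSpectrum.isClopen_iff.2 ⟨e, he, rfl⟩
  rcases isClopen_iff.1 hc with h | h
  · left
    have hnil : IsNilpotent e := (PrimeSpectrum.basicOpen_eq_bot_iff e).1 (SetLike.coe_injective (by simpa using h))
    obtain ⟨n, hn⟩ := hnil
    rcases Nat.eq_zero_or_pos n with rfl | hn0
    · have : (1 : A) = 0 := by simpa using hn
      calc e = e * 1 := (mul_one e).symm
        _ = 0 := by rw [this, mul_zero]
    · rw [← hn, he.pow_eq hn0.ne']
  · right
    have hu : IsUnit e := by
      by_contra hu
      obtain ⟨m, hm, hem⟩ := exists_max_ideal_of_mem_nonunits hu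
      have hmem : (⟨m, hm.isPrime⟩ : PrimeSpectrum A) ∈ (PrimeSpectrum.basicOpen e : Set _) :=
        h ▸ Set.mem_univ _
      exact hmem hem
    exact (IsIdempotentElem.iff_eq_one_of_isUnit hu).1 he

variable {A : Type u} [CommRing A] {B₁ : Type u} [CommRing B₁] [Algebra A B₁] {B₂ : Type u}
  [CommRing B₂] [Algebra A B₂]

lemma inl_mul (S : Type u) [CommSemiring S] [Algebra A S] (x y : S ⊗[A] B₁) :
    (inl A B₁ B₂).lTensor S (x * y) = (inl A B₁ B₂).lTensor S x * (inl A B₁ B₂).lTensor S y := by
  induction x using TensorProduct.induction_on with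
  | zero => simp
  | add a b ha hb => simp [add_mul, ha, hb]
  | tmul a b =>
    induction y using TensorProduct.induction_on with
    | zero => simp
    | add c d hc hd => simp [mul_add, hc, hd]
    | tmul c d =>
      rw [Algebra.TensorProduct.tmul_mul_tmul, lTensor_tmul, lTensor_tmul, lTensor_tmul,
        Algebra.TensorProduct.tmul_mul_tmul]
      simp

lemma inr_mul (S : Type u) [CommSemiring S] [Algebra A S] (x y : S ⊗[A] B₂) :
    (inr A B₁ B₂).lTensor S (x * y) = (inr A B₁ B₂).lTensor S x * (inr A B₁ B₂).lTensor S y := by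
  induction x using TensorProduct.induction_on with
  | zero => simp
  | add a b ha hb => simp [add_mul, ha, hb]
  | tmul a b =>
    induction y using TensorProduct.induction_on with
    | zero => simp
    | add c d hc hd => simp [mul_add, hc, hd]
    | tmul c d =>
      rw [Algebra.TensorProduct.tmul_mul_tmul, lTensor_tmul, lTensor_tmul, lTensor_tmul,
        Algebra.TensorProduct.tmul_mul_tmul]
      simp

lemma inl_inr (S : Type u) [CommSemiring S] [Algebra A S] (x : S ⊗[A] B₁) (y : S ⊗[A] B₂) :
    (inl A B₁ B₂).lTensor S x * (inr A B₁ B₂).lTensor S y = 0 := by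
  induction x using TensorProduct.induction_on with
  | zero => simp
  | add a b ha hb => simp [add_mul, ha, hb]
  | tmul a b =>
    induction y using TensorProduct.induction_on with
    | zero => simp
    | add c d hc hd => rw [map_add, mul_add, hc, hd, add_zero]
    | tmul c d =>
      rw [lTensor_tmul, lTensor_tmul, Algebra.TensorProduct.tmul_mul_tmul]
      simp [show ((b, 0) : B₁ × B₂) * (0, d) = 0 by ext <;> simp]

lemma inl_add_inr (S : Type u) [CommSemiring S] [Algebra A S] (z : S ⊗[A] (B₁ × B₂)) :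
    (inl A B₁ B₂).lTensor S ((fst A B₁ B₂).lTensor S z) +
      (inr A B₁ B₂).lTensor S ((snd A B₁ B₂).lTensor S z) = z := by
  induction z using TensorProduct.induction_on with
  | zero => simp
  | tmul a b => simp [← TensorProduct.tmul_add]
  | add a b ha hb =>
    simp only [map_add]
    rw [add_add_add_comm, ha, hb]

lemma one_eq (S : Type u) [CommSemiring S] [Algebra A S] :
    (1 : S ⊗[A] (B₁ × B₂)) =
      (inl A B₁ B₂).lTensor S 1 + (inr A B₁ B₂).lTensor S 1 := by
  rw [Algebra.TensorProduct.one_def, Algebra.TensorProduct.one_def, Algebra.TensorProduct.one_def,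
    lTensor_tmul, lTensor_tmul, ← TensorProduct.tmul_add]
  simp [Prod.one_eq_mk]

variable {d : ℕ} (F : PolLaw.MulLaw A (B₁ × B₂) A d)

lemma isCompat' {M N : Type u} [AddCommGroup M] [Module A M] [AddCommGroup N] [Module A N]
    (f : M →ₚₗ[A] N) {S T : Type u} [CommSemiring S] [Algebra A S] [CommSemiring T] [Algebra A T]
    (h : S →ₐ[A] T) (t : S ⊗[A] M) :
    h.toLinearMap.rTensor N (f.toFun' S t) = f.toFun' T (h.toLinearMap.rTensor M t) := by
  exact congr_fun (f.isCompat' h) t

lemma rTensor_lTensor {M N : Type u} [AddCommGroup M] [Module A M] [AddCommGroup N] [Module A N]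
    (f : M →ₗ[A] N) {S T : Type u} [CommSemiring S] [Algebra A S] [CommSemiring T] [Algebra A T]
    (h : S →ₐ[A] T) (t : S ⊗[A] M) :
    h.toLinearMap.rTensor N (f.lTensor S t) = f.lTensor T (h.toLinearMap.rTensor M t) := by
  rw [← LinearMap.comp_apply, LinearMap.rTensor_comp_lTensor, ← LinearMap.lTensor_comp_rTensor,
    LinearMap.comp_apply]

lemma rTensor_one {M : Type u} [CommRing M] [Algebra A M] {S T : Type u} [CommSemiring S]
    [Algebra A S] [CommSemiring T] [Algebra A T] (h : S →ₐ[A] T) :
    h.toLinearMap.rTensor M (1 : S ⊗[A] M) = 1 := by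
  rw [Algebra.TensorProduct.one_def, rTensor_tmul, AlgHom.toLinearMap_apply, map_one]
  rfl

/-- the two idempotents scaled -/
def tw (S : Type u) [CommSemiring S] [Algebra A S] (s t : S) : S ⊗[A] (B₁ × B₂) :=
  s ⊗ₜ[A] ((1 : B₁), (0 : B₂)) + t ⊗ₜ[A] ((0 : B₁), (1 : B₂))

lemma rTensor_tw {S T : Type u} [CommSemiring S] [Algebra A S] [CommSemiring T] [Algebra A T]
    (h : S →ₐ[A] T) (s t : S) :
    h.toLinearMap.rTensor (B₁ × B₂) (tw S s t) = tw T (h s) (h t) := by
  simp [tw]

lemma tw_mul (S : Type u) [CommSemiring S] [Algebra A S] (s t s' t' : S) :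
    (tw S s t : S ⊗[A] (B₁ × B₂)) * tw S s' t' = tw S (s * s') (t * t') := by
  simp [tw, add_mul, mul_add, Algebra.TensorProduct.tmul_mul_tmul, Prod.mk_mul_mk, show ((0 : B₁), (0 : B₂)) = 0 from rfl]

lemma tw_one (S : Type u) [CommSemiring S] [Algebra A S] :
    (tw S 1 1 : S ⊗[A] (B₁ × B₂)) = 1 := by
  rw [Algebra.TensorProduct.one_def, tw, ← TensorProduct.tmul_add]
  simp [Prod.one_eq_mk]

lemma tw_self (S : Type u) [CommSemiring S] [Algebra A S] (s : S) :
    (tw S s s : S ⊗[A] (B₁ × B₂)) = s • 1 := by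
  rw [Algebra.TensorProduct.one_def, TensorProduct.smul_tmul', tw, ← TensorProduct.tmul_add]
  simp [Prod.one_eq_mk]

/-- value of `F` at a twisted idempotent combination, as an element of `S` -/
def chi (S : Type u) [CommSemiring S] [Algebra A S] (s t : S) : S :=
  Algebra.TensorProduct.rid A S S (F.law.toFun' S (tw S s t))

lemma map_chi {S T : Type u} [CommSemiring S] [Algebra A S] [CommSemiring T] [Algebra A T]
    (h : S →ₐ[A] T) (s t : S) : h (chi F S s t) = chi F T (h s) (h t) := by
  rw [chi, chi, ← rTensor_tw, ← isCompat']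
  induction F.law.toFun' S (tw S s t) using TensorProduct.induction_on with
  | zero => simp
  | tmul a b => simp
  | add a b ha hb => simp [ha, hb]

lemma chi_mul (S : Type u) [CommSemiring S] [Algebra A S] (s t s' t' : S) :
    chi F S s t * chi F S s' t' = chi F S (s * s') (t * t') := by
  rw [chi, chi, chi, ← map_mul, ← (F.mult S).2, tw_mul]

lemma chi_one (S : Type u) [CommSemiring S] [Algebra A S] : chi F S 1 1 = 1 := by
  rw [chi, tw_one, (F.mult S).1, map_one]

lemma law_tw (S : Type u) [CommSemiring S] [Algebra A S] (s t : S) :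
    F.law.toFun' S (tw S s t) = chi F S s t ⊗ₜ[A] 1 := by
  apply (Algebra.TensorProduct.rid A S S).injective
  simp [chi]

variable [ConnectedSpace (PrimeSpectrum A)]

instance : Nontrivial A := PrimeSpectrum.nonempty_iff_nontrivial.1 inferInstance

omit [ConnectedSpace (PrimeSpectrum A)] in
lemma aeval_C_X (g : A[X]) : aeval (C X : A[X][X]) g = C g := by
  induction g using Polynomial.induction_on' with
  | add a b ha hb => simp [ha, hb]
  | monomial n a => simp [← C_mul_X_pow_eq_monomial, Polynomial.algebraMap_apply]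

omit [ConnectedSpace (PrimeSpectrum A)] in
lemma aeval_X' (g : A[X]) : aeval (X : A[X][X]) g = g.map C := by
  induction g using Polynomial.induction_on' with
  | add a b ha hb => simp [ha, hb]
  | monomial n a => simp [← C_mul_X_pow_eq_monomial, Polynomial.algebraMap_apply]

/-- A multiplicative natural endomap of test algebras is a power map over a connected base. -/
lemma exists_pow (f : ∀ (S : Type u) [CommSemiring S] [Algebra A S], S → S)
    (hnat : ∀ (S T : Type u) [CommSemiring S] [Algebra A S] [CommSemiring T] [Algebra A T]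
      (h : S →ₐ[A] T) (s : S), h (f S s) = f T (h s))
    (hmul : ∀ (S : Type u) [CommSemiring S] [Algebra A S] (s s' : S), f S s * f S s' = f S (s * s'))
    (hone : ∀ (S : Type u) [CommSemiring S] [Algebra A S], f S 1 = 1) :
    ∃ n, ∀ (S : Type u) [CommSemiring S] [Algebra A S] (s : S), f S s = s ^ n := by
  have e1 : (f A[X] X).eval 1 = 1 := by
    have h := hnat A[X] A (aeval (1 : A)) X
    rw [aeval_X, hone, coe_aeval_eq_eval] at h
    exact h
  have e2 : C (f A[X] X) * (f A[X] X).map C = aeval (C X * X : A[X][X]) (f A[X] X) := by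
    have h1 := hnat A[X] A[X][X] (aeval (C X : A[X][X])) X
    have h2 := hnat A[X] A[X][X] (aeval (X : A[X][X])) X
    have h3 := hnat A[X] A[X][X] (aeval (C X * X : A[X][X])) X
    rw [aeval_X] at h1 h2 h3
    rw [h3, ← hmul, ← h1, ← h2, aeval_C_X, aeval_X']
  obtain ⟨n, hn⟩ := eq_X_pow idempotent_eq (f A[X] X) e1 e2
  refine ⟨n, fun S _ _ s => ?_⟩
  have h := hnat A[X] S (aeval s) X
  rw [aeval_X, hn, map_pow, aeval_X] at h
  exact h.symm

variable (d) in
/-- the two degrees -/
lemma exists_degrees : ∃ d₁ d₂ : ℕ, d₁ + d₂ = d ∧ ∀ (S : Type u) [CommSemiring S] [Algebra A S] (s : S),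
    chi F S s 1 = s ^ d₁ ∧ chi F S 1 s = s ^ d₂ := by
  obtain ⟨d₁, h₁⟩ := exists_pow (fun S _ _ s => chi F S s 1)
    (fun S T _ _ _ _ h s => by rw [map_chi, map_one])
    (fun S _ _ s s' => by rw [chi_mul, one_mul]) (fun S _ _ => chi_one F S)
  obtain ⟨d₂, h₂⟩ := exists_pow (fun S _ _ s => chi F S 1 s)
    (fun S T _ _ _ _ h s => by rw [map_chi, map_one])
    (fun S _ _ s s' => by rw [chi_mul, one_mul]) (fun S _ _ => chi_one F S)
  refine ⟨d₁, d₂, ?_, fun S _ _ s => ⟨h₁ S s, h₂ S s⟩⟩
  have h : chi F A[X] X X = X ^ d := by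
    rw [chi, tw_self, F.homog, (F.mult A[X]).1, map_smul, map_one, smul_eq_mul, mul_one]
  have h' := chi_mul F A[X] X 1 1 X
  rw [one_mul, mul_one, h₁, h₂, h, ← pow_add] at h'
  simpa using congrArg Polynomial.natDegree h'

/-- restriction of a law on the product to the first factor -/
def leftLaw : B₁ →ₚₗ[A] A where
  toFun' S _ _ x := F.law.toFun' S ((inl A B₁ B₂).lTensor S x + tw S 0 1)
  isCompat' {S} _ _ {T} _ _ h := by
    funext x
    simp only [Function.comp_apply]
    rw [isCompat', map_add, rTensor_tw, rTensor_lTensor, map_zero, map_one]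

/-- restriction of a law on the product to the second factor -/
def rightLaw : B₂ →ₚₗ[A] A where
  toFun' S _ _ x := F.law.toFun' S (tw S 1 0 + (inr A B₁ B₂).lTensor S x)
  isCompat' {S} _ _ {T} _ _ h := by
    funext x
    simp only [Function.comp_apply]
    rw [isCompat', map_add, rTensor_tw, rTensor_lTensor, map_zero, map_one]

omit [ConnectedSpace (PrimeSpectrum A)] in
lemma inl_one (S : Type u) [CommSemiring S] [Algebra A S] :
    (inl A B₁ B₂).lTensor S 1 = tw S 1 0 := by
  simp [tw, Algebra.TensorProduct.one_def]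

omit [ConnectedSpace (PrimeSpectrum A)] in
lemma inr_one (S : Type u) [CommSemiring S] [Algebra A S] :
    (inr A B₁ B₂).lTensor S 1 = tw S 0 1 := by
  simp [tw, Algebra.TensorProduct.one_def]

omit [ConnectedSpace (PrimeSpectrum A)] in
lemma inl_smul (S : Type u) [CommSemiring S] [Algebra A S] (s : S) (x : S ⊗[A] B₁) :
    (inl A B₁ B₂).lTensor S (s • x) = s • (inl A B₁ B₂).lTensor S x := by
  induction x using TensorProduct.induction_on with
  | zero => simp
  | tmul a b => simp [TensorProduct.smul_tmul']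
  | add a b ha hb => simp [ha, hb]

omit [ConnectedSpace (PrimeSpectrum A)] in
lemma inr_smul (S : Type u) [CommSemiring S] [Algebra A S] (s : S) (x : S ⊗[A] B₂) :
    (inr A B₁ B₂).lTensor S (s • x) = s • (inr A B₁ B₂).lTensor S x := by
  induction x using TensorProduct.induction_on with
  | zero => simp
  | tmul a b => simp [TensorProduct.smul_tmul']
  | add a b ha hb => simp [ha, hb]

omit [ConnectedSpace (PrimeSpectrum A)] in
lemma isMult_leftLaw : PolLaw.IsMult (leftLaw F) := by
  intro S _ _
  refine ⟨?_, fun x y => ?_⟩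
  · show F.law.toFun' S ((inl A B₁ B₂).lTensor S 1 + tw S 0 1) = 1
    rw [← inr_one, ← one_eq, (F.mult S).1]
  · show F.law.toFun' S ((inl A B₁ B₂).lTensor S (x * y) + tw S 0 1) = _ * _
    rw [leftLaw, ← (F.mult S).2, ← inr_one, add_mul, mul_add, mul_add, ← inl_mul, inl_inr,
      mul_comm ((inr A B₁ B₂).lTensor S 1), inl_inr, ← inr_mul, mul_one, add_zero, zero_add]

omit [ConnectedSpace (PrimeSpectrum A)] in
lemma isMult_rightLaw : PolLaw.IsMult (rightLaw F) := by
  intro S _ _
  refine ⟨?_, fun x y => ?_⟩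
  · show F.law.toFun' S (tw S 1 0 + (inr A B₁ B₂).lTensor S 1) = 1
    rw [← inl_one, ← one_eq, (F.mult S).1]
  · show F.law.toFun' S (tw S 1 0 + (inr A B₁ B₂).lTensor S (x * y)) = _ * _
    rw [rightLaw, ← (F.mult S).2, ← inl_one, add_mul, mul_add, mul_add, ← inl_mul, inl_inr,
      mul_comm ((inr A B₁ B₂).lTensor S x) ((inl A B₁ B₂).lTensor S 1), inl_inr, ← inr_mul, mul_one,
      add_zero, zero_add]

omit [ConnectedSpace (PrimeSpectrum A)] in
lemma isHomog_leftLaw {n : ℕ} (hn : ∀ (S : Type u) [CommSemiring S] [Algebra A S] (s : S),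
    chi F S s 1 = s ^ n) : PolLaw.IsHomog (leftLaw F) n := by
  intro S _ _ s x
  show F.law.toFun' S ((inl A B₁ B₂).lTensor S (s • x) + tw S 0 1) = _
  have h : (inl A B₁ B₂).lTensor S (s • x) + tw S 0 1 =
      tw S s 1 * ((inl A B₁ B₂).lTensor S x + tw S 0 1) := by
    have hs : (tw S s 1 : S ⊗[A] (B₁ × B₂)) =
        (inl A B₁ B₂).lTensor S (s • 1) + (inr A B₁ B₂).lTensor S 1 := by
      rw [inl_smul, inl_one, inr_one]
      simp [tw, TensorProduct.smul_tmul']
    rw [hs, ← inr_one, add_mul, mul_add, mul_add, ← inl_mul, inl_inr,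
      mul_comm ((inr A B₁ B₂).lTensor S 1), inl_inr, ← inr_mul, mul_one, add_zero, zero_add,
      smul_mul_assoc, one_mul]
  rw [h, (F.mult S).2, law_tw, hn]
  exact (Algebra.smul_def (s ^ n) _).symm

omit [ConnectedSpace (PrimeSpectrum A)] in
lemma isHomog_rightLaw {n : ℕ} (hn : ∀ (S : Type u) [CommSemiring S] [Algebra A S] (s : S),
    chi F S 1 s = s ^ n) : PolLaw.IsHomog (rightLaw F) n := by
  intro S _ _ s x
  show F.law.toFun' S (tw S 1 0 + (inr A B₁ B₂).lTensor S (s • x)) = _
  have h : tw S 1 0 + (inr A B₁ B₂).lTensor S (s • x) =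
      tw S 1 s * (tw S 1 0 + (inr A B₁ B₂).lTensor S x) := by
    have hs : (tw S 1 s : S ⊗[A] (B₁ × B₂)) =
        (inl A B₁ B₂).lTensor S 1 + (inr A B₁ B₂).lTensor S (s • 1) := by
      rw [inr_smul, inl_one, inr_one]
      simp [tw, TensorProduct.smul_tmul']
    rw [hs, ← inl_one, add_mul, mul_add, mul_add, ← inl_mul, inl_inr,
      mul_comm ((inr A B₁ B₂).lTensor S (s • 1)) ((inl A B₁ B₂).lTensor S 1), inl_inr, ← inr_mul,
      mul_one, add_zero, zero_add, smul_mul_assoc, one_mul]
  rw [h, (F.mult S).2, law_tw, hn]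
  exact (Algebra.smul_def (s ^ n) _).symm

omit [ConnectedSpace (PrimeSpectrum A)] in
lemma factor (S : Type u) [CommSemiring S] [Algebra A S] (z : S ⊗[A] (B₁ × B₂)) :
    F.law.toFun' S z = (leftLaw F).toFun' S ((fst A B₁ B₂).lTensor S z) *
      (rightLaw F).toFun' S ((snd A B₁ B₂).lTensor S z) := by
  rw [leftLaw, rightLaw, ← (F.mult S).2, ← inl_one, ← inr_one]
  congr 1
  rw [add_mul, mul_add, mul_add, ← inl_mul, mul_one, inl_inr, add_zero,
    mul_comm ((inr A B₁ B₂).lTensor S 1), inl_inr, zero_add, ← inr_mul, one_mul, inl_add_inr]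

end gen

end Groth.Agent.ZCLib.Prod
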