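import Groth.Agent.ZCLib.Points
import Groth.Agent.ZCLib.Prod
import Mathlib.RingTheory.Unramified.Finite
import Mathlib.RingTheory.Norm.Basic
import Mathlib.RingTheory.TensorProduct.Pi
import Mathlib.RingTheory.LocalRing.Module
import Mathlib.RingTheory.LocalProperties.Submodule
import Mathlib.RingTheory.Flat.FaithfullyFlat.Algebra
import Mathlib.RingTheory.RingHom.Flat

/-!
# The norm is the only law of full support on a finite étale algebra

For a finite free formally unramified algebra `B` of rank `d` over `A`, the norm has zero kernel and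
it is the only multiplicative law of degree `d` to which every geometric point of `B` belongs.
-/

set_option autoImplicit false

noncomputable section

open TensorProduct

namespace ZCLib.EtaleNorm

universe u

section basic

variable {A : Type u} [CommRing A] {B : Type u} [CommRing B] [Algebra A B] {n : ℕ}
  (F : PolLaw.MulLaw A B A n)

/-- The values of a law with values in the base ring. -/
def Fv (T : Type u) [CommSemiring T] [Algebra A T] (x : T ⊗[A] B) : T :=
  Algebra.TensorProduct.rid A T T (F.law.toFun' T x)

lemma Fv_nat {T T' : Type u} [CommSemiring T] [Algebra A T] [CommSemiring T'] [Algebra A T']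
    (φ : T →ₐ[A] T') (x : T ⊗[A] B) :
    Fv F T' (Algebra.TensorProduct.map φ (AlgHom.id A B) x) = φ (Fv F T x) := by
  rw [Fv, Fv, map_rTensor]
  induction F.law.toFun' T x using TensorProduct.induction_on with
  | zero => simp
  | tmul a b => simp
  | add a b ha hb => simp [ha, hb]

lemma Fv_one (T : Type u) [CommSemiring T] [Algebra A T] : Fv F T 1 = 1 := by
  rw [Fv, (F.mult T).1, map_one]

lemma Fv_mul (T : Type u) [CommSemiring T] [Algebra A T] (x y : T ⊗[A] B) :
    Fv F T (x * y) = Fv F T x * Fv F T y := by
  rw [Fv, Fv, Fv, (F.mult T).2, map_mul]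

lemma Fv_smul (T : Type u) [CommSemiring T] [Algebra A T] (s : T) (x : T ⊗[A] B) :
    Fv F T (s • x) = s ^ n * Fv F T x := by
  rw [Fv, Fv, F.homog, map_smul, smul_eq_mul]

/-- Every geometric point of `B` is a point of the law. -/
def FullSupport : Prop :=
  ∀ (K : Type u) [Field K] [IsAlgClosed K] [Algebra A K] (h : B →ₐ[A] K) (x : K ⊗[A] B),
    Algebra.TensorProduct.lift (AlgHom.id A K) h (fun _ _ => Commute.all _ _) x = 0 → Fv F K x = 0

lemma fullSupport_of_ker_le (hF : PolLaw.ker F.law ≤ nilradical B) : FullSupport F := by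
  intro K _ _ _ h x hx
  obtain ⟨g, hg⟩ := exists_points F K
  obtain ⟨i, hi⟩ := hg.exists_eq h fun b hb => by
    obtain ⟨m, hm⟩ := hF hb
    exact eq_zero_of_pow_eq_zero (by rw [← map_pow, hm, map_zero] : h b ^ m = 0)
  have := hg K x
  refine this.trans (Finset.prod_eq_zero (Finset.mem_univ i) ?_)
  subst hi
  have e : (IsScalarTower.toAlgHom A K K).comp (g i) = g i := AlgHom.ext fun b => rfl
  simp only [e]
  exact hx

variable (S : Type u) [CommRing S] [Algebra A S]

/-- The base change of a law to an algebra over the base. -/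
def bc : PolLaw.MulLaw S (S ⊗[A] B) S n where
  law :=
    { toFun' := fun T _ _ x =>
        letI : Algebra A T := ((algebraMap S T).comp (algebraMap A S)).toAlgebra
        haveI : IsScalarTower A S T := IsScalarTower.of_algebraMap_eq' rfl
        (Algebra.TensorProduct.rid S T T).symm (Fv F T (Algebra.TensorProduct.cancelBaseChange A S T T B x))
      isCompat' := fun {T} _ _ {T'} _ _ φ => by
        funext x
        letI : Algebra A T := ((algebraMap S T).comp (algebraMap A S)).toAlgebra
        haveI : IsScalarTower A S T := IsScalarTower.of_algebraMap_eq' rfl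
        letI : Algebra A T' := ((algebraMap S T').comp (algebraMap A S)).toAlgebra
        haveI : IsScalarTower A S T' := IsScalarTower.of_algebraMap_eq' rfl
        simp only [Function.comp_apply]
        have h : Algebra.TensorProduct.cancelBaseChange A S T' T' B (φ.toLinearMap.rTensor (S ⊗[A] B) x) =
            Algebra.TensorProduct.map (φ.restrictScalars A) (AlgHom.id A B)
              (Algebra.TensorProduct.cancelBaseChange A S T T B x) := by
          induction x using TensorProduct.induction_on with
          | zero => simp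
          | tmul a y =>
            induction y using TensorProduct.induction_on with
            | zero => simp
            | tmul s b => simp
            | add y z hy hz =>
              rw [LinearMap.rTensor_tmul] at hy hz
              simp only [LinearMap.rTensor_tmul, TensorProduct.tmul_add, map_add, hy, hz]
          | add y z hy hz => simp only [map_add, hy, hz]
        rw [h, Fv_nat]
        simp [Algebra.TensorProduct.rid_symm_apply] }
  homog := by
    intro T _ _ s x
    letI : Algebra A T := ((algebraMap S T).comp (algebraMap A S)).toAlgebra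
    haveI : IsScalarTower A S T := IsScalarTower.of_algebraMap_eq' rfl
    show (Algebra.TensorProduct.rid S T T).symm _ = _ • (Algebra.TensorProduct.rid S T T).symm _
    rw [map_smul (Algebra.TensorProduct.cancelBaseChange A S T T B), Fv_smul, ← smul_eq_mul, map_smul]
  mult := by
    intro T _ _
    letI : Algebra A T := ((algebraMap S T).comp (algebraMap A S)).toAlgebra
    haveI : IsScalarTower A S T := IsScalarTower.of_algebraMap_eq' rfl
    refine ⟨?_, fun x y => ?_⟩
    · show (Algebra.TensorProduct.rid S T T).symm _ = _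
      rw [map_one, Fv_one, map_one]
    · show (Algebra.TensorProduct.rid S T T).symm _ =
        (Algebra.TensorProduct.rid S T T).symm _ * (Algebra.TensorProduct.rid S T T).symm _
      rw [map_mul, Fv_mul, map_mul]

lemma Fv_bc (T : Type u) [CommSemiring T] [Algebra S T] [i : Algebra A T] [IsScalarTower A S T]
    (x : T ⊗[S] (S ⊗[A] B)) :
    Fv (bc F S) T x = Fv F T (Algebra.TensorProduct.cancelBaseChange A S T T B x) := by
  have hi : i = ((algebraMap S T).comp (algebraMap A S)).toAlgebra :=
    Algebra.algebra_ext _ _ fun a => IsScalarTower.algebraMap_apply A S T a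
  subst hi
  exact (Algebra.TensorProduct.rid S T T).apply_symm_apply _

lemma fullSupport_bc (hF : FullSupport F) : FullSupport (bc F S) := by
  intro K _ _ _ h x hx
  letI : Algebra A K := ((algebraMap S K).comp (algebraMap A S)).toAlgebra
  haveI : IsScalarTower A S K := IsScalarTower.of_algebraMap_eq' rfl
  rw [Fv_bc]
  refine hF K ((h.restrictScalars A).comp Algebra.TensorProduct.includeRight) _ ?_
  rw [← hx]
  clear hx
  induction x using TensorProduct.induction_on with
  | zero => simp
  | tmul a y =>
    induction y using TensorProduct.induction_on with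
    | zero => simp
    | tmul s b =>
      have e : h (s ⊗ₜ[A] b) = s • h (1 ⊗ₜ[A] b) := by
        rw [← map_smul, TensorProduct.smul_tmul', smul_eq_mul, mul_one]
      simp [e, Algebra.smul_def, mul_left_comm, mul_assoc]
    | add y z hy hz => simp only [TensorProduct.tmul_add, map_add, hy, hz]
  | add y z hy hz => simp only [map_add, hy, hz]

variable {B' : Type u} [CommRing B'] [Algebra A B']

lemma Fv_precomp (e : B' →ₐ[A] B) (T : Type u) [CommSemiring T] [Algebra A T] (x : T ⊗[A] B') :
    Fv (F.precomp e) T x = Fv F T (Algebra.TensorProduct.map (AlgHom.id T T) e x) := by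
  show Algebra.TensorProduct.rid A T T (F.law.toFun' T (e.toLinearMap.lTensor T x)) = _
  rw [PolLaw.lTensor_algHom_apply]
  rfl

lemma fullSupport_precomp (hF : FullSupport F) (e : B' ≃ₐ[A] B) : FullSupport (F.precomp e.toAlgHom) := by
  intro K _ _ _ h x hx
  rw [Fv_precomp]
  refine hF K (h.comp e.symm.toAlgHom) _ ?_
  rw [← hx]
  clear hx
  induction x using TensorProduct.induction_on with
  | zero => simp
  | tmul a y => simp
  | add y z hy hz => simp only [map_add, hy, hz]

lemma norm_map [Module.Free A B] [Module.Finite A B] {T T' : Type u} [CommRing T] [Algebra A T]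
    [CommRing T'] [Algebra A T'] (φ : T →ₐ[A] T') (x : T ⊗[A] B) :
    Algebra.norm T' (Algebra.TensorProduct.map φ (AlgHom.id A B) x) = φ (Algebra.norm T x) := by
  classical
  let b := Module.Free.chooseBasis A B
  rw [Algebra.norm_eq_matrix_det (Algebra.TensorProduct.basis T b),
    Algebra.norm_eq_matrix_det (Algebra.TensorProduct.basis T' b)]
  change _ = φ.toRingHom (Matrix.det _)
  rw [RingHom.map_det]
  congr 1
  ext i j
  rw [RingHom.mapMatrix_apply, Matrix.map_apply, Algebra.leftMulMatrix_eq_repr_mul,
    Algebra.leftMulMatrix_eq_repr_mul, Algebra.TensorProduct.basis_apply, Algebra.TensorProduct.basis_apply]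
  have hrepr : ∀ z : T ⊗[A] B, (Algebra.TensorProduct.basis T' b).repr
      (Algebra.TensorProduct.map φ (AlgHom.id A B) z) i = φ ((Algebra.TensorProduct.basis T b).repr z i) := by
    intro z
    induction z using TensorProduct.induction_on with
    | zero => simp
    | tmul a y => simp
    | add y z hy hz => simp only [map_add, Finsupp.add_apply, hy, hz]
  rw [show (1 : T') ⊗ₜ[A] b j = Algebra.TensorProduct.map φ (AlgHom.id A B) ((1 : T) ⊗ₜ[A] b j) by simp,
    ← map_mul]
  exact hrepr _

end basic

section prod

variable {S : Type u} [CommRing S] {C : Type u} [CommRing C] [Algebra S C]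

/-- A base change of a product with the base ring. -/
def prodE (T : Type u) [CommSemiring T] [Algebra S T] : T ⊗[S] (S × C) ≃ₐ[T] T × (T ⊗[S] C) :=
  (Algebra.TensorProduct.prodRight S T T S C).trans
    (AlgEquiv.prodCongr (Algebra.TensorProduct.rid S T T) AlgEquiv.refl)

lemma prodE_tmul (T : Type u) [CommSemiring T] [Algebra S T] (t : T) (s : S) (c : C) :
    prodE T (t ⊗ₜ[S] (s, c)) = (s • t, t ⊗ₜ[S] c) := by
  simp [prodE, Algebra.TensorProduct.prodRight_tmul]

lemma norm_prodE [Module.Free S C] [Module.Finite S C] (T : Type u) [CommRing T] [Algebra S T]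
    (z : T ⊗[S] (S × C)) :
    Algebra.norm T z = (prodE T z).1 * Algebra.norm T (prodE T z).2 := by
  rw [← Algebra.norm_eq_of_algEquiv (prodE T) z]
  rw [Algebra.norm_apply]
  have h : Algebra.lmul T (T × (T ⊗[S] C)) (prodE T z) =
      LinearMap.prodMap (Algebra.lmul T T (prodE T z).1) (Algebra.lmul T _ (prodE T z).2) := by
    refine LinearMap.ext fun w => ?_
    simp [Prod.mul_def]
  rw [h, LinearMap.det_prodMap, ← Algebra.norm_apply, ← Algebra.norm_apply, Algebra.norm_self]
  rfl

open Groth.Agent.ZCLib.Prod in
/-- A law of full support on `S × C` over a local ring: the first factor is met at least once. -/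
lemma exists_split [IsLocalRing S] {n : ℕ} (G : PolLaw.MulLaw S (S × C) S n) (hG : FullSupport G) :
    ∃ (d₁ d₂ : ℕ) (R : PolLaw.MulLaw S C S d₂), 1 ≤ d₁ ∧ d₁ + d₂ = n ∧ FullSupport R ∧
      ∀ (T : Type u) [CommSemiring T] [Algebra S T] (z : T ⊗[S] (S × C)),
        Fv G T z = (prodE T z).1 ^ d₁ * Fv R T (prodE T z).2 := by
  haveI : ConnectedSpace (PrimeSpectrum S) := by
    refine connectedSpace_iff_clopen.2 ⟨inferInstance, fun s hs => ?_⟩
    rcases Classical.em (IsLocalRing.closedPoint S ∈ s) with h | h
    · exact Or.inr (Set.eq_univ_of_forall fun p => (IsLocalRing.specializes_closedPoint p).mem_open hs.2 h)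
    · exact Or.inl (Set.eq_empty_of_forall_notMem fun p hp =>
        h ((IsLocalRing.specializes_closedPoint p).mem_closed hs.1 hp))
  obtain ⟨d₁, d₂, hsum, hd⟩ := exists_degrees n G
  let L : PolLaw.MulLaw S S S d₁ :=
    ⟨leftLaw G, isHomog_leftLaw G fun T _ _ s => (hd T s).1, isMult_leftLaw G⟩
  let R : PolLaw.MulLaw S C S d₂ :=
    ⟨rightLaw G, isHomog_rightLaw G fun T _ _ s => (hd T s).2, isMult_rightLaw G⟩
  have hL : ∀ (T : Type u) [CommSemiring T] [Algebra S T] (x : T ⊗[S] S),
      Fv L T x = Algebra.TensorProduct.rid S T T x ^ d₁ := fun T _ _ x => by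
    have e : x = (Algebra.TensorProduct.rid S T T x) • (1 : T ⊗[S] S) :=
      (Algebra.TensorProduct.rid S T T).injective (by simp)
    conv_lhs => rw [e]
    rw [Fv_smul, Fv_one, mul_one]
  have hform : ∀ (T : Type u) [CommSemiring T] [Algebra S T] (z : T ⊗[S] (S × C)),
      Fv G T z = (prodE T z).1 ^ d₁ * Fv R T (prodE T z).2 := by
    intro T _ _ z
    have e1 : ∀ z : T ⊗[S] (S × C),
        (prodE T z).1 = Algebra.TensorProduct.rid S T T ((LinearMap.fst S S C).lTensor T z) := by
      intro z
      induction z using TensorProduct.induction_on with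
      | zero => simp
      | tmul a y => obtain ⟨s, c⟩ := y; simp [prodE_tmul]
      | add y z hy hz => simp only [map_add, Prod.fst_add, hy, hz]
    have e2 : ∀ z : T ⊗[S] (S × C), (prodE T z).2 = (LinearMap.snd S S C).lTensor T z := by
      intro z
      induction z using TensorProduct.induction_on with
      | zero => simp
      | tmul a y => obtain ⟨s, c⟩ := y; simp [prodE_tmul]
      | add y z hy hz => simp only [map_add, Prod.snd_add, hy, hz]
    rw [e1, e2, ← hL]
    simp only [Fv]
    rw [factor G T z, map_mul]
  refine ⟨d₁, d₂, R, ?_, hsum, ?_, hform⟩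
  · -- the point `fst` in the closed fibre
    let K := AlgebraicClosure (IsLocalRing.ResidueField S)
    by_contra h0
    have h1 := hG K ((Algebra.ofId S K).comp (AlgHom.fst S S C)) ((prodE K).symm (0, 1)) (by
      have key : ∀ z : K ⊗[S] (S × C), Algebra.TensorProduct.lift (AlgHom.id S K)
          ((Algebra.ofId S K).comp (AlgHom.fst S S C)) (fun _ _ => Commute.all _ _) z = (prodE K z).1 := by
        intro z
        induction z using TensorProduct.induction_on with
        | zero => simp
        | tmul a y => obtain ⟨s, c⟩ := y; simp [prodE_tmul, Algebra.smul_def, mul_comm]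
        | add y z hy hz => simp only [map_add, Prod.fst_add, hy, hz]
      rw [key, AlgEquiv.apply_symm_apply])
    rw [hform, AlgEquiv.apply_symm_apply, show d₁ = 0 by omega, pow_zero, one_mul, Fv_one] at h1
    exact one_ne_zero h1
  · intro K _ _ _ h x hx
    have h1 := hG K (h.comp (AlgHom.snd S S C)) ((prodE K).symm (1, x)) (by
      have key : ∀ z : K ⊗[S] (S × C), Algebra.TensorProduct.lift (AlgHom.id S K)
          (h.comp (AlgHom.snd S S C)) (fun _ _ => Commute.all _ _) z =
          Algebra.TensorProduct.lift (AlgHom.id S K) h (fun _ _ => Commute.all _ _) (prodE K z).2 := by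
        intro z
        induction z using TensorProduct.induction_on with
        | zero => simp
        | tmul a y => obtain ⟨s, c⟩ := y; simp [prodE_tmul]
        | add y z hy hz => simp only [map_add, Prod.snd_add, hy, hz]
      rw [key, AlgEquiv.apply_symm_apply, hx])
    rwa [hform, AlgEquiv.apply_symm_apply, one_pow, one_mul] at h1

end prod

section splitting

variable (R : Type u) [CommRing R] [IsLocalRing R] (B : Type u) [CommRing B] [Algebra R B]
  [Module.Free R B] [Module.Finite R B] [Algebra.FormallyUnramified R B]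

/-- One splitting step: after a faithfully flat local extension, a factor `S` splits off. -/
lemma exists_step {r : ℕ} (hr : Module.finrank R B = r + 1) :
    ∃ (S : Type u) (_ : CommRing S) (_ : IsLocalRing S) (_ : Algebra R S) (_ : Module.FaithfullyFlat R S)
      (C : Type u) (_ : CommRing C) (_ : Algebra S C) (_ : Module.Free S C) (_ : Module.Finite S C)
      (_ : Algebra.FormallyUnramified S C),
      Module.finrank S C = r ∧ Nonempty ((S × C) ≃ₐ[S] S ⊗[R] B) := by
  classical
  haveI : Nontrivial B := Module.nontrivial_of_finrank_eq_succ hr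
  obtain ⟨m, hm⟩ := Ideal.exists_maximal B
  let S := Localization.AtPrime m
  haveI : Module.Flat B S := IsLocalization.flat S m.primeCompl
  haveI : Module.Flat R S := Module.Flat.trans R B S
  haveI : (m.comap (algebraMap R B)).IsMaximal := Ideal.isMaximal_comap_of_isIntegral_of_isMaximal m
  haveI : IsLocalHom (algebraMap R S) := by
    refine ((IsLocalRing.local_hom_TFAE (algebraMap R S)).out 0 4 :).2 ?_
    rw [IsScalarTower.algebraMap_eq R B S, ← Ideal.comap_comap,
      show Ideal.comap (algebraMap B S) (IsLocalRing.maximalIdeal S) = m from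
        IsLocalization.AtPrime.comap_maximalIdeal S m]
    exact IsLocalRing.eq_maximalIdeal inferInstance
  haveI : Module.FaithfullyFlat R S := Module.FaithfullyFlat.of_flat_of_isLocalHom
  let h : B →ₐ[R] S := IsScalarTower.toAlgHom R B S
  let P : S ⊗[R] B →ₐ[S] S := Algebra.TensorProduct.lift (AlgHom.id S S) h (fun _ _ => Commute.all _ _)
  obtain ⟨t, ht1, ht2⟩ := Algebra.FormallyUnramified.iff_exists_tensorProduct.1 ‹Algebra.FormallyUnramified R B›
  let ε : S ⊗[R] B := Algebra.TensorProduct.map h (AlgHom.id R B) t
  have hPε : P ε = 1 := by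
    rw [← map_one h, ← ht2]
    show P (Algebra.TensorProduct.map h (AlgHom.id R B) t) = _
    clear ht1 ht2 ε
    induction t using TensorProduct.induction_on with
    | zero => simp
    | tmul a b => simp [P, h]
    | add y z hy hz => simp only [map_add, hy, hz]
  have hε : ∀ z : S ⊗[R] B, z * ε = P z • ε := by
    intro z
    induction z using TensorProduct.induction_on with
    | zero => simp
    | tmul s b =>
      have h1 := congrArg (Algebra.TensorProduct.map h (AlgHom.id R B)) (ht1 b)
      rw [map_mul, map_sub, map_zero, sub_mul, sub_eq_zero] at h1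
      simp only [Algebra.TensorProduct.map_tmul, map_one, AlgHom.coe_id, id_eq] at h1
      have e1 : s ⊗ₜ[R] b = s • ((1 : S) ⊗ₜ[R] b) := by
        rw [TensorProduct.smul_tmul', smul_eq_mul, mul_one]
      have e2 : P (s ⊗ₜ[R] b) = s * h b := by simp [P]
      rw [e2, mul_smul, e1, smul_mul_assoc, h1]
      congr 1
      exact (Algebra.smul_def (A := S ⊗[R] B) (h b) ε).symm
    | add y z hy hz => simp only [add_mul, map_add, add_smul, hy, hz]
  let I : Ideal (S ⊗[R] B) := Ideal.span {ε}
  let C := (S ⊗[R] B) ⧸ I
  let Ψ : S ⊗[R] B →ₐ[S] S × C := P.prod (Ideal.Quotient.mkₐ S I)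
  have hinj : Function.Injective Ψ := by
    refine (injective_iff_map_eq_zero Ψ).2 fun z hz => ?_
    obtain ⟨hz1, hz2⟩ := Prod.ext_iff.1 hz
    change P z = 0 at hz1
    change Ideal.Quotient.mk I z = 0 at hz2
    rw [Ideal.Quotient.eq_zero_iff_mem, Ideal.mem_span_singleton'] at hz2
    obtain ⟨w, rfl⟩ := hz2
    rw [map_mul, hPε, mul_one] at hz1
    rw [hε, hz1, zero_smul]
  have hsurj : Function.Surjective Ψ := by
    rintro ⟨s, c⟩
    obtain ⟨z, rfl⟩ := Ideal.Quotient.mk_surjective c
    refine ⟨s • ε + z * (1 - ε), Prod.ext ?_ ?_⟩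
    · show P _ = s
      simp [hPε]
    · show Ideal.Quotient.mk I _ = Ideal.Quotient.mk I z
      rw [Ideal.Quotient.mk_eq_mk_iff_sub_mem]
      have he : ε ∈ I := Ideal.subset_span rfl
      have : s • ε + z * (1 - ε) - z = s • ε - z * ε := by ring
      rw [this]
      exact I.sub_mem (Submodule.smul_of_tower_mem I s he) (I.mul_mem_left _ he)
  let e := (AlgEquiv.ofBijective Ψ ⟨hinj, hsurj⟩).symm
  haveI : Module.Free S (S × C) := Module.Free.of_equiv e.symm.toLinearEquiv
  haveI : Module.Finite S (S × C) := Module.Finite.equiv e.symm.toLinearEquiv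
  haveI : Module.Projective S C :=
    Module.Projective.of_split (LinearMap.inr S S C) (LinearMap.snd S S C) (LinearMap.ext fun _ => rfl)
  haveI : Module.Finite S C := Module.Finite.of_surjective (LinearMap.snd S S C) LinearMap.snd_surjective
  haveI : Module.Free S C := Module.free_of_flat_of_isLocalRing
  haveI : Algebra.FormallyUnramified S C :=
    Algebra.FormallyUnramified.of_surjective (Ideal.Quotient.mkₐ S I) Ideal.Quotient.mk_surjective
  refine ⟨S, inferInstance, inferInstance, inferInstance, inferInstance, C, inferInstance, inferInstance,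
    inferInstance, inferInstance, inferInstance, ?_, ⟨e⟩⟩
  have h2 := e.toLinearEquiv.finrank_eq
  rw [Module.finrank_prod, Module.finrank_self, Module.finrank_baseChange, hr] at h2
  omega

end splitting

/-- The main statement over a local ring, by induction on the rank. -/
theorem key (r : ℕ) : ∀ (R : Type u) [CommRing R] [IsLocalRing R] (B : Type u) [CommRing B] [Algebra R B]
    [Module.Free R B] [Module.Finite R B] [Algebra.FormallyUnramified R B], Module.finrank R B = r →
    (∀ b : B, (∀ (T : Type u) [CommRing T] [Algebra R T] (w : T ⊗[R] B),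
      Algebra.norm T (1 + w * ((1 : T) ⊗ₜ[R] b)) = 1) → b = 0) ∧
    ∀ (n : ℕ) (F : PolLaw.MulLaw R B R n), FullSupport F → r ≤ n ∧
      (n = r → ∀ (T : Type u) [CommRing T] [Algebra R T] (x : T ⊗[R] B), Fv F T x = Algebra.norm T x) := by
  induction r with
  | zero =>
    intro R _ _ B _ _ _ _ _ hr
    haveI : IsEmpty (Module.Free.ChooseBasisIndex R B) :=
      Fintype.card_eq_zero_iff.1 ((Module.finrank_eq_card_chooseBasisIndex R B).symm.trans hr)
    haveI : Subsingleton B := (Module.Free.chooseBasis R B).repr.toEquiv.subsingleton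
    refine ⟨fun b _ => Subsingleton.elim _ _, fun n F _ => ⟨Nat.zero_le n, fun _ T _ _ x => ?_⟩⟩
    haveI : Subsingleton (T ⊗[R] B) := subsingleton_of_zero_eq_one (by
      rw [Algebra.TensorProduct.one_def, Subsingleton.elim (1 : B) 0, TensorProduct.tmul_zero])
    rw [Subsingleton.elim x 1, Fv_one, map_one]
  | succ r ih =>
    intro R _ _ B _ _ _ _ _ hr
    obtain ⟨S, _, _, _, _, C, _, _, _, _, _, hC, ⟨e⟩⟩ := exists_step R B hr
    obtain ⟨ihz, ihu⟩ := ih S C hC
    haveI : Module.Free S (S × C) := Module.Free.of_equiv e.symm.toLinearEquiv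
    -- transport along `e`
    let E : ∀ (T : Type u) [CommRing T] [Algebra S T] [Algebra R T] [IsScalarTower R S T],
        T ⊗[S] (S × C) ≃ₐ[T] T ⊗[R] B := fun T _ _ _ _ =>
      (Algebra.TensorProduct.congr (AlgEquiv.refl : T ≃ₐ[T] T) e).trans
        (Algebra.TensorProduct.cancelBaseChange R S T T B)
    refine ⟨fun b hb => ?_, fun n F hF => ?_⟩
    · obtain ⟨⟨s, c⟩, hsc⟩ := e.surjective ((1 : S) ⊗ₜ[R] b)
      have key : ∀ (T : Type u) [CommRing T] [Algebra S T] (p : T × (T ⊗[S] C)),
          (1 + p.1 * algebraMap S T s) * Algebra.norm T (1 + p.2 * ((1 : T) ⊗ₜ[S] c)) = 1 := by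
        intro T _ _ p
        letI : Algebra R T := ((algebraMap S T).comp (algebraMap R S)).toAlgebra
        haveI : IsScalarTower R S T := IsScalarTower.of_algebraMap_eq' rfl
        obtain ⟨z, rfl⟩ := (prodE T).surjective p
        have h1 : E T ((1 : T) ⊗ₜ[S] (s, c)) = (1 : T) ⊗ₜ[R] b := by
          simp [E, hsc]
        have h2 := hb T (E T z)
        rw [← h1, ← map_mul, ← map_one (E T), ← map_add, Algebra.norm_eq_of_algEquiv,
          norm_prodE, map_add, map_one, map_mul, prodE_tmul] at h2
        simpa [Algebra.smul_def] using h2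
      have hs : s = 0 := by
        have h := key S (1, 0)
        simpa using h
      have hc : c = 0 := ihz c fun T _ _ w => by simpa using key T (0, w)
      have hb0 : (1 : S) ⊗ₜ[R] b = 0 := by
        rw [← hsc, hs, hc]
        exact map_zero e
      exact Module.FaithfullyFlat.tensorProduct_mk_injective (A := R) (B := S) B
        (show (1 : S) ⊗ₜ[R] b = (1 : S) ⊗ₜ[R] (0 : B) by rw [hb0, TensorProduct.tmul_zero])
    · let G : PolLaw.MulLaw S (S × C) S n := (bc F S).precomp e.toAlgHom
      obtain ⟨d₁, d₂, RL, hd₁, hsum, hRL, hform⟩ :=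
        exists_split G (fullSupport_precomp _ (fullSupport_bc F S hF) e)
      obtain ⟨hle, heq⟩ := ihu d₂ RL hRL
      refine ⟨by omega, fun hn T _ _ x => ?_⟩
      have heq' := heq (by omega)
      have hd₁' : d₁ = 1 := by omega
      have hS : ∀ (T : Type u) [CommRing T] [Algebra S T] [Algebra R T] [IsScalarTower R S T] (x : T ⊗[R] B),
          Fv F T x = Algebra.norm T x := by
        intro T _ _ _ _ x
        obtain ⟨z, rfl⟩ := (E T).surjective x
        rw [Algebra.norm_eq_of_algEquiv, norm_prodE, ← heq' T, ← pow_one (prodE T z).1, ← hd₁', ← hform T z]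
        show _ = Fv ((bc F S).precomp e.toAlgHom) T z
        rw [Fv_precomp, Fv_bc]
        rfl
      let φ : T →ₐ[R] S ⊗[R] T := Algebra.TensorProduct.includeRight
      have hφ : Function.Injective φ := Module.FaithfullyFlat.tensorProduct_mk_injective (A := R) (B := S) T
      apply hφ
      rw [← Fv_nat, ← norm_map, hS]

section global

variable {A : Type u} [CommRing A]

lemma eq_of_forall_localization {M : Type u} [AddCommGroup M] [Module A M] {x y : M}
    (h : ∀ (m : Ideal A) [m.IsMaximal], (1 : Localization.AtPrime m) ⊗ₜ[A] x = (1 : Localization.AtPrime m) ⊗ₜ[A] y) :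
    x = y :=
  Module.eq_of_localization_maximal (fun m _ => Localization.AtPrime m ⊗[A] M)
    (fun m _ => TensorProduct.mk A (Localization.AtPrime m) M 1) x y fun m _ => h m

variable {B : Type u} [CommRing B] [Algebra A B] [Module.Free A B] [Module.Finite A B]
  [Algebra.FormallyUnramified A B]

theorem eq_zero_of_norm_one_add (b : B) (hb : ∀ (T : Type u) [CommRing T] [Algebra A T] (w : T ⊗[A] B),
    Algebra.norm T (1 + w * ((1 : T) ⊗ₜ[A] b)) = 1) : b = 0 := by
  refine eq_of_forall_localization (A := A) fun m _ => ?_
  rw [TensorProduct.tmul_zero]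
  refine (key _ (Localization.AtPrime m) (Localization.AtPrime m ⊗[A] B) rfl).1 _ fun T _ _ w => ?_
  letI : Algebra A T := ((algebraMap (Localization.AtPrime m) T).comp (algebraMap A _)).toAlgebra
  haveI : IsScalarTower A (Localization.AtPrime m) T := IsScalarTower.of_algebraMap_eq' rfl
  rw [← Algebra.norm_eq_of_algEquiv (Algebra.TensorProduct.cancelBaseChange A (Localization.AtPrime m) T T B),
    map_add, map_one, map_mul, Algebra.TensorProduct.cancelBaseChange_tmul, one_smul]
  exact hb T _

theorem Fv_eq_norm {d : ℕ} (hd : Module.finrank A B = d) (F : PolLaw.MulLaw A B A d) (hF : FullSupport F)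
    (T : Type u) [CommRing T] [Algebra A T] (x : T ⊗[A] B) : Fv F T x = Algebra.norm T x := by
  refine eq_of_forall_localization (A := A) fun m _ => ?_
  let φ : T →ₐ[A] Localization.AtPrime m ⊗[A] T := Algebra.TensorProduct.includeRight
  show φ _ = φ _
  rw [← Fv_nat, ← norm_map]
  generalize Algebra.TensorProduct.map φ (AlgHom.id A B) x = y
  obtain ⟨z, rfl⟩ :=
    (Algebra.TensorProduct.cancelBaseChange A (Localization.AtPrime m) (Localization.AtPrime m ⊗[A] T)
      (Localization.AtPrime m ⊗[A] T) B).surjective y
  rw [← Fv_bc]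
  haveI : Nontrivial A := ⟨0, 1, fun h => (Ideal.ne_top_iff_one m).1 (Ideal.IsMaximal.ne_top ‹_›) (h ▸ m.zero_mem)⟩
  refine Eq.trans ?_ (Algebra.norm_eq_of_algEquiv _ z).symm
  exact ((key d (Localization.AtPrime m) (Localization.AtPrime m ⊗[A] B)
    (by rw [Module.finrank_baseChange, hd])).2 d (bc F (Localization.AtPrime m)) (fullSupport_bc F _ hF)).2 rfl _ z

end global

end ZCLib.EtaleNorm
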