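import Groth.Agent.ZCLib.CH
import Mathlib.RingTheory.IntegralClosure.IsIntegralClosure.Basic

/-! Characteristic polynomials of multiplicative laws. -/

noncomputable section

open TensorProduct Polynomial

namespace ZCLib

universe u

variable {A : Type u} [CommRing A] {B C : Type u} [CommRing B] [Algebra A B] [CommRing C]
  [Algebra A C] {d : ℕ}

lemma coeffs_single_one (F : PolLaw.MulLaw A B C d) :
    coeffs F.law (fun _ : PUnit.{u + 1} => (1 : B)) (Finsupp.single PUnit.unit d) = 1 := by
  classical
  have h := coeffs_one F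
  rwa [Finsupp.sum, Finset.sum_eq_single (Finsupp.single PUnit.unit d)] at h
  · intro α hα hne
    exfalso
    apply hne
    have hdeg := coeffs_degree F.homog _ (Finsupp.mem_support_iff.1 hα)
    ext
    rw [← hdeg, Finsupp.degree_eq_sum, Fintype.sum_unique]
    simp
  · intro hn
    exact Finsupp.notMem_support_iff.1 hn

variable (F : PolLaw.MulLaw A B A d) {A' : Type u} [CommRing A'] [Algebra A A']

lemma chi_map {A'' : Type u} [CommRing A''] [Algebra A A''] (ι : A' →ₐ[A] A'') (z : A' ⊗[A] B) :
    chi F A'' (Algebra.TensorProduct.map ι (AlgHom.id A B) z) = (chi F A' z).map ι.toRingHom := by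
  unfold chi
  have h : Algebra.TensorProduct.map (Polynomial.mapAlgHom ι) (AlgHom.id A B)
      (Algebra.TensorProduct.map (IsScalarTower.toAlgHom A A' (Polynomial A')) (AlgHom.id A B) z -
        Polynomial.X ⊗ₜ[A] (1 : B)) =
      Algebra.TensorProduct.map (IsScalarTower.toAlgHom A A'' (Polynomial A'')) (AlgHom.id A B)
        (Algebra.TensorProduct.map ι (AlgHom.id A B) z) - Polynomial.X ⊗ₜ[A] (1 : B) := by
    rw [map_sub, Algebra.TensorProduct.map_tmul, ← AlgHom.comp_apply, ← AlgHom.comp_apply]
    congr 1
    · congr 1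
      ext <;> simp [Polynomial.mapAlgHom]
    · simp [Polynomial.mapAlgHom]
  rw [← h, map_rTensor]
  generalize F.law.toFun' (Polynomial A') _ = E
  induction E with
  | zero => simp
  | tmul q a => simp [Algebra.smul_def]
  | add a b ha hb => simp only [map_add, Polynomial.map_add, ha, hb]

lemma chi_degree (z : A' ⊗[A] B) :
    (chi F A' z).natDegree ≤ d ∧ (chi F A' z).coeff d = (-1) ^ d := by
  classical
  obtain ⟨κ, _, t, v, rfl⟩ := exists_sum A' z
  have hx : Algebra.TensorProduct.map (IsScalarTower.toAlgHom A A' (Polynomial A')) (AlgHom.id A B)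
      (∑ j, t j ⊗ₜ[A] v j) - Polynomial.X ⊗ₜ[A] (1 : B) =
      ∑ o : Option κ, (Option.elim o (-Polynomial.X) fun j => Polynomial.C (t j)) ⊗ₜ[A]
        Option.elim o 1 v := by
    simp [Fintype.sum_option, map_sum, TensorProduct.neg_tmul, sub_eq_add_neg, add_comm]
  have hnone := coeffs_comp_injective F.law (fun o : Option κ => Option.elim o 1 v)
    (j := fun _ : PUnit.{u + 1} => (none : Option κ)) (fun _ _ _ => rfl)
    (Finsupp.single PUnit.unit d)
  rw [Finsupp.mapDomain_single,
    show ((fun o : Option κ => Option.elim o 1 v) ∘ fun _ : PUnit.{u + 1} => none) =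
      fun _ => (1 : B) from rfl, coeffs_single_one] at hnone
  unfold chi
  rw [hx, toFun'_sum]
  set w := coeffs F.law (fun o : Option κ => Option.elim o 1 v) with hw
  have hdeg : ∀ α, w α ≠ 0 → α.degree = d := fun α hα => coeffs_degree F.homog _ hα
  have key : ∀ α, w α ≠ 0 →
      ((α.prod fun o k => (Option.elim o (-Polynomial.X : Polynomial A')
        fun j => Polynomial.C (t j)) ^ k).natDegree ≤ d ∧
      (α.prod fun o k => (Option.elim o (-Polynomial.X : Polynomial A')
        fun j => Polynomial.C (t j)) ^ k).coeff d =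
        if α = Finsupp.single none d then (-1) ^ d else 0) := by
    intro α hα
    have hsplit : α none + α.some.degree = d := by
      rw [← hdeg α hα, Finsupp.degree_eq_sum, Finsupp.degree_eq_sum, Fintype.sum_option]
      simp
    have hprod : (α.prod fun o k => (Option.elim o (-Polynomial.X : Polynomial A')
        fun j => Polynomial.C (t j)) ^ k) =
        Polynomial.C ((-1) ^ α none * α.some.prod fun j k => t j ^ k) * Polynomial.X ^ α none := by
      rw [Finsupp.prod_option_index α _ (by simp) (by simp [pow_add])]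
      simp only [Option.elim]
      rw [neg_pow, map_mul, map_pow, map_neg, map_one, map_finsuppProd]
      simp only [map_pow]
      ring
    rw [hprod]
    refine ⟨(Polynomial.natDegree_C_mul_X_pow_le _ _).trans (by omega), ?_⟩
    rw [Polynomial.coeff_C_mul_X_pow]
    by_cases h : α = Finsupp.single none d
    · subst h
      simp
    · rw [if_neg h, if_neg]
      intro hd'
      apply h
      have h0 : α.some = 0 := (Finsupp.degree_eq_zero_iff _).1 (by omega)
      ext o
      rcases o with _ | j
      · simp [← hd']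
      · have := DFunLike.congr_fun h0 j
        simpa using this
  rw [evalAt, Finsupp.lsum_apply, Finsupp.sum, map_sum]
  simp only [TensorProduct.mk_apply, TensorProduct.rid_tmul]
  constructor
  · refine Polynomial.natDegree_sum_le_of_forall_le _ _ fun α hα => ?_
    exact (Polynomial.natDegree_smul_le _ _).trans (key α (Finsupp.mem_support_iff.1 hα)).1
  · rw [Polynomial.finsetSum_coeff]
    rcases subsingleton_or_nontrivial A' with hA' | hA'
    · exact Subsingleton.elim _ _
    rw [Finset.sum_eq_single (Finsupp.single none d)]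
    · rw [Polynomial.coeff_smul, (key _ (by
        rw [← hnone]
        intro h1
        exact one_ne_zero (α := A') (by rw [← map_one (algebraMap A A'), h1, map_zero]))).2,
        if_pos rfl, ← hnone, one_smul]
    · intro α hα hne
      rw [Polynomial.coeff_smul, (key α (Finsupp.mem_support_iff.1 hα)).2, if_neg hne, smul_zero]
    · intro h
      rw [Finsupp.notMem_support_iff.1 h, zero_smul, Polynomial.coeff_zero]

lemma monic_neg_one_pow_mul_chi (z : A' ⊗[A] B) :
    (Polynomial.C ((-1 : A') ^ d) * chi F A' z).Monic := by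
  refine Polynomial.monic_of_natDegree_le_of_coeff_eq_one d
    ((Polynomial.natDegree_C_mul_le _ _).trans (chi_degree F z).1) ?_
  rw [Polynomial.coeff_C_mul, (chi_degree F z).2, ← mul_pow, neg_one_mul, neg_neg, one_pow]

lemma kerBC_self_comap {b : B}
    (hb : ((1 : A) ⊗ₜ[A] b) ∈ PolLaw.kerBC F.law A) : b ∈ PolLaw.ker F.law := by
  rw [mem_ker_iff]
  intro S _ _ w
  have h := (mem_kerBC_iff F A _).1 hb S w
  rwa [bcMap, Algebra.TensorProduct.map_tmul, map_one, AlgHom.id_apply] at h

/-- The characteristic polynomial over the base itself. -/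
lemma aeval_chi_mem_ker (b : B) :
    Polynomial.aeval b (chi F A ((1 : A) ⊗ₜ[A] b)) ∈ PolLaw.ker F.law := by
  apply kerBC_self_comap
  have h := aeval_chi_mem_kerBC F A ((1 : A) ⊗ₜ[A] b)
  rwa [show ((1 : A) ⊗ₜ[A] b) = (Algebra.TensorProduct.includeRight : B →ₐ[A] A ⊗[A] B) b from rfl,
    Polynomial.aeval_algHom_apply] at h

lemma chi_of_mem_kerBC {z : A' ⊗[A] B} (hz : z ∈ PolLaw.kerBC F.law A') :
    chi F A' z = (-Polynomial.X) ^ d := by
  have h := hz (Polynomial A') (-(Polynomial.X ⊗ₜ[A] (1 : B))) 1
  unfold chi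
  rw [one_mul, ← TensorProduct.neg_tmul, law_algebraMap] at h
  rw [sub_eq_neg_add, ← TensorProduct.neg_tmul, h, TensorProduct.rid_tmul, one_smul]

/-- The characteristic polynomial of an element of the kernel. -/
lemma chi_of_mem_ker {b : B} (hb : b ∈ PolLaw.ker F.law) :
    chi F A ((1 : A) ⊗ₜ[A] b) = (-Polynomial.X) ^ d := by
  refine chi_of_mem_kerBC F ?_
  exact map_ker_le_kerBC F A (Ideal.mem_map_of_mem _ hb)

lemma isIntegral_image (F : PolLaw.MulLaw A B A d) : Algebra.IsIntegral A (PolLaw.image F.law) := by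
  refine ⟨fun x => ?_⟩
  obtain ⟨b, rfl⟩ := Ideal.Quotient.mk_surjective x
  refine ⟨_, monic_neg_one_pow_mul_chi F ((1 : A) ⊗ₜ[A] b), ?_⟩
  rw [← Polynomial.aeval_def, ← Ideal.Quotient.mkₐ_eq_mk A, Polynomial.aeval_algHom_apply, map_mul,
    map_mul, Ideal.Quotient.mkₐ_eq_mk, Ideal.Quotient.eq_zero_iff_mem.2 (aeval_chi_mem_ker F b),
    mul_zero]

end ZCLib
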