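import Groth.Agent.ZCLib.Points

/-! Fibres of the image of a family of zero-cycles. -/

noncomputable section

open TensorProduct

namespace ZCLib

universe u

variable {A : Type u} [CommRing A] {B : Type u} [CommRing B] [Algebra A B] {d : ℕ}
  (F : PolLaw.MulLaw A B A d)

lemma isIntegral_baseChange_image (A' : Type u) [CommRing A'] [Algebra A A'] :
    Algebra.IsIntegral A' (A' ⊗[A] PolLaw.image F.law) :=
  haveI := isIntegral_image F
  inferInstance

/-- Every point of a fibre of the image is a geometric point of the law. -/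
lemma exists_point_of_prime (K : Type u) [Field K] [Algebra A K] (Ω : Type u) [Field Ω]
    [IsAlgClosed Ω] [Algebra A Ω] [Algebra K Ω] [IsScalarTower A K Ω]
    (g : Fin d → B →ₐ[A] Ω) (hg : IsPoints F Ω g) (Q : PrimeSpectrum (K ⊗[A] PolLaw.image F.law)) :
    ∃ (i : Fin d) (H : K ⊗[A] PolLaw.image F.law →ₐ[K] Ω), RingHom.ker H = Q.asIdeal ∧
      ∀ b, H ((1 : K) ⊗ₜ[A] Ideal.Quotient.mk _ b) = g i b := by
  haveI := isIntegral_baseChange_image F K
  haveI := Q.isPrime
  haveI : Q.asIdeal.IsMaximal := Ideal.isMaximal_of_isIntegral_of_isMaximal_comap (R := K) _ (by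
    have h : Q.asIdeal.comap (algebraMap K (K ⊗[A] PolLaw.image F.law)) = ⊥ :=
      (Ideal.eq_bot_or_top _).resolve_right (Ideal.IsPrime.ne_top inferInstance)
    rw [h]
    exact Ideal.bot_isMaximal)
  letI : Field ((K ⊗[A] PolLaw.image F.law) ⧸ Q.asIdeal) := Ideal.Quotient.field _
  haveI : Algebra.IsAlgebraic K ((K ⊗[A] PolLaw.image F.law) ⧸ Q.asIdeal) :=
    Algebra.IsIntegral.isAlgebraic
  let e : ((K ⊗[A] PolLaw.image F.law) ⧸ Q.asIdeal) →ₐ[K] Ω := IsAlgClosed.lift
  let H : K ⊗[A] PolLaw.image F.law →ₐ[K] Ω := e.comp (Ideal.Quotient.mkₐ K _)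
  let h : B →ₐ[A] Ω := (H.restrictScalars A).comp
    ((Algebra.TensorProduct.includeRight : PolLaw.image F.law →ₐ[A] K ⊗[A] PolLaw.image F.law).comp
      (Ideal.Quotient.mkₐ A _))
  obtain ⟨i, hi⟩ := hg.exists_eq h fun b hb => by
    show H ((1 : K) ⊗ₜ[A] Ideal.Quotient.mk _ b) = 0
    rw [Ideal.Quotient.eq_zero_iff_mem.2 hb, TensorProduct.tmul_zero, map_zero]
  refine ⟨i, H, ?_, fun b => by rw [hi]; rfl⟩
  ext z
  rw [RingHom.mem_ker]
  show e (Ideal.Quotient.mk _ z) = 0 ↔ _
  rw [map_eq_zero_iff e e.injective, Ideal.Quotient.eq_zero_iff_mem]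

lemma finite_fibre (K : Type u) [Field K] [Algebra A K] :
    Finite (PrimeSpectrum (K ⊗[A] PolLaw.image F.law)) ∧
      Nat.card (PrimeSpectrum (K ⊗[A] PolLaw.image F.law)) ≤ d := by
  obtain ⟨g, hg⟩ := exists_points F (AlgebraicClosure K)
  choose i H hH hHb using exists_point_of_prime F K (AlgebraicClosure K) g hg
  have hinj : Function.Injective i := by
    intro Q Q' h
    have hHH : H Q = H Q' := by
      refine Algebra.TensorProduct.ext (by ext) ?_
      refine AlgHom.ext fun x => ?_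
      obtain ⟨b, rfl⟩ := Ideal.Quotient.mk_surjective x
      exact ((hHb Q b).trans (by rw [h])).trans (hHb Q' b).symm
    exact PrimeSpectrum.ext (by rw [← hH Q, ← hH Q', hHH])
  exact ⟨Finite.of_injective i hinj, (Nat.card_le_card_of_injective i hinj).trans (by simp)⟩

end ZCLib
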