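import Groth.Agent.ZCLib.KerFin
import Mathlib.Algebra.Algebra.Rat
import Mathlib.LinearAlgebra.TensorProduct.Pi
import Mathlib.Tactic.LinearCombination
import Mathlib.Tactic.Positivity

/-! Kernels of base changes along filtered colimits and in characteristic zero. -/

noncomputable section

open TensorProduct

namespace ZCLib

universe u

variable {A : Type u} [CommRing A] {B : Type u} [CommRing B] [Algebra A B] {d : ℕ}
  (F : PolLaw.MulLaw A B A d)

lemma exists_finite_span [Module.Finite A B] :
    ∃ (κ : Type u) (_ : Fintype κ) (v : κ → B), Submodule.span A (Set.range v) = ⊤ := by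
  obtain ⟨T, hT⟩ := (Module.Finite.fg_top : (⊤ : Submodule A B).FG)
  exact ⟨{x // x ∈ T}, inferInstance, Subtype.val, by simpa using hT⟩

lemma kerBC_eq_iSup [Module.Finite A B] {A' : Type u} [CommRing A'] [Algebra A A'] {ι : Type u}
    [Preorder ι] [IsDirected ι (fun i j => i ≤ j)] [Nonempty ι]
    (Ai : ι → Type u) [∀ i, CommRing (Ai i)] [∀ i, Algebra A (Ai i)]
    (t : ∀ i j : ι, i ≤ j → (Ai i →ₐ[A] Ai j)) (φ : ∀ i : ι, Ai i →ₐ[A] A')
    (hcomp : ∀ (i j : ι) (h : i ≤ j), (φ j).comp (t i j h) = φ i)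
    (hsurj : ∀ a : A', ∃ (i : ι) (x : Ai i), φ i x = a)
    (hzero : ∀ (i : ι) (x : Ai i), φ i x = 0 → ∃ (j : ι) (h : i ≤ j), t i j h x = 0)
    (htrans : ∀ (i j k : ι) (hij : i ≤ j) (hjk : j ≤ k),
      (t j k hjk).comp (t i j hij) = t i k (hij.trans hjk)) :
    PolLaw.kerBC F.law A' =
      ⨆ i : ι, (PolLaw.kerBC F.law (Ai i)).map
        (Algebra.TensorProduct.map (φ i) (AlgHom.id A B)) := by
  classical
  refine le_antisymm (fun x hx => ?_)
    (iSup_le fun i => Ideal.map_le_iff_le_comap.2 fun b hb => map_mem_kerBC F (φ i) hb)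
  obtain ⟨κ, _, v, hv⟩ := exists_finite_span (A := A) (B := B)
  obtain ⟨i, y, hy⟩ : ∃ (i : ι) (y : Ai i ⊗[A] B),
      Algebra.TensorProduct.map (φ i) (AlgHom.id A B) y = x := by
    clear hx
    induction x with
    | zero => exact ⟨Classical.arbitrary ι, 0, map_zero _⟩
    | tmul a b =>
      obtain ⟨i, y, rfl⟩ := hsurj a
      exact ⟨i, y ⊗ₜ b, by simp⟩
    | add u w hu hw =>
      obtain ⟨i, y, rfl⟩ := hu
      obtain ⟨j, z, rfl⟩ := hw
      obtain ⟨k, hik, hjk⟩ := directed_of (fun i j => i ≤ j) i j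
      refine ⟨k, Algebra.TensorProduct.map (t i k hik) (AlgHom.id A B) y +
        Algebra.TensorProduct.map (t j k hjk) (AlgHom.id A B) z, ?_⟩
      rw [map_add, ← AlgHom.comp_apply, ← AlgHom.comp_apply, ← Algebra.TensorProduct.map_comp,
        ← Algebra.TensorProduct.map_comp, hcomp, hcomp, AlgHom.id_comp]
  have hD : MvPolynomial.map (φ i).toRingHom (testPol F v (Ai i) y - 1) = 0 := by
    rw [map_sub, map_one, ← testPol_map, hy, (mem_kerBC_iff_testPol F v hv _).1 hx, sub_self]
  set D := testPol F v (Ai i) y - 1 with hDdef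
  have hc : ∀ e, ∃ j, ∃ h : i ≤ j, t i j h (D.coeff e) = 0 := fun e => hzero i _ (by
    have := congrArg (MvPolynomial.coeff e) hD
    rwa [MvPolynomial.coeff_map, MvPolynomial.coeff_zero] at this)
  choose j hij hj using hc
  obtain ⟨k, hk⟩ : ∃ k, ∀ m ∈ insert i (D.support.image j), m ≤ k :=
    Finset.exists_le _
  have hik : i ≤ k := hk i (Finset.mem_insert_self _ _)
  have hzeroD : MvPolynomial.map (t i k hik).toRingHom D = 0 := by
    ext e
    rw [MvPolynomial.coeff_map, MvPolynomial.coeff_zero]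
    show t i k hik (D.coeff e) = 0
    by_cases he : e ∈ D.support
    · have hjk : j e ≤ k := hk _ (Finset.mem_insert_of_mem (Finset.mem_image_of_mem _ he))
      rw [← htrans i (j e) k (hij e) hjk, AlgHom.comp_apply, hj, map_zero]
    · rw [MvPolynomial.notMem_support_iff.1 he, map_zero]
  have hmem : Algebra.TensorProduct.map (t i k hik) (AlgHom.id A B) y ∈
      PolLaw.kerBC F.law (Ai k) := by
    rw [mem_kerBC_iff_testPol F v hv, testPol_map, ← sub_eq_zero,
      ← map_one (MvPolynomial.map (σ := κ) (t i k hik).toRingHom), ← map_sub, ← hDdef, hzeroD]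
  refine Ideal.mem_iSup_of_mem k ?_
  have hxk : Algebra.TensorProduct.map (φ k) (AlgHom.id A B)
      (Algebra.TensorProduct.map (t i k hik) (AlgHom.id A B) y) = x := by
    rw [← AlgHom.comp_apply, ← Algebra.TensorProduct.map_comp, hcomp, AlgHom.id_comp, hy]
  rw [← hxk]
  exact Ideal.mem_map_of_mem _ hmem

/-- The first order part of a law. -/
def lin (z : B) : A :=
  TrivSqZeroExt.snd (TensorProduct.rid A (DualNumber A)
    (F.law.toFun' (DualNumber A) (1 + (DualNumber.eps : DualNumber A) ⊗ₜ[A] z)))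

variable {R : Type u} [CommRing R] [Algebra A R]

lemma law_one_add_nilsquare (s : R) (hs : s * s = 0) (z : B) :
    TensorProduct.rid A R (F.law.toFun' R (1 + s ⊗ₜ[A] z)) = 1 + lin F z • s := by
  let ψ : DualNumber A →ₐ[A] R :=
    DualNumber.lift ⟨(Algebra.ofId A R, s), hs, fun _ => Commute.all _ _⟩
  have hψ : ψ DualNumber.eps = s := by simp [ψ]
  have h : Algebra.TensorProduct.map ψ (AlgHom.id A B)
      (1 + (DualNumber.eps : DualNumber A) ⊗ₜ[A] z) = 1 + s ⊗ₜ[A] z := by
    simp [hψ]
  rw [← h, map_rTensor, rid_map]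
  set D := TensorProduct.rid A (DualNumber A)
    (F.law.toFun' (DualNumber A) (1 + (DualNumber.eps : DualNumber A) ⊗ₜ[A] z)) with hD
  have hfst : TrivSqZeroExt.fst D = 1 := by
    let π : DualNumber A →ₐ[A] A := TrivSqZeroExt.fstHom A A A
    show π D = 1
    rw [hD, ← rid_map, ← map_rTensor, map_add, map_one, Algebra.TensorProduct.map_tmul]
    rw [show π DualNumber.eps = 0 from DualNumber.fst_eps, TensorProduct.zero_tmul, add_zero,
      (F.mult A).1, Algebra.TensorProduct.one_def, TensorProduct.rid_tmul, one_smul]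
  have hdec : D = algebraMap A (DualNumber A) 1 + lin F z • DualNumber.eps := by
    refine TrivSqZeroExt.ext ?_ ?_
    · rw [hfst]; simp
    · simp [lin, hD]
  rw [hdec, map_add, map_smul, hψ, map_one, map_one]

lemma law_one_add_add (s : R) (hs : s * s = 0) (y z : B) :
    lin F (y + z) • s = (lin F y + lin F z) • s := by
  have h := law_one_add_nilsquare F s hs
  have hmul : (1 : R ⊗[A] B) + s ⊗ₜ[A] (y + z) = (1 + s ⊗ₜ[A] y) * (1 + s ⊗ₜ[A] z) := by
    rw [mul_add, mul_one, add_mul, one_mul, Algebra.TensorProduct.tmul_mul_tmul,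
      hs, TensorProduct.zero_tmul, add_zero, TensorProduct.tmul_add, add_assoc]
  have hr : ∀ a b : R ⊗[A] A, TensorProduct.rid A _ (a * b) =
      TensorProduct.rid A _ a * TensorProduct.rid A _ b :=
    map_mul (Algebra.TensorProduct.rid A A R)
  have h1 := h (y + z)
  rw [hmul, (F.mult _).2, hr, h, h] at h1
  have h0 : lin F y • s * lin F z • s = 0 := by rw [smul_mul_smul_comm, hs, smul_zero]
  rw [add_mul, one_mul, mul_add, mul_one, h0, add_zero, add_assoc] at h1
  rw [add_left_cancel h1.symm, add_smul, add_comm]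

lemma lin_add (y z : B) : lin F (y + z) = lin F y + lin F z := by
  have h := law_one_add_add (R := DualNumber A) F DualNumber.eps DualNumber.eps_mul_eps y z
  simpa using congrArg TrivSqZeroExt.snd h

lemma lin_smul (a : A) (z : B) : lin F (a • z) = a * lin F z := by
  have h := law_one_add_nilsquare (R := DualNumber A) F (a • DualNumber.eps)
    (by rw [smul_mul_smul_comm, DualNumber.eps_mul_eps, smul_zero]) z
  rw [TensorProduct.smul_tmul] at h
  have h' := law_one_add_nilsquare (R := DualNumber A) F DualNumber.eps DualNumber.eps_mul_eps (a • z)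
  rw [h'] at h
  have h2 := congrArg TrivSqZeroExt.snd h
  simp at h2
  rw [h2, mul_comm]

/-- The first order part as a linear map. -/
def linMap : B →ₗ[A] A where
  toFun := lin F
  map_add' := lin_add F
  map_smul' a z := lin_smul F a z

lemma law_one_add_smul (s : R) (hs : s * s = 0) (y : R ⊗[A] B) :
    TensorProduct.rid A R (F.law.toFun' R (1 + (s ⊗ₜ[A] (1 : B)) * y)) =
      1 + s * TensorProduct.rid A R ((linMap F).lTensor R y) := by
  have hr : ∀ a b : R ⊗[A] A, TensorProduct.rid A _ (a * b) =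
      TensorProduct.rid A _ a * TensorProduct.rid A _ b :=
    map_mul (Algebra.TensorProduct.rid A A R)
  induction y with
  | zero => rw [mul_zero, add_zero, (F.mult R).1, map_zero, map_zero, mul_zero, add_zero,
      Algebra.TensorProduct.one_def, TensorProduct.rid_tmul, one_smul]
  | tmul r z =>
    rw [Algebra.TensorProduct.tmul_mul_tmul, one_mul,
      law_one_add_nilsquare F _ (by rw [mul_mul_mul_comm, hs, zero_mul])]
    simp [linMap, mul_smul_comm]
  | add u w hu hw =>
    have : (1 : R ⊗[A] B) + (s ⊗ₜ[A] (1 : B)) * (u + w) =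
        (1 + (s ⊗ₜ[A] (1 : B)) * u) * (1 + (s ⊗ₜ[A] (1 : B)) * w) := by
      have h0 : (s ⊗ₜ[A] (1 : B)) * u * ((s ⊗ₜ[A] (1 : B)) * w) = 0 := by
        rw [mul_mul_mul_comm, Algebra.TensorProduct.tmul_mul_tmul, hs, TensorProduct.zero_tmul,
          zero_mul]
      rw [mul_add, mul_add, mul_one, add_mul, one_mul, h0, add_zero, add_assoc]
    rw [this, (F.mult R).2, hr, hu, hw, map_add, map_add]
    linear_combination (TensorProduct.rid A R ((linMap F).lTensor R u) *
      TensorProduct.rid A R ((linMap F).lTensor R w)) * hs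

lemma law_shift {S : Type u} [CommRing S] [Algebra A S] (ep x : S) (hep : ep * ep = 0) {n : ℕ}
    (hx : x ^ n = 0) (y : S ⊗[A] B) (hy : ∀ w : S ⊗[A] B, (linMap F).lTensor S (w * y) = 0) :
    F.law.toFun' S (1 + ((x + ep) ⊗ₜ[A] (1 : B)) * y) =
      F.law.toFun' S (1 + (x ⊗ₜ[A] (1 : B)) * y) := by
  have hnil : IsNilpotent ((x ⊗ₜ[A] (1 : B)) * y) :=
    ⟨n, by rw [mul_pow, Algebra.TensorProduct.tmul_pow, hx, TensorProduct.zero_tmul, zero_mul]⟩
  obtain ⟨u, hu⟩ := hnil.isUnit_one_add
  have hx : (1 : S ⊗[A] B) + ((x + ep) ⊗ₜ[A] (1 : B)) * y =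
      (↑u : S ⊗[A] B) * (1 + (ep ⊗ₜ[A] (1 : B)) * (↑u⁻¹ * y)) := by
    rw [mul_add, mul_one, mul_left_comm, ← mul_assoc (↑u : S ⊗[A] B), Units.mul_inv, one_mul, hu,
      TensorProduct.add_tmul, add_mul, add_assoc]
  have h1 : F.law.toFun' S (1 + (ep ⊗ₜ[A] (1 : B)) * (↑u⁻¹ * y)) = 1 := by
    apply (TensorProduct.rid A S).injective
    rw [law_one_add_smul F ep hep, hy, map_zero, mul_zero, add_zero,
      Algebra.TensorProduct.one_def, TensorProduct.rid_tmul, one_smul]
  rw [hx, (F.mult S).2, h1, mul_one, hu]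

lemma law_one_add_of_lin_eq_zero [Algebra ℚ A] (z : R ⊗[A] B)
    (hz : ∀ (R' : Type u) [CommRing R'] [Algebra A R'] (ι : R →ₐ[A] R') (w : R' ⊗[A] B),
      (linMap F).lTensor R' (w * Algebra.TensorProduct.map ι (AlgHom.id A B) z) = 0) :
    F.law.toFun' R (1 + z) = 1 := by
  letI : Algebra ℚ R := ((algebraMap A R).comp (algebraMap ℚ A)).toAlgebra

  let ι : R →ₐ[A] (Polynomial R) := IsScalarTower.toAlgHom A R (Polynomial R)
  let x : (Polynomial R) ⊗[A] B := (Polynomial.X ⊗ₜ[A] (1 : B)) * Algebra.TensorProduct.map ι (AlgHom.id A B) z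
  set g : (Polynomial R) := TensorProduct.rid A (Polynomial R) (F.law.toFun' (Polynomial R) (1 + x)) with hg
  have hmapg : ∀ (S : Type u) [CommRing S] [Algebra A S] (e : (Polynomial R) →ₐ[A] S),
      e g = TensorProduct.rid A S (F.law.toFun' S
        (1 + (e Polynomial.X ⊗ₜ[A] (1 : B)) * Algebra.TensorProduct.map (e.comp ι) (AlgHom.id A B) z)) := by
    intro S _ _ e
    rw [hg, ← rid_map, ← map_rTensor, map_add, map_one, map_mul, Algebra.TensorProduct.map_tmul,
      AlgHom.id_apply, ← AlgHom.comp_apply, ← Algebra.TensorProduct.map_comp, AlgHom.id_comp]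
  have hev : ∀ r : R, g.eval r = TensorProduct.rid A R (F.law.toFun' R (1 + (r ⊗ₜ[A] (1 : B)) * z)) := by
    intro r
    let e : (Polynomial R) →ₐ[A] R := (Polynomial.aeval r).restrictScalars A
    have h := hmapg R e
    rw [show e.comp ι = AlgHom.id A R from AlgHom.ext fun a => by simp [e, ι],
      Algebra.TensorProduct.map_id, AlgHom.id_apply] at h
    simp only [e, AlgHom.restrictScalars_apply, Polynomial.aeval_X] at h
    rw [← h, Polynomial.coe_aeval_eq_eval]
  have hstep : ∀ (S : Type u) [CommRing S] [Algebra A S] [Algebra R S] [IsScalarTower A R S] (x ep : S),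
      ep * ep = 0 → (∃ n, x ^ n = 0) → Polynomial.aeval x (Polynomial.derivative g) * ep = 0 := by
    intro S _ _ _ _ x ep hep ⟨n, hn⟩
    have h1 := hmapg S ((Polynomial.aeval (x + ep)).restrictScalars A)
    have h2 := hmapg S ((Polynomial.aeval x).restrictScalars A)
    have hc : ∀ y : S, ((Polynomial.aeval y).restrictScalars A : (Polynomial R) →ₐ[A] S).comp ι =
        IsScalarTower.toAlgHom A R S := fun y => AlgHom.ext fun a => by simp [ι]
    simp only [hc, AlgHom.restrictScalars_apply, Polynomial.aeval_X] at h1 h2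
    rw [law_shift F ep x hep hn _ fun w => hz _ _ w, ← h2,
      Polynomial.aeval_add_of_sq_eq_zero g x ep (by rw [pow_two]; exact hep)] at h1
    simpa using h1
  have hder : Polynomial.derivative g = 0 := by
    by_contra hne
    obtain ⟨n, hn⟩ : ∃ n, (Polynomial.derivative g).coeff n ≠ 0 := by
      by_contra h; simp only [not_exists, not_not] at h; exact hne (Polynomial.ext h)
    apply hn
    let I : Ideal (Polynomial R) := Ideal.span {Polynomial.X ^ (n + 1)}
    let q : (Polynomial R) →ₐ[R] (Polynomial R) ⧸ I := Ideal.Quotient.mkₐ R I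
    let c : ((Polynomial R) ⧸ I) →ₐ[R] DualNumber ((Polynomial R) ⧸ I) := IsScalarTower.toAlgHom R ((Polynomial R) ⧸ I) _
    have h := hstep (DualNumber ((Polynomial R) ⧸ I)) (c (q Polynomial.X)) DualNumber.eps DualNumber.eps_mul_eps
      ⟨n + 1, by rw [← map_pow, ← map_pow, show q (Polynomial.X ^ (n + 1)) = 0 from
        Ideal.Quotient.eq_zero_iff_mem.2 (Ideal.mem_span_singleton_self _), map_zero]⟩
    rw [Polynomial.aeval_algHom_apply, Polynomial.aeval_algHom_apply, Polynomial.aeval_X_left_apply] at h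
    have hsnd : q (Polynomial.derivative g) = 0 := by
      have h' := congrArg TrivSqZeroExt.snd h
      simpa [c, TrivSqZeroExt.algebraMap_eq_inl, DualNumber.snd_mul] using h'
    have hmem : Polynomial.derivative g ∈ I := Ideal.Quotient.eq_zero_iff_mem.1 hsnd
    obtain ⟨p, hp⟩ := Ideal.mem_span_singleton'.1 hmem
    rw [← hp, Polynomial.coeff_mul_X_pow', if_neg (by omega)]
  have hconst : g = Polynomial.C (g.coeff 0) := by
    ext n
    rcases n with _ | m
    · simp
    rw [Polynomial.coeff_C, if_neg (Nat.succ_ne_zero m)]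
    have := congrArg (fun p => Polynomial.coeff p m) hder
    simp only [Polynomial.coeff_derivative, Polynomial.coeff_zero] at this
    have hm : IsUnit ((m : R) + 1) := by
      rw [show (m : R) + 1 = algebraMap ℚ R ((m : ℚ) + 1) by simp]
      exact (isUnit_iff_ne_zero.2 (by positivity)).map _
    exact hm.mul_left_eq_zero.1 this
  have h1 : TensorProduct.rid A R (F.law.toFun' R (1 + z)) = 1 := by
    have e1 := hev 1
    have e0 := hev 0
    rw [hconst, Polynomial.eval_C] at e1 e0
    rw [← Algebra.TensorProduct.one_def, one_mul] at e1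
    rw [TensorProduct.zero_tmul, zero_mul, add_zero, (F.mult R).1, Algebra.TensorProduct.one_def,
      TensorProduct.rid_tmul, one_smul] at e0
    rw [← e1, e0]
  apply (TensorProduct.rid A R).injective
  rw [h1, Algebra.TensorProduct.one_def, TensorProduct.rid_tmul, one_smul]

lemma lin_ker_eq_zero {b : B} (hb : b ∈ PolLaw.ker F.law) (w : B) : lin F (w * b) = 0 := by
  have h := law_one_add_nilsquare (R := DualNumber A) F DualNumber.eps DualNumber.eps_mul_eps (w * b)
  rw [show (DualNumber.eps : DualNumber A) ⊗ₜ[A] (w * b) =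
      ((DualNumber.eps : DualNumber A) ⊗ₜ[A] w) * (1 ⊗ₜ[A] b) by simp,
    (mem_ker_iff F b).1 hb, Algebra.TensorProduct.one_def, TensorProduct.rid_tmul, one_smul] at h
  simpa using congrArg TrivSqZeroExt.snd h.symm

/-- In characteristic zero the kernel commutes with flat base change. -/
lemma kerBC_le_map_of_flat [Algebra ℚ A] [Module.Finite A B] (A' : Type u) [CommRing A']
    [Algebra A A'] [Module.Flat A A'] : PolLaw.kerBC F.law A' ≤
      (PolLaw.ker F.law).map (Algebra.TensorProduct.includeRight : B →ₐ[A] A' ⊗[A] B) := by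
  classical
  obtain ⟨κ, _, v, hv⟩ := exists_finite_span (A := A) (B := B)
  let L : B →ₗ[A] (κ → A) := LinearMap.pi fun j => linMap F ∘ₗ LinearMap.mulLeft A (v j)
  have hker : LinearMap.ker L ≤ (PolLaw.ker F.law).restrictScalars A := by
    intro b hb
    rw [Submodule.restrictScalars_mem, mem_ker_iff]
    intro S _ _ w
    refine law_one_add_of_lin_eq_zero F _ fun R' _ _ ι w' => ?_
    rw [map_mul (Algebra.TensorProduct.map ι (AlgHom.id A B)), Algebra.TensorProduct.map_tmul, map_one,
      AlgHom.id_apply, ← mul_assoc]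
    obtain ⟨s, hs⟩ := exists_coord v hv (w' * Algebra.TensorProduct.map ι (AlgHom.id A B) w)
    rw [hs, Finset.sum_mul, map_sum]
    refine Finset.sum_eq_zero fun j _ => ?_
    have := congrFun (LinearMap.mem_ker.1 hb) j
    simp only [L, LinearMap.pi_apply, LinearMap.comp_apply, LinearMap.mulLeft_apply,
      Pi.zero_apply] at this
    simp [this]
  intro x hx
  rw [mem_kerBC_iff] at hx
  have hzero : ∀ j, (linMap F ∘ₗ LinearMap.mulLeft A (v j)).lTensor A' x = 0 := by
    intro j
    let c : A' →ₐ[A] DualNumber A' := IsScalarTower.toAlgHom A A' _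
    let ep : DualNumber A' := DualNumber.eps
    have h := hx (DualNumber A') (ep ⊗ₜ[A] v j)
    have e : (ep ⊗ₜ[A] v j) * bcMap A' (DualNumber A') x =
        (ep ⊗ₜ[A] (1 : B)) * (((1 : DualNumber A') ⊗ₜ[A] v j) * bcMap A' (DualNumber A') x) := by
      rw [← mul_assoc, Algebra.TensorProduct.tmul_mul_tmul, mul_one, one_mul]
    rw [e] at h
    have h2 := law_one_add_smul F ep DualNumber.eps_mul_eps
      (((1 : DualNumber A') ⊗ₜ[A] v j) * bcMap A' (DualNumber A') x)
    rw [h, Algebra.TensorProduct.one_def, TensorProduct.rid_tmul, one_smul] at h2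
    have hcomm : TensorProduct.rid A (DualNumber A') ((linMap F).lTensor (DualNumber A')
        (((1 : DualNumber A') ⊗ₜ[A] v j) * bcMap A' (DualNumber A') x)) =
        c (TensorProduct.rid A A' ((linMap F ∘ₗ LinearMap.mulLeft A (v j)).lTensor A' x)) := by
      clear h h2 hx e
      induction x with
      | zero => simp
      | tmul a b => simp [bcMap, c, map_smul]
      | add a b ha hb => simp only [map_add, mul_add, ha, hb]
    rw [hcomm] at h2
    apply (TensorProduct.rid A A').injective
    have h3 := congrArg TrivSqZeroExt.snd h2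
    simp [ep, c, DualNumber.snd_mul, TrivSqZeroExt.algebraMap_eq_inl] at h3
    rw [map_zero]
    exact h3.symm
  have hL : L.lTensor A' x = 0 := by
    apply (TensorProduct.piScalarRight A A A' κ).injective
    rw [map_zero]
    funext j
    have := hzero j
    rw [LinearMap.lTensor_comp, LinearMap.comp_apply] at this
    have e : ∀ y : A' ⊗[A] B, TensorProduct.piScalarRight A A A' κ (L.lTensor A' y) j =
        TensorProduct.rid A A' ((linMap F ∘ₗ LinearMap.mulLeft A (v j)).lTensor A' y) := fun y => by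
      induction y with
      | zero => simp
      | tmul a b => simp [L]
      | add a b ha hb => simp only [map_add, Pi.add_apply, ha, hb]
    rw [e, hzero j, map_zero, Pi.zero_apply]
  obtain ⟨y, rfl⟩ :=
    ((Module.Flat.lTensor_exact A' (LinearMap.exact_subtype_ker_map L)) x).1 hL
  clear hx hzero hL
  induction y with
  | zero => simp
  | add a b ha hb => rw [map_add]; exact add_mem ha hb
  | tmul a k =>
    rw [LinearMap.lTensor_tmul, Submodule.subtype_apply,
      show a ⊗ₜ[A] (k : B) = (a ⊗ₜ[A] (1 : B)) * (1 ⊗ₜ[A] (k : B)) by simp]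
    exact Ideal.mul_mem_left _ _ (Ideal.mem_map_of_mem _ (hker k.2))

end ZCLib
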