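import Groth.Agent.ZCLib.Ker
import Mathlib.RingTheory.Flat.FaithfullyFlat.Algebra
import Mathlib.RingTheory.AdjoinRoot
import Mathlib.LinearAlgebra.Vandermonde
import Mathlib.RingTheory.Finiteness.Basic
import Mathlib.FieldTheory.Separable
import Mathlib.RingTheory.Localization.Basic
import Mathlib.Algebra.Polynomial.Splits
import Mathlib.RingTheory.TensorProduct.Free
import Mathlib.Algebra.DualNumber

/-! Kernels of base changes of laws. -/

noncomputable section

open TensorProduct

namespace ZCLib

universe u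

variable {A : Type u} [CommRing A] {B : Type u} [CommRing B] [Algebra A B] {d : ℕ}
  (F : PolLaw.MulLaw A B A d) {A' A'' : Type u} [CommRing A'] [Algebra A A'] [CommRing A'']
  [Algebra A A'']

lemma map_mem_kerBC (ψ : A' →ₐ[A] A'') {b : A' ⊗[A] B} (hb : b ∈ PolLaw.kerBC F.law A') :
    Algebra.TensorProduct.map ψ (AlgHom.id A B) b ∈ PolLaw.kerBC F.law A'' := by
  rw [mem_kerBC_iff] at hb ⊢
  intro R _ _ _ _ w
  letI : Algebra A' R := ((algebraMap A'' R).comp ψ.toRingHom).toAlgebra
  haveI : IsScalarTower A A' R := IsScalarTower.of_algebraMap_eq fun a => by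
    show algebraMap A R a = algebraMap A'' R (ψ (algebraMap A A' a))
    rw [ψ.commutes, ← IsScalarTower.algebraMap_apply]
  have e : bcMap A'' R (Algebra.TensorProduct.map ψ (AlgHom.id A B) b) = bcMap A' R b := by
    rw [bcMap, bcMap, ← AlgHom.comp_apply]
    congr 1
    ext <;> simp [RingHom.algebraMap_toAlgebra]
  rw [e]
  exact hb R w

/-- Kernel membership descends along faithfully flat maps. -/
lemma mem_ker_of_tmul_mem [Module.FaithfullyFlat A A'] {b : B}
    (hb : (1 : A') ⊗ₜ[A] b ∈ PolLaw.kerBC F.law A') : b ∈ PolLaw.ker F.law := by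
  rw [mem_ker_iff]
  rw [mem_kerBC_iff] at hb
  intro S _ _ w
  let ι : S →ₐ[A] A' ⊗[A] S := Algebra.TensorProduct.includeRight
  letI : Algebra A' (A' ⊗[A] S) := Algebra.TensorProduct.leftAlgebra
  have hinj : Function.Injective (Algebra.TensorProduct.map ι (AlgHom.id A A)) := by
    have h : ∀ x, TensorProduct.rid A (A' ⊗[A] S) (Algebra.TensorProduct.map ι (AlgHom.id A A) x) =
        ι (TensorProduct.rid A S x) := fun x => by
      induction x with
      | zero => simp
      | tmul s a => simp [map_smul]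
      | add x y hx hy => simp only [map_add, hx, hy]
    intro x y hxy
    refine (TensorProduct.rid A S).injective
      (Module.FaithfullyFlat.tensorProduct_mk_injective (A := A) (B := A') S ?_)
    have := congrArg (TensorProduct.rid A (A' ⊗[A] S)) hxy
    rw [h, h] at this
    exact this
  apply hinj
  rw [← map_rTensor, map_one, map_add, map_one, map_mul, Algebra.TensorProduct.map_tmul, map_one,
    AlgHom.id_apply]
  have h := hb (A' ⊗[A] S) (Algebra.TensorProduct.map ι (AlgHom.id A B) w)
  rwa [bcMap, Algebra.TensorProduct.map_tmul, map_one, AlgHom.id_apply] at h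

section Finite

variable {κ : Type u} [Fintype κ] (v : κ → B)

lemma exists_coord (hv : Submodule.span A (Set.range v) = ⊤) {R : Type u} [CommRing R] [Algebra A R]
    (w : R ⊗[A] B) : ∃ s : κ → R, w = ∑ j, s j ⊗ₜ[A] v j := by
  induction w with
  | zero => exact ⟨0, by simp⟩
  | tmul r b =>
    obtain ⟨a, ha⟩ := (Submodule.mem_span_range_iff_exists_fun A).1
      (show b ∈ Submodule.span A (Set.range v) by rw [hv]; trivial)
    exact ⟨fun j => a j • r, by simp [← ha, TensorProduct.tmul_sum, TensorProduct.smul_tmul]⟩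
  | add x y hx hy =>
    obtain ⟨s, hs⟩ := hx
    obtain ⟨t, ht⟩ := hy
    exact ⟨s + t, by simp [hs, ht, TensorProduct.add_tmul, Finset.sum_add_distrib]⟩

/-- The universal test of kernel membership. -/
def testPol (A' : Type u) [CommRing A'] [Algebra A A'] (b : A' ⊗[A] B) : MvPolynomial κ A' :=
  TensorProduct.rid A (MvPolynomial κ A') (F.law.toFun' (MvPolynomial κ A')
    (1 + (∑ j, (MvPolynomial.X j : MvPolynomial κ A') ⊗ₜ[A] v j) *
      bcMap A' (MvPolynomial κ A') b))

omit [Fintype κ] in
lemma rid_map {R R' : Type u} [CommRing R] [Algebra A R] [CommRing R'] [Algebra A R']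
    (φ : R →ₐ[A] R') (x : R ⊗[A] A) :
    TensorProduct.rid A R' (Algebra.TensorProduct.map φ (AlgHom.id A A) x) =
      φ (TensorProduct.rid A R x) := by
  induction x with
  | zero => simp
  | tmul r a => simp [map_smul]
  | add x y hx hy => simp only [map_add, hx, hy]

lemma mem_kerBC_iff_testPol (hv : Submodule.span A (Set.range v) = ⊤) (b : A' ⊗[A] B) :
    b ∈ PolLaw.kerBC F.law A' ↔ testPol F v A' b = 1 := by
  rw [mem_kerBC_iff]
  refine ⟨fun h => by rw [testPol, h, Algebra.TensorProduct.one_def, TensorProduct.rid_tmul,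
    one_smul], fun h R _ _ _ _ w => ?_⟩
  obtain ⟨s, rfl⟩ := exists_coord v hv w
  let ψ : MvPolynomial κ A' →ₐ[A] R := (MvPolynomial.aeval s).restrictScalars A
  have e : Algebra.TensorProduct.map ψ (AlgHom.id A B)
      (1 + (∑ j, (MvPolynomial.X j : MvPolynomial κ A') ⊗ₜ[A] v j) *
        bcMap A' (MvPolynomial κ A') b) = 1 + (∑ j, s j ⊗ₜ[A] v j) * bcMap A' R b := by
    rw [map_add, map_one, map_mul, map_sum]
    congr 1
    congr 1
    · simp [ψ]
    · rw [bcMap, bcMap, ← AlgHom.comp_apply]
      congr 1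
      ext <;> simp [ψ]
  rw [← e, map_rTensor]
  apply (TensorProduct.rid A R).injective
  rw [rid_map, show TensorProduct.rid A (MvPolynomial κ A') _ = 1 from h, map_one,
    Algebra.TensorProduct.one_def, TensorProduct.rid_tmul, one_smul]

lemma testPol_map (ψ : A' →ₐ[A] A'') (b : A' ⊗[A] B) :
    testPol F v A'' (Algebra.TensorProduct.map ψ (AlgHom.id A B) b) =
      MvPolynomial.map ψ.toRingHom (testPol F v A' b) := by
  let Ψ : MvPolynomial κ A' →ₐ[A] MvPolynomial κ A'' := MvPolynomial.mapAlgHom ψ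
  show _ = Ψ _
  rw [testPol, testPol, ← rid_map, ← map_rTensor, map_add, map_one, map_mul, map_sum]
  congr 3
  congr 1
  · simp [Ψ]
  · rw [bcMap, bcMap, ← AlgHom.comp_apply, ← AlgHom.comp_apply]
    congr 1
    ext <;> simp [Ψ]

include F in
/-- The kernel commutes with localisation. -/
lemma kerBC_le_map_of_isLocalization (hv : Submodule.span A (Set.range v) = ⊤) (M : Submonoid A)
    [IsLocalization M A'] : PolLaw.kerBC F.law A' ≤
      (PolLaw.ker F.law).map (Algebra.TensorProduct.includeRight : B →ₐ[A] A' ⊗[A] B) := by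
  classical
  intro x hx
  obtain ⟨s₀, b, hb⟩ : ∃ (s : M) (b : B), algebraMap A A' s • x = 1 ⊗ₜ[A] b := by
    clear hx
    induction x with
    | zero => exact ⟨1, 0, by simp⟩
    | tmul r b =>
      obtain ⟨⟨a, s⟩, h⟩ := IsLocalization.surj M r
      refine ⟨s, a • b, ?_⟩
      rw [TensorProduct.smul_tmul', smul_eq_mul, mul_comm, h, Algebra.algebraMap_eq_smul_one,
        TensorProduct.smul_tmul]
    | add u w hu hw =>
      obtain ⟨s, b, h⟩ := hu
      obtain ⟨t, c, h'⟩ := hw
      refine ⟨s * t, (t : A) • b + (s : A) • c, ?_⟩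
      rw [smul_add, TensorProduct.tmul_add, TensorProduct.tmul_smul, TensorProduct.tmul_smul,
        ← h, ← h', ← algebraMap_smul A' (t : A), ← algebraMap_smul A' (s : A), smul_smul,
        smul_smul, Submonoid.coe_mul, map_mul, mul_comm]
  have hu : IsUnit (algebraMap A A' (s₀ : A)) := IsLocalization.map_units A' s₀
  have hb' : (1 : A') ⊗ₜ[A] b ∈ PolLaw.kerBC F.law A' := by
    rw [← hb, Algebra.smul_def]
    exact Ideal.mul_mem_left _ _ hx
  have hmap : MvPolynomial.map (Algebra.ofId A A').toRingHom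
      (testPol F v A ((1 : A) ⊗ₜ[A] b) - 1) = 0 := by
    rw [map_sub, map_one, ← testPol_map, Algebra.TensorProduct.map_tmul, map_one, AlgHom.id_apply,
      (mem_kerBC_iff_testPol F v hv _).1 hb', sub_self]
  set D := testPol F v A ((1 : A) ⊗ₜ[A] b) - 1 with hD
  have hc : ∀ e, ∃ s : M, (s : A) * D.coeff e = 0 := fun e => by
    have := congrArg (MvPolynomial.coeff e) hmap
    rw [MvPolynomial.coeff_map, MvPolynomial.coeff_zero] at this
    exact (IsLocalization.map_eq_zero_iff M A' _).1 this
  choose sc hsc using hc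
  let s₁ : M := ∏ e ∈ D.support, sc e
  have hkill : ∀ e, (s₁ : A) * D.coeff e = 0 := fun e => by
    by_cases he : e ∈ D.support
    · rw [show s₁ = (∏ i ∈ D.support.erase e, sc i) * sc e from (Finset.prod_erase_mul _ _ he).symm,
        Submonoid.coe_mul, mul_assoc, hsc, mul_zero]
    · rw [MvPolynomial.notMem_support_iff.1 he, mul_zero]
  let σ : MvPolynomial κ A →ₐ[A] MvPolynomial κ A :=
    MvPolynomial.aeval fun j => MvPolynomial.C (s₁ : A) * MvPolynomial.X j
  have hσ : testPol F v A ((1 : A) ⊗ₜ[A] ((s₁ : A) • b)) = σ (testPol F v A ((1 : A) ⊗ₜ[A] b)) := by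
    rw [testPol, testPol, ← rid_map, ← map_rTensor, map_add, map_one, map_mul, map_sum]
    congr 3
    simp only [bcMap, Algebra.TensorProduct.map_tmul, map_one, AlgHom.id_apply, Finset.sum_mul,
      Algebra.TensorProduct.tmul_mul_tmul, mul_one, mul_smul_comm, TensorProduct.tmul_smul, σ,
      MvPolynomial.aeval_X, TensorProduct.smul_tmul', MvPolynomial.C_mul', map_smul, map_one]
  have h0 : MvPolynomial.constantCoeff D = 0 := by
    let ε : MvPolynomial κ A →ₐ[A] A := MvPolynomial.aeval (0 : κ → A)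
    rw [show MvPolynomial.constantCoeff D = ε D by simp [ε, MvPolynomial.constantCoeff_eq], hD,
      map_sub, map_one, testPol, ← rid_map, ← map_rTensor, map_add, map_one, map_mul, map_sum]
    simp only [ε, Algebra.TensorProduct.map_tmul, MvPolynomial.aeval_X, Pi.zero_apply,
      TensorProduct.zero_tmul, Finset.sum_const_zero, zero_mul, add_zero]
    rw [(F.mult A).1, Algebra.TensorProduct.one_def,
      TensorProduct.rid_tmul, one_smul, sub_self]
  have hker : (s₁ : A) • b ∈ PolLaw.ker F.law := by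
    refine mem_ker_of_tmul_mem F (A' := A) ?_
    rw [mem_kerBC_iff_testPol F v hv, hσ, ← sub_eq_zero, ← map_one σ, ← map_sub, ← hD,
      D.as_sum, map_sum]
    refine Finset.sum_eq_zero fun e _ => ?_
    by_cases he : e = 0
    · subst he
      rw [← MvPolynomial.constantCoeff_eq, h0]
      simp
    rw [MvPolynomial.aeval_monomial, Finsupp.prod]
    simp only [mul_pow, Finset.prod_mul_distrib, ← map_pow, ← map_prod]
    obtain ⟨j, hj⟩ := Finsupp.support_nonempty_iff.2 he
    rw [Finset.prod_pow_eq_pow_sum, ← mul_assoc, MvPolynomial.algebraMap_eq, ← map_mul]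
    obtain ⟨k, hk⟩ := Nat.exists_eq_succ_of_ne_zero (n := ∑ i ∈ e.support, e i) fun h =>
      Finsupp.mem_support_iff.1 hj (Finset.sum_eq_zero_iff.1 h j hj)
    rw [hk, pow_succ, mul_left_comm, mul_comm (D.coeff e), hkill, mul_zero, map_zero, zero_mul]
  have hs : IsUnit (algebraMap A A' ((s₁ * s₀ : M) : A)) := IsLocalization.map_units A' _
  have hx' : algebraMap A A' ((s₁ * s₀ : M) : A) • x ∈
      (PolLaw.ker F.law).map (Algebra.TensorProduct.includeRight : B →ₐ[A] A' ⊗[A] B) := by
    rw [Submonoid.coe_mul, map_mul, mul_smul, hb, algebraMap_smul, ← TensorProduct.tmul_smul]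
    exact Ideal.mem_map_of_mem _ hker
  obtain ⟨u, hu'⟩ := hs
  rw [← hu'] at hx'
  have := Submodule.smul_of_tower_mem _ (↑u⁻¹ : A') hx'
  rwa [smul_smul, Units.inv_mul, one_smul] at this

end Finite

/-- The kernel commutes with base change along a standard étale algebra. -/
lemma kerBC_adjoinRoot_le (g : Polynomial A) (hg : g.Monic) (hsep : g.Separable) :
    PolLaw.kerBC F.law (AdjoinRoot g) ≤
      (PolLaw.ker F.law).map
        (Algebra.TensorProduct.includeRight : B →ₐ[A] AdjoinRoot g ⊗[A] B) := by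
  classical
  intro x hx
  cases subsingleton_or_nontrivial A
  · haveI := Module.subsingleton A (AdjoinRoot g ⊗[A] B)
    rw [Subsingleton.elim x 0]
    exact zero_mem _
  obtain ⟨S, _, _, _, _, _, hS⟩ := hg.exists_splits_map
  obtain ⟨m, hm⟩ := Polynomial.splits_iff_exists_multiset'.1 hS
  rw [(hg.map _).leadingCoeff, map_one, one_mul] at hm
  obtain ⟨l, rfl⟩ := Quot.exists_rep m
  let r : Fin l.length → S := fun k => -l.get k
  have hprod : g.map (algebraMap A S) = ∏ k, (Polynomial.X - Polynomial.C (r k)) := by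
    rw [hm]
    show (Multiset.ofList (l.map fun a => Polynomial.X + Polynomial.C a)).prod = _
    rw [Multiset.prod_coe, ← Fin.prod_univ_getElem]
    refine Fintype.prod_equiv (finCongr (by simp)) _ _ fun k => ?_
    simp [r]
  have hdeg : g.natDegree = l.length := by
    rw [← hg.natDegree_map (algebraMap A S), hprod,
      Polynomial.natDegree_prod_of_monic _ _ fun _ _ => Polynomial.monic_X_sub_C _]
    simp
  have hroot : ∀ k, Polynomial.eval₂ (algebraMap A S) (r k) g = 0 := fun k => by
    rw [Polynomial.eval₂_eq_eval_map, hprod, Polynomial.eval_prod]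
    exact Finset.prod_eq_zero (Finset.mem_univ k) (by simp)
  have hunit : IsUnit (Matrix.vandermonde r).det := by
    rw [Matrix.det_vandermonde]
    refine IsUnit.prod_iff.2 fun i _ => IsUnit.prod_iff.2 fun j hj => ?_
    rw [← IsUnit.neg_iff, neg_sub]
    obtain ⟨a, b, hab⟩ := hsep.map (f := algebraMap A S)
    have he := congrArg (Polynomial.eval (r i)) hab
    rw [Polynomial.eval_add, Polynomial.eval_mul, Polynomial.eval_mul, Polynomial.eval_one,
      Polynomial.eval_map, hroot, mul_zero, zero_add, hprod,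
      ← Finset.mul_prod_erase _ _ (Finset.mem_univ i), Polynomial.derivative_mul] at he
    simp only [Polynomial.derivative_sub, Polynomial.derivative_X, Polynomial.derivative_C,
      sub_zero, one_mul, Polynomial.eval_add, Polynomial.eval_mul, Polynomial.eval_sub,
      Polynomial.eval_X, Polynomial.eval_C, sub_self, zero_mul, add_zero, Polynomial.eval_prod] at he
    have hu : IsUnit (∏ k ∈ Finset.univ.erase i, (r i - r k)) := IsUnit.of_mul_eq_one_right _ he
    exact IsUnit.prod_iff.1 hu j (Finset.mem_erase.2 ⟨(Finset.mem_Ioi.1 hj).ne', Finset.mem_univ _⟩)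
  let σ : Fin l.length → AdjoinRoot g →ₐ[A] S := fun k =>
    AdjoinRoot.liftAlgHom g (Algebra.ofId A S) (r k) (hroot k)
  let e : Module.Basis (Fin l.length) A (AdjoinRoot g) :=
    (AdjoinRoot.powerBasis' hg).basis.reindex (finCongr hdeg)
  have he : ∀ i, e i = AdjoinRoot.root g ^ (i : ℕ) := fun i => by simp [e]
  obtain ⟨c, hc⟩ : ∃ c : Fin l.length → B, x = ∑ i, e i ⊗ₜ[A] c i := by
    clear hx
    induction x with
    | zero => exact ⟨0, by simp⟩
    | tmul y b => exact ⟨fun i => e.repr y i • b, by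
        conv_lhs => rw [← e.sum_repr y, TensorProduct.sum_tmul]
        exact Finset.sum_congr rfl fun i _ => TensorProduct.smul_tmul _ _ _⟩
    | add u w hu hw =>
      obtain ⟨c, rfl⟩ := hu
      obtain ⟨c', rfl⟩ := hw
      exact ⟨c + c', by simp [TensorProduct.tmul_add, Finset.sum_add_distrib]⟩
  rw [hc]
  refine Ideal.sum_mem _ fun i _ => ?_
  suffices h : c i ∈ PolLaw.ker F.law by
    rw [show e i ⊗ₜ[A] c i = (e i ⊗ₜ[A] (1 : B)) * (1 ⊗ₜ[A] c i) by simp]
    exact Ideal.mul_mem_left _ _ (Ideal.mem_map_of_mem _ h)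
  refine mem_ker_of_tmul_mem F (A' := S) ?_
  let V := Matrix.vandermonde r
  have hσx : ∀ k, Algebra.TensorProduct.map (σ k) (AlgHom.id A B) x =
      ∑ j, V k j • ((1 : S) ⊗ₜ[A] c j) := fun k => by
    rw [hc, map_sum]
    refine Finset.sum_congr rfl fun j _ => ?_
    simp [V, σ, he, Matrix.vandermonde_apply, TensorProduct.smul_tmul']
  have hinv : (1 : S) ⊗ₜ[A] c i =
      ∑ k, V⁻¹ i k • Algebra.TensorProduct.map (σ k) (AlgHom.id A B) x := by
    simp only [hσx, Finset.smul_sum, smul_smul]
    rw [Finset.sum_comm]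
    simp only [← Finset.sum_smul, ← Matrix.mul_apply, Matrix.nonsing_inv_mul V hunit,
      Matrix.one_apply, ite_smul, one_smul, zero_smul, Finset.sum_ite_eq, Finset.mem_univ, if_true]
  rw [hinv]
  exact Submodule.sum_mem _ fun k _ =>
    Submodule.smul_of_tower_mem _ _ (map_mem_kerBC F (σ k) hx)

end ZCLib
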