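import Groth.Agent.ZCLib.Fibre
import Mathlib.RingTheory.LocalRing.ResidueField.Fiber
import Mathlib.RingTheory.Spectrum.Prime.Topology

/-! The image of a family of zero-cycles is open over the base, with finite fibres. -/

noncomputable section

open TensorProduct

namespace ZCLib

universe u

variable {A : Type u} [CommRing A] {B : Type u} [CommRing B] [Algebra A B] {d : ℕ}
  (F : PolLaw.MulLaw A B A d) (A' : Type u) [CommRing A'] [Algebra A A']

/-- The map to the image after base change. -/
def toImageBC : A' ⊗[A] B →ₐ[A] A' ⊗[A] PolLaw.image F.law :=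
  Algebra.TensorProduct.map (AlgHom.id A A') (Ideal.Quotient.mkₐ A (PolLaw.ker F.law))

lemma toImageBC_surjective : Function.Surjective (toImageBC F A') := fun y => by
  obtain ⟨x, rfl⟩ := LinearMap.lTensor_surjective A'
    (g := (Ideal.Quotient.mkₐ A (PolLaw.ker F.law)).toLinearMap) Ideal.Quotient.mk_surjective y
  refine ⟨x, ?_⟩
  induction x with
  | zero => simp
  | tmul q n => rfl
  | add a b ha hb => simp only [map_add, ha, hb]

lemma image_basicOpen (z : A' ⊗[A] B) :
    PrimeSpectrum.comap (algebraMap A' (A' ⊗[A] PolLaw.image F.law)) ''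
        (PrimeSpectrum.basicOpen (toImageBC F A' z) : Set _) =
      ⋃ k, (PrimeSpectrum.basicOpen ((chi F A' z - (-Polynomial.X) ^ d).coeff k) : Set _) := by
  classical
  have hneg : ∀ {R : Type u} [CommRing R] (ψ : A' →+* R),
      ((chi F A' z).map ψ = (-Polynomial.X) ^ d ↔
        ∀ k, ψ ((chi F A' z - (-Polynomial.X) ^ d).coeff k) = 0) := by
    intro R _ ψ
    rw [← sub_eq_zero, Polynomial.ext_iff]
    refine forall_congr' fun k => ?_
    rw [← Polynomial.coeff_map, Polynomial.map_sub, Polynomial.map_pow, Polynomial.map_neg,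
      Polynomial.map_X, Polynomial.coeff_zero]
  ext q
  simp only [Set.mem_image, Set.mem_iUnion, SetLike.mem_coe, PrimeSpectrum.mem_basicOpen]
  constructor
  · rintro ⟨Q, hQ, rfl⟩
    haveI := Q.isPrime
    obtain ⟨g, hg⟩ := exists_points F (AlgebraicClosure Q.asIdeal.ResidueField)
    let χ : A' ⊗[A] PolLaw.image F.law →ₐ[A] AlgebraicClosure Q.asIdeal.ResidueField :=
      (IsScalarTower.toAlgHom A Q.asIdeal.ResidueField _).comp
        (IsScalarTower.toAlgHom A (A' ⊗[A] PolLaw.image F.law) Q.asIdeal.ResidueField)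
    have hχ : ∀ x, χ x = 0 ↔ x ∈ Q.asIdeal := fun x => by
      show algebraMap Q.asIdeal.ResidueField (AlgebraicClosure Q.asIdeal.ResidueField)
        (algebraMap _ Q.asIdeal.ResidueField x) = 0 ↔ _
      rw [map_eq_zero, Ideal.algebraMap_residueField_eq_zero]
    obtain ⟨i, hi⟩ := hg.exists_eq
      (χ.comp (Algebra.TensorProduct.includeRight.comp (Ideal.Quotient.mkₐ A _))) fun b hb => by
        simp [Ideal.Quotient.eq_zero_iff_mem.2 hb]
    let ψ : A' →ₐ[A] AlgebraicClosure Q.asIdeal.ResidueField :=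
      χ.comp Algebra.TensorProduct.includeLeft
    have hv : Algebra.TensorProduct.lift ψ (g i) (fun _ _ => Commute.all _ _) z =
        χ (toImageBC F A' z) := by
      rw [← AlgHom.comp_apply]
      congr 1
      refine Algebra.TensorProduct.ext ?_ ?_
      · ext; simp [ψ, toImageBC]
      · rw [hi]; ext; simp [toImageBC]
    by_contra hall
    simp only [not_exists, not_not] at hall
    have h0 : (chi F A' z).map ψ.toRingHom = (-Polynomial.X) ^ d := by
      rw [hneg]
      intro k
      exact (hχ _).2 (hall k)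
    rw [hg.chi_map ψ z] at h0
    have h1 := congrArg (Polynomial.eval (χ (toImageBC F A' z))) h0
    rw [Polynomial.eval_prod, Finset.prod_eq_zero (Finset.mem_univ i)] at h1
    · rw [Polynomial.eval_pow, Polynomial.eval_neg, Polynomial.eval_X] at h1
      have hne : χ (toImageBC F A' z) ≠ 0 := fun h => hQ ((hχ _).1 h)
      exact pow_ne_zero d (neg_ne_zero.2 hne) h1.symm
    · rw [Polynomial.eval_sub, Polynomial.eval_C, Polynomial.eval_X, sub_eq_zero, ← hv]
      congr 1
  · rintro ⟨k, hk⟩
    haveI := q.isPrime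
    obtain ⟨g, hg⟩ := exists_points F (AlgebraicClosure q.asIdeal.ResidueField)
    let ψ : A' →ₐ[A] AlgebraicClosure q.asIdeal.ResidueField :=
      (IsScalarTower.toAlgHom A q.asIdeal.ResidueField _).comp
        (IsScalarTower.toAlgHom A A' q.asIdeal.ResidueField)
    have hψ : ∀ x, ψ x = 0 ↔ x ∈ q.asIdeal := fun x => by
      show algebraMap q.asIdeal.ResidueField (AlgebraicClosure q.asIdeal.ResidueField)
        (algebraMap _ q.asIdeal.ResidueField x) = 0 ↔ _
      rw [map_eq_zero, Ideal.algebraMap_residueField_eq_zero]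
    obtain ⟨i, hi⟩ : ∃ i, Algebra.TensorProduct.lift ψ (g i) (fun _ _ => Commute.all _ _) z ≠ 0 := by
      by_contra hall
      simp only [not_exists, not_not] at hall
      refine hk ((hψ _).1 ((hneg ψ.toRingHom).1 ?_ k))
      rw [hg.chi_map ψ z, Finset.prod_congr rfl fun i _ => show _ = -Polynomial.X from ?_,
        Finset.prod_const, Finset.card_univ, Fintype.card_fin]
      rw [show (IsScalarTower.toAlgHom A (AlgebraicClosure q.asIdeal.ResidueField)
        (AlgebraicClosure q.asIdeal.ResidueField)).comp (g i) = g i from AlgHom.ext fun _ => rfl]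
      simp [hall i]
    let gbar : PolLaw.image F.law →ₐ[A] AlgebraicClosure q.asIdeal.ResidueField :=
      Ideal.Quotient.liftₐ _ (g i) fun b hb => hg.kills_ker hb i
    let H : A' ⊗[A] PolLaw.image F.law →ₐ[A] AlgebraicClosure q.asIdeal.ResidueField :=
      Algebra.TensorProduct.lift ψ gbar fun _ _ => Commute.all _ _
    refine ⟨⟨RingHom.ker H.toRingHom, RingHom.ker_isPrime H.toRingHom⟩, ?_, ?_⟩
    · intro h
      apply hi
      rw [RingHom.mem_ker] at h
      rw [← h]
      show _ = H (toImageBC F A' z)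
      rw [← AlgHom.comp_apply]
      congr 1
      refine Algebra.TensorProduct.ext ?_ ?_
      · ext; simp [H, toImageBC]
      · ext; simp [H, toImageBC, gbar]
    · ext x
      rw [PrimeSpectrum.comap_asIdeal, Ideal.mem_comap, RingHom.mem_ker]
      show H (x ⊗ₜ[A] 1) = 0 ↔ _
      simp only [H, Algebra.TensorProduct.lift_tmul, map_one, mul_one]
      exact hψ x

lemma isOpenMap_comap :
    IsOpenMap (PrimeSpectrum.comap (algebraMap A' (A' ⊗[A] PolLaw.image F.law))) := by
  rw [PrimeSpectrum.isTopologicalBasis_basic_opens.isOpenMap_iff]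
  rintro _ ⟨y, rfl⟩
  obtain ⟨z, rfl⟩ := toImageBC_surjective F A' y
  rw [image_basicOpen]
  exact isOpen_iUnion fun k => PrimeSpectrum.isOpen_basicOpen

lemma fibre_finite (q : PrimeSpectrum A') :
    (PrimeSpectrum.comap (algebraMap A' (A' ⊗[A] PolLaw.image F.law)) ⁻¹' {q}).Finite ∧
      Nat.card (PrimeSpectrum.comap (algebraMap A' (A' ⊗[A] PolLaw.image F.law)) ⁻¹' {q}) ≤ d := by
  haveI := q.isPrime
  obtain ⟨hfin, hcard⟩ := finite_fibre F q.asIdeal.ResidueField
  let e := (PrimeSpectrum.preimageHomeomorphFiber A' (A' ⊗[A] PolLaw.image F.law) q).toEquiv.trans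
    (PrimeSpectrum.homeomorphOfRingEquiv (Algebra.TensorProduct.cancelBaseChange A A'
      q.asIdeal.ResidueField q.asIdeal.ResidueField (PolLaw.image F.law)).toRingEquiv).toEquiv
  exact ⟨Set.finite_coe_iff.1 (Finite.of_equiv _ e.symm), (Nat.card_congr e).trans_le hcard⟩

lemma generalizingMap_comap :
    GeneralizingMap (PrimeSpectrum.comap (algebraMap A' (A' ⊗[A] PolLaw.image F.law))) := by
  classical
  intro x y hy
  set f := PrimeSpectrum.comap (algebraMap A' (A' ⊗[A] PolLaw.image F.law))
  by_contra hne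
  have hno : ∀ p ∈ f ⁻¹' {y}, ∃ U : Set _, IsOpen U ∧ x ∈ U ∧ p ∉ U := by
    intro p hp
    by_contra h
    simp only [not_exists, not_and, not_not] at h
    exact hne ⟨p, specializes_iff_forall_open.2 h, hp⟩
  choose U hUo hUx hUp using hno
  have hfin := (fibre_finite F A' y).1
  let V : Set (PrimeSpectrum (A' ⊗[A] PolLaw.image F.law)) :=
    ⋂ p ∈ hfin.toFinset.attach, U p.1 (hfin.mem_toFinset.1 p.2)
  have hVo : IsOpen V := isOpen_biInter_finset fun p _ => hUo _ _
  have hxV : x ∈ V := Set.mem_iInter₂.2 fun p _ => hUx _ _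
  obtain ⟨p, hpV, hpy⟩ := hy.mem_open (isOpenMap_comap F A' _ hVo) ⟨x, hxV, rfl⟩
  exact hUp p hpy (Set.mem_iInter₂.1 hpV ⟨p, hfin.mem_toFinset.2 hpy⟩ (Finset.mem_attach _ _))

/-- The base change to the base itself. -/
def lidHomeo : PrimeSpectrum (A ⊗[A] PolLaw.image F.law) ≃ₜ PrimeSpectrum (PolLaw.image F.law) :=
  PrimeSpectrum.homeomorphOfRingEquiv (Algebra.TensorProduct.lid A (PolLaw.image F.law)).toRingEquiv

lemma comap_eq_comp : PrimeSpectrum.comap (algebraMap A (PolLaw.image F.law)) =
    PrimeSpectrum.comap (algebraMap A (A ⊗[A] PolLaw.image F.law)) ∘ (lidHomeo F).symm := by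
  funext q
  ext a
  show algebraMap A (PolLaw.image F.law) a ∈ q.asIdeal ↔
    (Algebra.TensorProduct.lid A (PolLaw.image F.law)) (a ⊗ₜ[A] 1) ∈ q.asIdeal
  rw [Algebra.TensorProduct.lid_tmul, Algebra.algebraMap_eq_smul_one]

lemma isOpenMap_comap_self : IsOpenMap (PrimeSpectrum.comap (algebraMap A (PolLaw.image F.law))) := by
  rw [comap_eq_comp]
  exact (isOpenMap_comap F A).comp (lidHomeo F).symm.isOpenMap

lemma generalizingMap_comap_self :
    GeneralizingMap (PrimeSpectrum.comap (algebraMap A (PolLaw.image F.law))) := by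
  intro x y hy
  rw [comap_eq_comp] at hy
  obtain ⟨p, hp, hpy⟩ := generalizingMap_comap F A hy
  refine ⟨lidHomeo F p, ?_, ?_⟩
  · have := hp.map (lidHomeo F).continuous
    rwa [Homeomorph.apply_symm_apply] at this
  · rw [comap_eq_comp]
    show _ = y
    rw [← hpy]
    simp

lemma fibre_finite_self (q : PrimeSpectrum A) :
    (PrimeSpectrum.comap (algebraMap A (PolLaw.image F.law)) ⁻¹' {q}).Finite ∧
      Nat.card (PrimeSpectrum.comap (algebraMap A (PolLaw.image F.law)) ⁻¹' {q}) ≤ d := by
  obtain ⟨hfin, hcard⟩ := fibre_finite F A q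
  rw [comap_eq_comp, Set.preimage_comp]
  set s := PrimeSpectrum.comap (algebraMap A (A ⊗[A] PolLaw.image F.law)) ⁻¹' {q}
  have e : ((lidHomeo F).symm ⁻¹' s) ≃ s := (lidHomeo F).symm.toEquiv.subtypeEquiv fun _ => Iff.rfl
  haveI := hfin.to_subtype
  exact ⟨Set.finite_coe_iff.1 (Finite.of_equiv _ e.symm), (Nat.card_congr e).trans_le hcard⟩

lemma isClosedMap_comap_self :
    IsClosedMap (PrimeSpectrum.comap (algebraMap A (PolLaw.image F.law))) :=
  haveI := isIntegral_image F
  PrimeSpectrum.isClosedMap_comap_of_isIntegral _ (algebraMap_isIntegral_iff.2 inferInstance)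

end ZCLib
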