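import Groth.Agent.ZCLib.TS
import Mathlib.RingTheory.Adjoin.Tower
import Mathlib.RingTheory.FiniteType
import Mathlib.RingTheory.IntegralClosure.IsIntegralClosure.Basic

/-! Symmetric tensors of polynomial rings are of finite type. -/

noncomputable section

open TensorProduct MvPolynomial PiTensorProduct

namespace ZCLib

universe u

/-- Polynomials in `d` families of `n` variables invariant under permutations of the families. -/
def multiInv (d n : ℕ) : Subalgebra ℤ (MvPolynomial (Fin d × Fin n) ℤ) :=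
  ⨅ σ : Equiv.Perm (Fin d), AlgHom.equalizer (MvPolynomial.rename (Prod.map σ id))
    (AlgHom.id ℤ (MvPolynomial (Fin d × Fin n) ℤ))

lemma mem_multiInv {d n : ℕ} {p : MvPolynomial (Fin d × Fin n) ℤ} :
    p ∈ multiInv d n ↔ ∀ σ : Equiv.Perm (Fin d), MvPolynomial.rename (Prod.map σ id) p = p := by
  simp [multiInv, Algebra.mem_iInf, AlgHom.mem_equalizer]

lemma multiInv_finiteType (d n : ℕ) : Algebra.FiniteType ℤ (multiInv d n) := by
  classical
  haveI : Algebra.IsIntegral (multiInv d n) (MvPolynomial (Fin d × Fin n) ℤ) := by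
    refine ⟨fun p => ?_⟩
    set P : Polynomial (MvPolynomial (Fin d × Fin n) ℤ) :=
      ∏ σ : Equiv.Perm (Fin d), (Polynomial.X - Polynomial.C (MvPolynomial.rename (Prod.map σ id) p))
      with hP
    have hmonic : P.Monic := Polynomial.monic_prod_of_monic _ _ fun _ _ => Polynomial.monic_X_sub_C _
    have hinv : ∀ τ : Equiv.Perm (Fin d),
        P.map (MvPolynomial.rename (R := ℤ) (Prod.map τ id)).toRingHom = P := by
      intro τ
      rw [hP, Polynomial.map_prod]
      refine Fintype.prod_equiv (Equiv.mulLeft τ) _ _ fun σ => ?_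
      simp [MvPolynomial.rename_rename, Prod.map_comp_map]
    have hlift : P ∈ Polynomial.lifts (algebraMap (multiInv d n) (MvPolynomial (Fin d × Fin n) ℤ)) := by
      refine (Polynomial.lifts_iff_coeff_lifts P).2 fun k => ⟨⟨P.coeff k, mem_multiInv.2 fun τ => ?_⟩, rfl⟩
      conv_rhs => rw [← hinv τ, Polynomial.coeff_map]
      rfl
    obtain ⟨q, hq, -, hqm⟩ := Polynomial.lifts_and_natDegree_eq_and_monic hlift hmonic
    refine ⟨q, hqm, ?_⟩
    rw [Polynomial.eval₂_eq_eval_map, hq, hP, Polynomial.eval_prod]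
    exact Finset.prod_eq_zero (Finset.mem_univ 1) (by simp)
  haveI : Algebra.FiniteType (multiInv d n) (MvPolynomial (Fin d × Fin n) ℤ) :=
    Algebra.FiniteType.of_restrictScalars_finiteType ℤ _ _
  haveI : Module.Finite (multiInv d n) (MvPolynomial (Fin d × Fin n) ℤ) := Algebra.IsIntegral.finite
  exact ⟨fg_of_fg_of_fg ℤ (multiInv d n) (MvPolynomial (Fin d × Fin n) ℤ)
    Algebra.FiniteType.out Module.Finite.fg_top Subtype.val_injective⟩

variable (A : Type u) [CommRing A] (d n : ℕ)

/-- Multisymmetric polynomials as tensors of the polynomial ring. -/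
def multiPhi : MvPolynomial (Fin d × Fin n) ℤ →+* ⨂[A] _ : Fin d, MvPolynomial (Fin n) A :=
  MvPolynomial.eval₂Hom (Int.castRingHom _) fun p =>
    PiTensorProduct.singleAlgHom (A := fun _ : Fin d => MvPolynomial (Fin n) A) p.1 (X p.2)

lemma multiPhi_monomial (e : Fin d → Fin n →₀ ℕ) :
    multiPhi A d n (monomial (Finsupp.equivFunOnFinite.symm fun p : Fin d × Fin n => e p.1 p.2) 1) =
      tprod A fun i => (monomial (e i) 1 : MvPolynomial (Fin n) A) := by
  classical
  rw [multiPhi, eval₂Hom_monomial, map_one, one_mul,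
    Finsupp.prod_fintype _ _ (fun _ => pow_zero _), Fintype.prod_prod_type]
  simp only [Finsupp.coe_equivFunOnFinite_symm, ← map_pow, ← map_prod]
  simp only [PiTensorProduct.singleAlgHom_apply, MonoidHom.mulSingle_apply]
  rw [← PiTensorProduct.tprod_prod]
  refine congrArg (tprod A) ?_
  rw [Finset.univ_prod_mulSingle]
  funext i
  rw [monomial_eq, map_one, one_mul, Finsupp.prod_fintype _ _ (fun _ => pow_zero _)]

lemma multiPhi_rename (σ : Equiv.Perm (Fin d)) (p : MvPolynomial (Fin d × Fin n) ℤ) :
    multiPhi A d n (MvPolynomial.rename (Prod.map σ id) p) =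
      SymTen.perm A (MvPolynomial (Fin n) A) d σ (multiPhi A d n p) := by
  suffices h : (multiPhi A d n).comp (MvPolynomial.rename (R := ℤ) (Prod.map σ id)).toRingHom =
      (SymTen.perm A (MvPolynomial (Fin n) A) d σ).toRingHom.comp (multiPhi A d n) from
    RingHom.congr_fun h p
  refine MvPolynomial.ringHom_ext' (RingHom.ext_int _ _) fun ⟨i, j⟩ => ?_
  simp only [RingHom.comp_apply, AlgHom.toRingHom_eq_coe, RingHom.coe_coe, rename_X, multiPhi,
    eval₂Hom_X', Prod.map_apply, id_eq, PiTensorProduct.singleAlgHom_apply,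
    MonoidHom.mulSingle_apply, SymTen.perm_tprod]
  refine congrArg (tprod A) (funext fun k => ?_)
  by_cases h : k = σ i
  · subst h; simp
  · rw [Pi.mulSingle_eq_of_ne h, Pi.mulSingle_eq_of_ne]
    exact fun h' => h (by rw [← h', Equiv.apply_symm_apply])

lemma multiPhi_mem {p : MvPolynomial (Fin d × Fin n) ℤ} (hp : p ∈ multiInv d n) :
    multiPhi A d n p ∈ SymTen.TS A (MvPolynomial (Fin n) A) d := fun σ => by
  rw [← SymTen.perm_apply, ← multiPhi_rename, mem_multiInv.1 hp σ]

/-- Multisymmetric polynomials as symmetric tensors. -/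
def multiPhiTS : multiInv d n →+* SymTen.TS A (MvPolynomial (Fin n) A) d :=
  ((multiPhi A d n).comp (multiInv d n).val.toRingHom).codRestrict _ fun p =>
    multiPhi_mem A d n p.2

/-- The monomial basis, indexed in the universe of the base ring. -/
def monBasis : Module.Basis (ULift.{u} (Fin n →₀ ℕ)) A (MvPolynomial (Fin n) A) :=
  (basisMonomials (Fin n) A).reindex Equiv.ulift.symm

lemma monBasis_apply (e : ULift.{u} (Fin n →₀ ℕ)) :
    monBasis A n e = monomial e.down 1 := by
  simp [monBasis]

lemma exists_orbitOf [DecidableEq (ULift.{u} (Fin n →₀ ℕ))] (f : Fin d → ULift.{u} (Fin n →₀ ℕ)) :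
    ∃ p ∈ multiInv d n, multiPhi A d n p = orbitOf (monBasis A n) f := by
  classical
  set f' : Fin d → {x // x ∈ Finset.univ.image f} :=
    fun i => ⟨f i, Finset.mem_image_of_mem f (Finset.mem_univ i)⟩
  refine ⟨∑ c : Fin d → {x // x ∈ Finset.univ.image f}, if cnt c = cnt f' then
    monomial (Finsupp.equivFunOnFinite.symm fun p : Fin d × Fin n => (c p.1).1.down p.2) 1 else 0,
    mem_multiInv.2 fun σ => ?_, ?_⟩
  · rw [map_sum]
    refine Fintype.sum_equiv (σ.arrowCongr (Equiv.refl _)) _ _ fun c => ?_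
    have hc : cnt (σ.arrowCongr (Equiv.refl _) c) = cnt c := cnt_comp c σ.symm
    rw [hc]
    split_ifs
    · rw [rename_monomial]
      congr 2
      ext ⟨i, j⟩
      rw [show (i, j) = Prod.map σ id (σ.symm i, j) by simp,
        Finsupp.mapDomain_apply (σ.injective.prodMap Function.injective_id)]
      simp
    · simp
  · simp only [map_sum, apply_ite (multiPhi A d n), map_zero, orbitOf, orbs,
      Finsupp.coe_finsetSum, Finset.sum_apply, Finsupp.single_apply, monBasis_apply]
    refine Finset.sum_congr rfl fun c _ => ?_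
    split_ifs
    · exact multiPhi_monomial A d n fun i => (c i).1.down
    · rfl

lemma retr_mem_range_orbitOf {M ι : Type u} [AddCommGroup M] [Module A M] [DecidableEq ι]
    (e : Module.Basis ι A M) (x : ⨂[A] _ : Fin d, M) :
    (retr d e x : ⨂[A] _ : Fin d, M) ∈ Submodule.span A (Set.range (orbitOf (d := d) e)) := by
  classical
  rw [← (Basis.piTensorProduct fun _ : Fin d => e).linearCombination_repr x,
    Finsupp.linearCombination_apply, map_finsuppSum, Finsupp.sum, Submodule.coe_sum]
  refine Submodule.sum_mem _ fun f _ => ?_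
  rw [map_smul, Submodule.coe_smul, retr, Module.Basis.constr_basis]
  refine Submodule.smul_mem _ _ ?_
  split_ifs
  · exact Submodule.subset_span ⟨f, by congr⟩
  · exact Submodule.zero_mem _

lemma span_multiPhiTS :
    Submodule.span A (Set.range (multiPhiTS A d n)) = ⊤ := by
  classical
  refine top_le_iff.1 fun t _ => ?_
  have ht : (t : ⨂[A] _ : Fin d, MvPolynomial (Fin n) A) ∈
      symSub A d (MvPolynomial (Fin n) A) := by rw [← TS_toSubmodule]; exact t.2
  have h1 := retr_mem_range_orbitOf A d (monBasis A n)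
    (t : ⨂[A] _ : Fin d, MvPolynomial (Fin n) A)
  rw [congrArg Subtype.val (retr_val (monBasis A n) ⟨_, ht⟩)] at h1
  have hle : Submodule.span A (Set.range (orbitOf (d := d) (monBasis A n))) ≤
      (Submodule.span A (Set.range (multiPhiTS A d n))).map
        (SymTen.TS A (MvPolynomial (Fin n) A) d).val.toLinearMap := by
    refine Submodule.span_le.2 ?_
    rintro _ ⟨f, rfl⟩
    obtain ⟨p, hp, hp'⟩ := exists_orbitOf A d n f
    exact ⟨multiPhiTS A d n ⟨p, hp⟩, Submodule.subset_span ⟨_, rfl⟩, hp'⟩
  obtain ⟨y, hy, hyt⟩ := hle h1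
  rwa [Subtype.ext (show (y : ⨂[A] _ : Fin d, MvPolynomial (Fin n) A) = t from hyt)] at hy

lemma finiteType_TS : Algebra.FiniteType A (SymTen.TS A (MvPolynomial (Fin n) A) d) := by
  haveI := multiInv_finiteType d n
  obtain ⟨s, hs⟩ := (Algebra.FiniteType.out : (⊤ : Subalgebra ℤ (multiInv d n)).FG)
  classical
  refine ⟨⟨s.image (multiPhiTS A d n), top_le_iff.1 fun t _ => ?_⟩⟩
  have ht : t ∈ Submodule.span A (Set.range (multiPhiTS A d n)) := by
    rw [span_multiPhiTS]; trivial
  rw [← Subalgebra.mem_toSubmodule]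
  refine Submodule.span_le.2 ?_ ht
  rintro _ ⟨p, rfl⟩
  have hp : p ∈ Algebra.adjoin ℤ (s : Set (multiInv d n)) := by rw [hs]; trivial
  rw [SetLike.mem_coe, Subalgebra.mem_toSubmodule]
  induction hp using Algebra.adjoin_induction with
  | mem x hx => exact Algebra.subset_adjoin (Finset.mem_image_of_mem _ hx)
  | algebraMap r => rw [eq_intCast (algebraMap ℤ (multiInv d n)) r, map_intCast]; exact intCast_mem _ r
  | add x y _ _ hx hy => rw [map_add]; exact add_mem hx hy
  | mul x y _ _ hx hy => rw [map_mul]; exact mul_mem hx hy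

/-- The divided power algebra of an algebra of finite type is of finite type. -/
lemma finiteType_gamma {A : Type u} [CommRing A] {B C : Type u} [CommRing B] [Algebra A B]
    [CommRing C] [Algebra A C] {d : ℕ} (γ : PolLaw.MulLaw A B C d) (hγ : PolLaw.IsGammaD γ)
    [Algebra.FiniteType A B] : Algebra.FiniteType A C := by
  obtain ⟨n, π, hπ⟩ := Algebra.FiniteType.iff_quotient_mvPolynomial''.1 ‹Algebra.FiniteType A B›
  obtain ⟨φ, hφ, -⟩ := isGammaD_tau_of_flat (A := A) (B := MvPolynomial (Fin n) A) (d := d) C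
    (γ.precomp π)
  haveI := finiteType_TS A d n
  refine Algebra.FiniteType.of_surjective φ fun c => ?_
  have hc : c ∈ Submodule.span A (coeffSet γ.law ⊤) := by
    rw [span_coeffSet_eq_top hγ]; trivial
  suffices h : c ∈ LinearMap.range φ.toLinearMap from h
  refine (Submodule.span_le (p := LinearMap.range φ.toLinearMap)).2 ?_ hc
  rintro _ ⟨κ, _, v, α, -, rfl⟩
  choose v' hv' using fun j => hπ (v j)
  refine ⟨coeffs (tau A (MvPolynomial (Fin n) A) d).law v' α, ?_⟩
  rw [← coeffs_postcomp, hφ]
  show coeffs (PolLaw.precomp γ.law π.toLinearMap) v' α = _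
  rw [coeffs_precomp, show π.toLinearMap ∘ v' = v from funext hv']

end ZCLib
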