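import Groth.Agent.ZCLib.Ker

/-! Descent of multiplicative laws along surjections. -/

noncomputable section

open TensorProduct

namespace ZCLib

universe u

variable {A : Type u} [CommRing A] {P B C : Type u} [CommRing P] [Algebra A P] [CommRing B]
  [Algebra A B] [CommRing C] [Algebra A C] {d : ℕ}

lemma toFun'_eq_of_lTensor_eq (G : PolLaw.MulLaw A P C d) (π : P →ₐ[A] B)
    (hπ : Function.Surjective π) (h : RingHom.ker π ≤ PolLaw.ker G.law) {S : Type u}
    [CommSemiring S] [Algebra A S] {x y : S ⊗[A] P}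
    (hxy : π.toLinearMap.lTensor S x = π.toLinearMap.lTensor S y) :
    G.law.toFun' S x = G.law.toFun' S y := by
  letI : CommRing S := (algebraMap A S).commSemiringToCommRing
  have hz : y - x ∈ LinearMap.range ((LinearMap.ker π.toLinearMap).subtype.lTensor S) := by
    rw [← LinearMap.exact_iff.1 (lTensor_exact S (LinearMap.exact_subtype_ker_map π.toLinearMap) hπ),
      LinearMap.mem_ker, map_sub, hxy, sub_self]
  obtain ⟨z, hz⟩ := hz
  have key : ∀ (z : S ⊗[A] LinearMap.ker π.toLinearMap) (a : S ⊗[A] P),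
      G.law.toFun' S (a + (LinearMap.ker π.toLinearMap).subtype.lTensor S z) = G.law.toFun' S a := by
    intro z
    induction z with
    | zero => simp
    | add z z' hz hz' => intro a; rw [map_add, ← add_assoc, hz', hz]
    | tmul s p =>
      intro a
      have hp : (p : P) ∈ PolLaw.ker G.law := h (RingHom.mem_ker.2 (LinearMap.mem_ker.1 p.2))
      rw [LinearMap.lTensor_tmul, Submodule.subtype_apply,
        show s ⊗ₜ[A] (p : P) = (s ⊗ₜ[A] (1 : P)) * ((1 : S) ⊗ₜ[A] (p : P)) by simp]
      exact hp S a _
  rw [← key z x, hz, add_sub_cancel]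

/-- A law on a quotient from a law killing the kernel. -/
lemma exists_descend (G : PolLaw.MulLaw A P C d) (π : P →ₐ[A] B)
    (hπ : Function.Surjective π) (h : RingHom.ker π ≤ PolLaw.ker G.law) :
    ∃ G' : PolLaw.MulLaw A B C d, (G'.precomp π).law = G.law := by
  have hS : ∀ (S : Type u) [CommSemiring S] [Algebra A S],
      Function.Surjective (π.toLinearMap.lTensor S) := fun S _ _ =>
    LinearMap.lTensor_surjective S hπ
  let L : B →ₚₗ[A] C :=
    { toFun' := fun S _ _ y => G.law.toFun' S (Function.surjInv (hS S) y)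
      isCompat' := fun {S} _ _ {S'} _ _ φ => by
        funext y
        simp only [Function.comp_apply]
        refine (congrFun (G.law.isCompat' φ) (Function.surjInv (hS S) y)).trans ?_
        refine toFun'_eq_of_lTensor_eq G π hπ h ?_
        rw [Function.surjInv_eq (hS S'), ← LinearMap.comp_apply, LinearMap.lTensor_comp_rTensor,
          ← LinearMap.rTensor_comp_lTensor, LinearMap.comp_apply, Function.surjInv_eq (hS S)] }
  have hL : ∀ (S : Type u) [CommSemiring S] [Algebra A S] (x : S ⊗[A] P),
      L.toFun' S (π.toLinearMap.lTensor S x) = G.law.toFun' S x := fun S _ _ x =>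
    toFun'_eq_of_lTensor_eq G π hπ h (Function.surjInv_eq (hS S) _)
  refine ⟨⟨L, fun S _ _ s y => ?_, fun S _ _ => ⟨?_, fun a b => ?_⟩⟩, ?_⟩
  · obtain ⟨x, rfl⟩ := hS S y
    rw [show s • π.toLinearMap.lTensor S x = π.toLinearMap.lTensor S (s • x) by
      rw [PolLaw.lTensor_algHom_apply, PolLaw.lTensor_algHom_apply, map_smul], hL, hL, G.homog]
  · rw [show (1 : S ⊗[A] B) = π.toLinearMap.lTensor S 1 by
      rw [PolLaw.lTensor_algHom_apply, map_one], hL, (G.mult S).1]
  · obtain ⟨a, rfl⟩ := hS S a
    obtain ⟨b, rfl⟩ := hS S b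
    rw [show π.toLinearMap.lTensor S a * π.toLinearMap.lTensor S b = π.toLinearMap.lTensor S (a * b) by
      rw [PolLaw.lTensor_algHom_apply, PolLaw.lTensor_algHom_apply, PolLaw.lTensor_algHom_apply,
        map_mul], hL, hL, hL, (G.mult S).2]
  · refine PolynomialLaw.ext ?_
    funext S _ _ x
    exact hL S x

end ZCLib
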