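import Groth.Agent.ZCLib.FinPres
import Groth.Agent.ZCLib.Descend

/-! Divided powers of finitely presented algebras are finitely presented. -/

noncomputable section

open TensorProduct MvPolynomial PiTensorProduct

namespace ZCLib

universe u

variable {A : Type u} [CommRing A] {d n : ℕ}

lemma perm_singleAlgHom {P : Type u} [CommRing P] [Algebra A P] (σ : Equiv.Perm (Fin d)) (i : Fin d)
    (p : P) : SymTen.perm A P d σ (PiTensorProduct.singleAlgHom (A := fun _ : Fin d => P) i p) =
      PiTensorProduct.singleAlgHom (A := fun _ : Fin d => P) (σ i) p := by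
  simp only [PiTensorProduct.singleAlgHom_apply, MonoidHom.mulSingle_apply, SymTen.perm_tprod]
  refine congrArg (tprod A) (funext fun k => ?_)
  by_cases h : k = σ i
  · subst h; simp
  · rw [Pi.mulSingle_eq_of_ne h, Pi.mulSingle_eq_of_ne]
    exact fun h' => h (by rw [← h', Equiv.apply_symm_apply])

variable (A d n) in
/-- Evaluation in one slot. -/
def slot₀ (i : Fin d) : SymTen.TS A (MvPolynomial (Fin n) A) d ⊗[A] MvPolynomial (Fin n) A →ₐ[A]
    ⨂[A] _ : Fin d, MvPolynomial (Fin n) A :=
  Algebra.TensorProduct.lift (SymTen.TS A (MvPolynomial (Fin n) A) d).val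
    (PiTensorProduct.singleAlgHom (A := fun _ : Fin d => MvPolynomial (Fin n) A) i)
    fun _ _ => Commute.all _ _

lemma exists_slot_relation (j : Fin n) [Nontrivial (⨂[A] _ : Fin d, MvPolynomial (Fin n) A)] :
    ∃ Q : Polynomial (SymTen.TS A (MvPolynomial (Fin n) A) d), Q.Monic ∧ Q.natDegree = d ∧
      ∀ i, slot₀ A d n i (Polynomial.aeval
        ((1 : SymTen.TS A (MvPolynomial (Fin n) A) d) ⊗ₜ[A] (X j : MvPolynomial (Fin n) A)) Q) = 0 := by
  classical
  let P : Polynomial (⨂[A] _ : Fin d, MvPolynomial (Fin n) A) := ∏ k : Fin d,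
    (Polynomial.X - Polynomial.C
      (PiTensorProduct.singleAlgHom (A := fun _ : Fin d => MvPolynomial (Fin n) A) k (X j)))
  have hP : P.Monic := Polynomial.monic_prod_of_monic _ _ fun _ _ => Polynomial.monic_X_sub_C _
  have hinv : ∀ σ, P.map (SymTen.perm A (MvPolynomial (Fin n) A) d σ).toRingHom = P := by
    intro σ
    rw [Polynomial.map_prod]
    refine Fintype.prod_equiv σ _ _ fun k => ?_
    rw [Polynomial.map_sub, Polynomial.map_X, Polynomial.map_C, AlgHom.toRingHom_eq_coe,
      RingHom.coe_coe, perm_singleAlgHom]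
  have hlift : P ∈ Polynomial.lifts (SymTen.TS A (MvPolynomial (Fin n) A) d).val.toRingHom := by
    refine (Polynomial.lifts_iff_coeff_lifts P).2 fun k => ⟨⟨P.coeff k, fun σ => ?_⟩, rfl⟩
    conv_rhs => rw [← hinv σ, Polynomial.coeff_map]
    exact (SymTen.perm_apply _ _ _ σ _).symm
  obtain ⟨Q, hQ, hdeg, hQm⟩ := Polynomial.lifts_and_natDegree_eq_and_monic hlift hP
  refine ⟨Q, hQm, ?_, fun i => ?_⟩
  · rw [hdeg, Polynomial.natDegree_prod_of_monic _ _ fun _ _ => Polynomial.monic_X_sub_C _]
    simp
  · rw [Polynomial.aeval_def, ← AlgHom.coe_toRingHom, Polynomial.hom_eval₂]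
    have hc : (slot₀ A d n i : SymTen.TS A (MvPolynomial (Fin n) A) d ⊗[A] MvPolynomial (Fin n) A →+*
        ⨂[A] _ : Fin d, MvPolynomial (Fin n) A).comp (algebraMap (SymTen.TS A (MvPolynomial (Fin n) A) d) _) =
      (SymTen.TS A (MvPolynomial (Fin n) A) d).val.toRingHom := RingHom.ext fun t => by
        simp only [RingHom.comp_apply, RingHom.coe_coe, slot₀, Algebra.TensorProduct.algebraMap_apply,
          Algebra.algebraMap_self, RingHom.id_apply, Algebra.TensorProduct.lift_tmul, map_one, mul_one]
        rfl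
    rw [hc]
    rw [Polynomial.eval₂_eq_eval_map, hQ, Polynomial.eval_prod]
    exact Finset.prod_eq_zero (Finset.mem_univ i) (by simp [slot₀])

section Abstract

variable {P T U : Type u} [CommRing P] [Algebra A P] [CommRing T] [Algebra A T] [CommRing U]
  [Algebra A U] (val : T →ₐ[A] U) (si : Fin d → P →ₐ[A] U)

/-- Evaluation in one slot. -/
def slotHom (i : Fin d) : T ⊗[A] P →ₐ[A] U :=
  Algebra.TensorProduct.lift val (si i) fun _ _ => Commute.all _ _

/-- The tensors killed in every slot. -/
def slotIdeal : Ideal (T ⊗[A] P) :=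
  ⨅ i, RingHom.ker (slotHom val si i)

lemma mem_slotIdeal {x : T ⊗[A] P} : x ∈ slotIdeal val si ↔ ∀ i, slotHom val si i x = 0 := by
  simp [slotIdeal, Submodule.mem_iInf, RingHom.mem_ker]

variable {ι : Type u} (b : ι → P)

/-- The tensors congruent in every slot to combinations of a family. -/
def slotSpan : Submodule T (T ⊗[A] P) :=
  Submodule.span T (Set.range fun e => (1 : T) ⊗ₜ[A] b e) ⊔ (slotIdeal val si).restrictScalars T

/-- A finite criterion for kernel membership. -/
lemma mem_ker_postcomp [Fintype ι] (τ : PolLaw.MulLaw A P T d)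
    (hτ : ∀ (R : Type u) [CommRing R] [Algebra A R] (y : R ⊗[A] P),
      Algebra.TensorProduct.map (AlgHom.id A R) val (τ.law.toFun' R y) =
        ∏ i, Algebra.TensorProduct.map (AlgHom.id A R) (si i) y)
    (hval : ∀ (R : Type u) [CommRing R] [Algebra A R],
      Function.Injective (Algebra.TensorProduct.map (AlgHom.id A R) val))
    (hspan : ∀ p : P, (1 : T) ⊗ₜ[A] p ∈ slotSpan val si b)
    {T' : Type u} [CommRing T'] [Algebra A T'] (mk : T →ₐ[A] T') (f : P)
    (hnone : coeffs τ.law (fun o : Option ι => Option.elim o 1 fun e => b e * f)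
      (Finsupp.single none d) = 1)
    (hmk : ∀ α, α ≠ Finsupp.single none d →
      mk (coeffs τ.law (fun o : Option ι => Option.elim o 1 fun e => b e * f) α) = 0) :
    f ∈ PolLaw.ker (τ.postcomp mk).law := by
  classical
  rw [mem_ker_iff]
  intro S _ _ w
  let j : S →ₐ[A] S ⊗[A] T := Algebra.TensorProduct.includeLeft
  let slot : Fin d → (S ⊗[A] T) ⊗[A] P →ₐ[A] S ⊗[A] U := fun i =>
    Algebra.TensorProduct.lift (Algebra.TensorProduct.map (AlgHom.id A S) val)
      (Algebra.TensorProduct.includeRight.comp (si i)) fun _ _ => Commute.all _ _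
  have hN : ∀ y, Algebra.TensorProduct.map (AlgHom.id A S) val
      (absorb A S T (τ.law.toFun' (S ⊗[A] T) y)) = ∏ i, slot i y := by
    intro y
    let μ : (S ⊗[A] T) ⊗[A] U →ₐ[A] S ⊗[A] U :=
      Algebra.TensorProduct.lift (Algebra.TensorProduct.map (AlgHom.id A S) val)
        Algebra.TensorProduct.includeRight fun _ _ => Commute.all _ _
    have h1 : (Algebra.TensorProduct.map (AlgHom.id A S) val).comp (absorb A S T) =
        μ.comp (Algebra.TensorProduct.map (AlgHom.id A (S ⊗[A] T)) val) := by
      ext <;> simp [μ, absorb]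
    rw [← AlgHom.comp_apply, h1, AlgHom.comp_apply, hτ, map_prod]
    refine Finset.prod_congr rfl fun i _ => ?_
    rw [← AlgHom.comp_apply]
    congr 1
    ext <;> simp [μ, slot]
  have hcτ : ∀ x : S ⊗[A] P, τ.law.toFun' S x =
      absorb A S T (τ.law.toFun' (S ⊗[A] T) (Algebra.TensorProduct.map j (AlgHom.id A P) x)) := by
    intro x
    rw [map_rTensor, ← AlgHom.comp_apply,
      show (absorb A S T).comp (Algebra.TensorProduct.map j (AlgHom.id A T)) = AlgHom.id A _ by
        ext <;> simp [absorb, j]]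
    rfl
  let γ : T ⊗[A] P →ₐ[A] (S ⊗[A] T) ⊗[A] P :=
    Algebra.TensorProduct.map Algebra.TensorProduct.includeRight (AlgHom.id A P)
  let M : Submodule (S ⊗[A] T) ((S ⊗[A] T) ⊗[A] P) :=
    Submodule.span (S ⊗[A] T) (Set.range fun e => (1 : S ⊗[A] T) ⊗ₜ[A] b e)
  let J : Ideal ((S ⊗[A] T) ⊗[A] P) := ⨅ i, RingHom.ker (slot i)
  have hγs : ∀ (t : T) (a : T ⊗[A] P), γ (t • a) = ((1 : S) ⊗ₜ[A] t) • γ a := by
    intro t a
    induction a with
    | zero => simp
    | tmul t' p => simp [γ, TensorProduct.smul_tmul']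
    | add a b ha hb => simp only [smul_add, map_add, ha, hb]
  have hγ : ∀ x ∈ slotSpan val si b, γ x ∈ M ⊔ J.restrictScalars (S ⊗[A] T) := by
    intro x hx
    obtain ⟨a, ha, c, hc, rfl⟩ := Submodule.mem_sup.1 hx
    clear hx
    rw [map_add]
    refine Submodule.add_mem_sup ?_ ?_
    · induction ha using Submodule.span_induction with
      | mem a ha =>
        obtain ⟨e, rfl⟩ := ha
        exact Submodule.subset_span ⟨e, by simp [γ, ← Algebra.TensorProduct.one_def]⟩
      | zero => simp
      | add a b _ _ ha hb => rw [map_add]; exact add_mem ha hb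
      | smul t a _ ha => rw [hγs]; exact Submodule.smul_mem _ _ ha
    · rw [Submodule.restrictScalars_mem, mem_slotIdeal] at hc
      simp only [J, Submodule.restrictScalars_mem, Submodule.mem_iInf, RingHom.mem_ker]
      intro i
      have : (slot i).comp γ = (Algebra.TensorProduct.includeRight).comp (slotHom val si i) := by
        ext <;> simp [slot, γ, slotHom]
      rw [← AlgHom.comp_apply, this, AlgHom.comp_apply, hc i, map_zero]
  have htop : ∀ y : (S ⊗[A] T) ⊗[A] P, y ∈ M ⊔ J.restrictScalars (S ⊗[A] T) := by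
    intro y
    induction y with
    | zero => exact zero_mem _
    | add a b ha hb => exact add_mem ha hb
    | tmul r p =>
      rw [show r ⊗ₜ[A] p = r • γ ((1 : T) ⊗ₜ[A] p) by
        simp [γ, TensorProduct.smul_tmul', ← Algebra.TensorProduct.one_def]]
      exact Submodule.smul_mem _ _ (hγ _ (hspan p))
  obtain ⟨a, ha, c, hc, hab⟩ :=
    Submodule.mem_sup.1 (htop (Algebra.TensorProduct.map j (AlgHom.id A P) w))
  obtain ⟨co, hco⟩ := (Submodule.mem_span_range_iff_exists_fun (S ⊗[A] T)).1 ha
  let v : Option ι → P := fun o => Option.elim o 1 fun e => b e * f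
  let s : Option ι → S ⊗[A] T := fun o => Option.elim o 1 co
  have hy : ∀ i, slot i (Algebra.TensorProduct.map j (AlgHom.id A P) (1 + w * (1 ⊗ₜ f))) =
      slot i (∑ o, s o ⊗ₜ[A] v o) := by
    intro i
    have hsum : ∑ o, s o ⊗ₜ[A] v o = 1 + a * (1 ⊗ₜ f) := by
      rw [Fintype.sum_option, ← hco, Finset.sum_mul]
      simp only [s, v, Option.elim, TensorProduct.smul_tmul', Algebra.TensorProduct.tmul_mul_tmul,
        smul_eq_mul, mul_one, ← Algebra.TensorProduct.one_def]
    have hci : slot i c = 0 := by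
      simp only [J, Submodule.restrictScalars_mem, Submodule.mem_iInf, RingHom.mem_ker] at hc
      exact hc i
    rw [hsum, map_add (Algebra.TensorProduct.map j (AlgHom.id A P)),
      map_one (Algebra.TensorProduct.map j (AlgHom.id A P)),
      map_mul (Algebra.TensorProduct.map j (AlgHom.id A P)), ← hab,
      Algebra.TensorProduct.map_tmul, map_one j, AlgHom.id_apply,
      map_add, map_one, map_mul, map_add, hci, add_zero, map_add, map_one, map_mul]
  have hNN : τ.law.toFun' S (1 + w * (1 ⊗ₜ f)) =
      absorb A S T (τ.law.toFun' (S ⊗[A] T) (∑ o, s o ⊗ₜ[A] v o)) := by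
    rw [hcτ]
    apply hval S
    rw [hN, hN]
    exact Finset.prod_congr rfl fun i _ => hy i
  show mk.toLinearMap.lTensor S (τ.law.toFun' S (1 + w * (1 ⊗ₜ f))) = 1
  rw [hNN, toFun'_sum, ← Finsupp.sum_single (coeffs τ.law v), map_finsuppSum,
    map_finsuppSum, map_finsuppSum, Finsupp.sum, Finset.sum_eq_single (Finsupp.single none d)]
  · rw [hnone, evalAt_single, PolLaw.lTensor_algHom_apply]
    simp [absorb, s, ← Algebra.TensorProduct.one_def]
  · intro α _ hα
    rw [evalAt_single, PolLaw.lTensor_algHom_apply]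
    simp [absorb, v, hmk α hα]
  · intro h0
    rw [Finsupp.notMem_support_iff.1 h0]
    simp

end Abstract

lemma monomial_mem_slotSpan {T U : Type u} [CommRing T] [Algebra A T] [CommRing U] [Algebra A U]
    (val : T →ₐ[A] U) (si : Fin d → MvPolynomial (Fin n) A →ₐ[A] U)
    (hQ : ∀ j : Fin n, ∃ Q : Polynomial T, Q.Monic ∧ Q.natDegree = d ∧
      ∀ i, slotHom val si i
        (Polynomial.aeval ((1 : T) ⊗ₜ[A] (X j : MvPolynomial (Fin n) A)) Q) = 0)
    (e : Fin n →₀ ℕ) :
    ((1 : T) ⊗ₜ[A] (monomial e 1 : MvPolynomial (Fin n) A)) ∈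
      slotSpan val si (fun c : ULift.{u} (Fin n → Fin d) =>
        (monomial (Finsupp.equivFunOnFinite.symm fun j => (c.down j : ℕ)) 1 :
          MvPolynomial (Fin n) A)) := by
  classical
  induction hN : e.degree using Nat.strong_induction_on generalizing e with
  | _ N ih =>
  by_cases hb : ∀ j, e j < d
  · refine Submodule.mem_sup_left (Submodule.subset_span ⟨⟨fun j => ⟨e j, hb j⟩⟩, ?_⟩)
    simp only
    congr 2
    ext j
    simp
  push Not at hb
  obtain ⟨j, hj⟩ := hb
  obtain ⟨Q, hQm, hQd, hQ0⟩ := hQ j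
  obtain ⟨e', rfl⟩ : ∃ e', e = e' + Finsupp.single j d :=
    ⟨e - Finsupp.single j d, (tsub_add_cancel_of_le (Finsupp.single_le_iff.2 hj)).symm⟩
  have hmem : Polynomial.aeval ((1 : T) ⊗ₜ[A] (X j : MvPolynomial (Fin n) A)) Q *
      (1 ⊗ₜ monomial e' 1) ∈ slotSpan val si (fun c : ULift.{u} (Fin n → Fin d) =>
        (monomial (Finsupp.equivFunOnFinite.symm fun j => (c.down j : ℕ)) 1 :
          MvPolynomial (Fin n) A)) := by
    refine Submodule.mem_sup_right ?_
    rw [Submodule.restrictScalars_mem, mem_slotIdeal]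
    intro i
    rw [map_mul, hQ0, zero_mul]
  have hcd : Q.coeff d = 1 := by simpa [hQd] using hQm.coeff_natDegree
  rw [Polynomial.aeval_eq_sum_range, hQd, Finset.sum_range_succ, hcd, one_smul, add_mul,
    Finset.sum_mul] at hmem
  have hpow : ∀ k : ℕ, ((1 : T) ⊗ₜ[A] (X j : MvPolynomial (Fin n) A)) ^ k * (1 ⊗ₜ monomial e' 1) =
      1 ⊗ₜ monomial (e' + Finsupp.single j k) 1 := fun k => by
    rw [Algebra.TensorProduct.tmul_pow, one_pow, Algebra.TensorProduct.tmul_mul_tmul, one_mul,
      X_pow_eq_monomial, monomial_mul, mul_one, add_comm]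
  simp only [smul_mul_assoc, hpow] at hmem
  refine (Submodule.add_mem_iff_right _ ?_).1 hmem
  refine Submodule.sum_mem _ fun k hk => Submodule.smul_mem _ _ (ih _ ?_ _ rfl)
  rw [← hN, map_add, map_add, Finsupp.degree_single, Finsupp.degree_single]
  have := Finset.mem_range.1 hk
  omega

/-- The polynomial ring is spanned by bounded monomials modulo the slot relations. -/
lemma tmul_mem_slotSpan (p : MvPolynomial (Fin n) A) :
    ((1 : SymTen.TS A (MvPolynomial (Fin n) A) d) ⊗ₜ[A] p) ∈
      slotSpan (SymTen.TS A (MvPolynomial (Fin n) A) d).val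
        (fun i => PiTensorProduct.singleAlgHom (A := fun _ : Fin d => MvPolynomial (Fin n) A) i)
        (fun c : ULift.{u} (Fin n → Fin d) =>
          (monomial (Finsupp.equivFunOnFinite.symm fun j => (c.down j : ℕ)) 1 :
            MvPolynomial (Fin n) A)) := by
  classical
  rcases subsingleton_or_nontrivial (⨂[A] _ : Fin d, MvPolynomial (Fin n) A) with h | h
  · refine Submodule.mem_sup_right ?_
    rw [Submodule.restrictScalars_mem, mem_slotIdeal]
    exact fun i => Subsingleton.elim _ _
  have hm := fun e => monomial_mem_slotSpan (A := A) (d := d) (n := n)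
    (SymTen.TS A (MvPolynomial (Fin n) A) d).val
    (fun i => PiTensorProduct.singleAlgHom (A := fun _ : Fin d => MvPolynomial (Fin n) A) i)
    (fun j => exists_slot_relation j) e
  induction p using MvPolynomial.induction_on' with
  | add p q hp hq => rw [TensorProduct.tmul_add]; exact add_mem hp hq
  | monomial e a =>
    rw [show (monomial e a : MvPolynomial (Fin n) A) = a • monomial e 1 by
      rw [MvPolynomial.smul_monomial, smul_eq_mul, mul_one], TensorProduct.tmul_smul]
    exact Submodule.smul_of_tower_mem _ a (hm e)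

/-- A quotient criterion for finite presentation of divided powers. -/
lemma finitePresentation_of_criterion {P T B C : Type u} [CommRing P] [Algebra A P] [CommRing T]
    [Algebra A T] [CommRing B] [Algebra A B] [CommRing C] [Algebra A C]
    (τ : PolLaw.MulLaw A P T d) (hτs : Submodule.span A (coeffSet τ.law ⊤) = ⊤)
    [Algebra.FinitePresentation A T] (π : P →ₐ[A] B) (hπ : Function.Surjective π) (F : Finset P)
    (hF : Ideal.span (F : Set P) = RingHom.ker π) (γ : PolLaw.MulLaw A B C d)
    (hγ : PolLaw.IsGammaD γ) (φ : T →ₐ[A] C)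
    (hφ : PolLaw.postcomp φ.toLinearMap τ.law = (γ.precomp π).law)
    {ι : Type u} [Fintype ι] (b : ι → P)
    (hcrit : ∀ (T' : Type u) [CommRing T'] [Algebra A T'] (mk : T →ₐ[A] T') (f : P),
      (∀ α, α ≠ Finsupp.single none d →
        mk (coeffs τ.law (fun o : Option ι => Option.elim o 1 fun e => b e * f) α) = 0) →
      f ∈ PolLaw.ker (τ.postcomp mk).law) :
    Algebra.FinitePresentation A C := by
  classical
  have hsurj : Function.Surjective φ := fun c => by
    have hc : c ∈ Submodule.span A (coeffSet γ.law ⊤) := by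
      rw [span_coeffSet_eq_top hγ]; trivial
    suffices h : c ∈ LinearMap.range φ.toLinearMap from h
    refine (Submodule.span_le (p := LinearMap.range φ.toLinearMap)).2 ?_ hc
    rintro _ ⟨κ, _, v, α, -, rfl⟩
    choose v' hv' using fun j => hπ (v j)
    refine ⟨coeffs τ.law v' α, ?_⟩
    rw [← coeffs_postcomp, hφ]
    show coeffs (PolLaw.precomp γ.law π.toLinearMap) v' α = _
    rw [coeffs_precomp, show π.toLinearMap ∘ v' = v from funext hv']
  let v : P → Option ι → P := fun f o => Option.elim o 1 fun e => b e * f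
  let s : Set T := ⋃ f ∈ F, (coeffs τ.law (v f)) ''
    {α | α ∈ (coeffs τ.law (v f)).support ∧ α ≠ Finsupp.single none d}
  have hs : s.Finite := Set.Finite.biUnion F.finite_toSet fun f _ =>
    Set.Finite.image _ ((Finset.finite_toSet _).subset fun α hα => hα.1)
  have hK : RingHom.ker φ = Ideal.span s := by
    refine le_antisymm ?_ (Ideal.span_le.2 ?_)
    · have hle : RingHom.ker π ≤
          PolLaw.ker (τ.postcomp (Ideal.Quotient.mkₐ A (Ideal.span s))).law := by
        rw [← hF, Ideal.span_le]
        intro f hf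
        refine hcrit _ _ f fun α hα => ?_
        by_cases h0 : coeffs τ.law (v f) α = 0
        · rw [show coeffs τ.law (fun o : Option ι => Option.elim o 1 fun e => b e * f) α = 0 from h0,
            map_zero]
        · refine Ideal.Quotient.eq_zero_iff_mem.2 (Ideal.subset_span ?_)
          exact Set.mem_biUnion hf ⟨α, ⟨Finsupp.mem_support_iff.2 h0, hα⟩, rfl⟩
      obtain ⟨G', hG'⟩ := exists_descend _ π hπ hle
      obtain ⟨ψ, hψ, -⟩ := hγ _ G'
      have hcomp : ψ.comp φ = Ideal.Quotient.mkₐ A (Ideal.span s) := by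
        refine algHom_ext_of_span (F := τ.law) hτs ?_
        rw [AlgHom.comp_toLinearMap, ← postcomp_postcomp, hφ]
        refine Eq.trans ?_ hG'
        show PolLaw.postcomp ψ.toLinearMap (PolLaw.precomp γ.law π.toLinearMap) =
          PolLaw.precomp G'.law π.toLinearMap
        rw [← hψ]
        rfl
      intro t ht
      rw [← Ideal.Quotient.eq_zero_iff_mem]
      have := AlgHom.congr_fun hcomp t
      rw [AlgHom.comp_apply, RingHom.mem_ker.1 ht, map_zero] at this
      exact this.symm
    · intro t ht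
      simp only [s, Set.mem_iUnion] at ht
      obtain ⟨f, hf, α, ⟨-, hα⟩, rfl⟩ := ht
      rw [SetLike.mem_coe, RingHom.mem_ker, ← AlgHom.toLinearMap_apply, ← coeffs_postcomp, hφ]
      show coeffs (PolLaw.precomp γ.law π.toLinearMap) (v f) α = 0
      rw [coeffs_precomp]
      have hfπ : π f = 0 := RingHom.mem_ker.1 (hF ▸ Submodule.subset_span hf : f ∈ RingHom.ker π)
      have hgen : gen (A := A) (π.toLinearMap ∘ v f) = X none ⊗ₜ[A] (1 : B) := by
        rw [gen, Fintype.sum_option]
        simp [v, hfπ]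
      rw [coeffs, hgen, law_algebraMap, polEquiv_tmul, X_pow_eq_monomial, coeff_monomial,
        if_neg (Ne.symm hα), zero_smul]
  refine Algebra.FinitePresentation.of_surjective hsurj ?_
  show (RingHom.ker φ).FG
  rw [hK]
  exact Submodule.fg_span hs

/-- The divided power algebra of a finitely presented algebra is finitely presented. -/
lemma finitePresentation_gamma {B C : Type u} [CommRing B] [Algebra A B]
    [CommRing C] [Algebra A C] (γ : PolLaw.MulLaw A B C d) (hγ : PolLaw.IsGammaD γ)
    [Algebra.FinitePresentation A B] : Algebra.FinitePresentation A C := by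
  classical
  obtain ⟨n, π, hπ, F, hF⟩ := Algebra.FinitePresentation.out (R := A) (A := B)
  obtain ⟨φ, hφ, -⟩ := isGammaD_tau_of_flat (A := A) (B := MvPolynomial (Fin n) A) (d := d) C
    (γ.precomp π)
  haveI := finitePresentation_TS A d n
  refine finitePresentation_of_criterion (tau A (MvPolynomial (Fin n) A) d)
    (span_coeffSet_tau symSub_le_span_of_flat) π hπ F hF γ hγ φ hφ
    (fun c : ULift.{u} (Fin n → Fin d) =>
      (monomial (Finsupp.equivFunOnFinite.symm fun j => (c.down j : ℕ)) 1 :
        MvPolynomial (Fin n) A)) fun T' _ _ mk f hmk => ?_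
  refine mem_ker_postcomp (SymTen.TS A (MvPolynomial (Fin n) A) d).val
    (fun i => PiTensorProduct.singleAlgHom (A := fun _ : Fin d => MvPolynomial (Fin n) A) i) _
    (tau A (MvPolynomial (Fin n) A) d) (fun R _ _ y => val_tau y)
    (fun R _ _ => map_val_injective (monBasis A n) R) tmul_mem_slotSpan mk f ?_ hmk
  have h := coeffs_comp_injective (tau A (MvPolynomial (Fin n) A) d).law
    (fun o : Option (ULift.{u} (Fin n → Fin d)) => Option.elim o 1 fun c =>
      (monomial (Finsupp.equivFunOnFinite.symm fun j => (c.down j : ℕ)) 1 :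
        MvPolynomial (Fin n) A) * f)
    (j := fun _ : PUnit.{u + 1} => (none : Option (ULift.{u} (Fin n → Fin d))))
    (fun _ _ _ => rfl) (Finsupp.single PUnit.unit d)
  rw [Finsupp.mapDomain_single] at h
  rw [← h]
  exact coeffs_single_one _

end ZCLib
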