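import Groth.Agent.ZCLib.Free
import Mathlib.LinearAlgebra.Finsupp.VectorSpace
import Mathlib.RingTheory.Flat.EquationalCriterion
import Mathlib.Algebra.Module.FinitePresentation

/-! Symmetric tensors of flat modules. -/

noncomputable section

open TensorProduct MvPolynomial PiTensorProduct

namespace ZCLib

universe u

variable {A : Type u} [CommRing A] {M N P : Type u} [AddCommGroup M] [Module A M]
  [AddCommGroup N] [Module A N] [AddCommGroup P] [Module A P] {d : ℕ}

lemma map_map {Q : Type u} [AddCommGroup Q] [Module A Q] (g : P →ₗ[A] Q) (f : M →ₗ[A] P)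
    (t : ⨂[A] _ : Fin d, M) :
    PiTensorProduct.map (fun _ : Fin d => g) (PiTensorProduct.map (fun _ : Fin d => f) t) =
      PiTensorProduct.map (fun _ : Fin d => g ∘ₗ f) t := by
  rw [PiTensorProduct.map_comp (fun _ : Fin d => g) (fun _ : Fin d => f), LinearMap.comp_apply]

lemma map_reindex_comm (g : M →ₗ[A] P) (σ : Equiv.Perm (Fin d)) (t : ⨂[A] _ : Fin d, M) :
    PiTensorProduct.map (fun _ : Fin d => g) (PiTensorProduct.reindex A (fun _ : Fin d => M) σ t) =
      PiTensorProduct.reindex A (fun _ : Fin d => P) σ (PiTensorProduct.map (fun _ : Fin d => g) t) := by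
  induction t using PiTensorProduct.induction_on with
  | smul_tprod r m => simp [PiTensorProduct.map_tprod, PiTensorProduct.reindex_tprod]
  | add a b ha hb => simp only [map_add, ha, hb]

lemma map_mem_symSub (g : M →ₗ[A] P) {t : ⨂[A] _ : Fin d, M} (ht : t ∈ symSub A d M) :
    PiTensorProduct.map (fun _ : Fin d => g) t ∈ symSub A d P :=
  mem_symSub.2 fun σ => by rw [← map_reindex_comm, mem_symSub.1 ht σ]

/-- The kernel of the tensor power of a surjection. -/
lemma ker_map_le (g : M →ₗ[A] P) (hg : Function.Surjective g) :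
    LinearMap.ker (PiTensorProduct.map fun _ : Fin d => g) ≤
      Submodule.span A {t | ∃ (p : Fin d → M) (i : Fin d), g (p i) = 0 ∧ t = tprod A p} := by
  classical
  set W := Submodule.span A
    {t : ⨂[A] _ : Fin d, M | ∃ (p : Fin d → M) (i : Fin d), g (p i) = 0 ∧ t = tprod A p} with hW
  have hcongr : ∀ p q : Fin d → M, (∀ i, g (p i) = g (q i)) →
      W.mkQ (tprod A p) = W.mkQ (tprod A q) := by
    intro p q hpq
    have h : ∀ s : Finset (Fin d),
        W.mkQ (tprod A p) = W.mkQ (tprod A fun i => if i ∈ s then q i else p i) := by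
      intro s
      induction s using Finset.induction_on with
      | empty => simp
      | insert a s ha ih =>
        set r : Fin d → M := fun i => if i ∈ s then q i else p i with hr
        have hnew : (fun i => if i ∈ insert a s then q i else p i) = Function.update r a (q a) := by
          funext i
          rcases eq_or_ne i a with rfl | hi
          · simp
          · rw [Function.update_of_ne hi]; simp [r, hi]
        rw [hnew, ih]
        have hold : r = Function.update r a (p a) := by
          funext i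
          rcases eq_or_ne i a with rfl | hi
          · simp [r, ha]
          · rw [Function.update_of_ne hi]
        conv_lhs => rw [hold]
        rw [← sub_eq_zero, ← map_sub, ← MultilinearMap.map_update_sub, Submodule.mkQ_apply,
          Submodule.Quotient.mk_eq_zero]
        exact Submodule.subset_span ⟨_, a, by simp [hpq a], rfl⟩
    simpa using h Finset.univ
  let sec : P → M := Function.surjInv hg
  have hsec : ∀ x, g (sec x) = x := Function.surjInv_eq hg
  let inv : MultilinearMap A (fun _ : Fin d => P) ((⨂[A] _ : Fin d, M) ⧸ W) :=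
    { toFun := fun m => W.mkQ (tprod A fun i => sec (m i))
      map_update_add' := by
        intro _ m i x y
        have e : ∀ z, (fun j => sec (Function.update m i z j)) =
            Function.update (fun j => sec (m j)) i (sec z) := fun z =>
          funext fun j => Function.apply_update (fun _ => sec) m i z j
        rw [e, e, e, ← map_add, ← MultilinearMap.map_update_add]
        refine hcongr _ _ fun j => ?_
        rcases eq_or_ne j i with rfl | hj
        · simp [hsec]
        · rw [Function.update_of_ne hj, Function.update_of_ne hj]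
      map_update_smul' := by
        intro _ m i c x
        have e : ∀ z, (fun j => sec (Function.update m i z j)) =
            Function.update (fun j => sec (m j)) i (sec z) := fun z =>
          funext fun j => Function.apply_update (fun _ => sec) m i z j
        rw [e, e, ← map_smul, ← MultilinearMap.map_update_smul]
        refine hcongr _ _ fun j => ?_
        rcases eq_or_ne j i with rfl | hj
        · simp [hsec]
        · rw [Function.update_of_ne hj, Function.update_of_ne hj] }
  have hinv : PiTensorProduct.lift inv ∘ₗ PiTensorProduct.map (fun _ : Fin d => g) = W.mkQ := by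
    refine PiTensorProduct.ext (MultilinearMap.ext fun p => ?_)
    simp only [LinearMap.compMultilinearMap_apply, LinearMap.comp_apply, PiTensorProduct.map_tprod,
      PiTensorProduct.lift.tprod]
    exact hcongr _ _ fun i => hsec _
  intro z hz
  have h := LinearMap.congr_fun hinv z
  rwa [LinearMap.comp_apply, LinearMap.mem_ker.1 hz, map_zero, eq_comm, Submodule.mkQ_apply,
    Submodule.Quotient.mk_eq_zero] at h

/-- Finitely many elements of the kernel are killed by whatever kills finitely many vectors. -/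
lemma exists_witness (g : M →ₗ[A] P) (hg : Function.Surjective g) {L : Type*} [Finite L]
    (z : L → ⨂[A] _ : Fin d, M) (hz : ∀ l, PiTensorProduct.map (fun _ : Fin d => g) (z l) = 0) :
    ∃ V : Finset M, (∀ v ∈ V, g v = 0) ∧ ∀ (Q : Type u) [AddCommGroup Q] [Module A Q]
      (h : M →ₗ[A] Q), (∀ v ∈ V, h v = 0) →
        ∀ l, PiTensorProduct.map (fun _ : Fin d => h) (z l) = 0 := by
  classical
  cases nonempty_fintype L
  choose T hT hzT using fun l => Submodule.mem_span_finite_of_mem_span (ker_map_le g hg (hz l))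
  choose p i hgi hp using fun (l : L) (t : {t // t ∈ T l}) => hT l t.2
  refine ⟨Finset.univ.biUnion fun l => Finset.univ.image fun t => p l t (i l t),
    fun v hv => ?_, fun Q _ _ h hh l => ?_⟩
  · simp only [Finset.mem_biUnion, Finset.mem_image, Finset.mem_univ, true_and] at hv
    obtain ⟨l, t, rfl⟩ := hv
    exact hgi l t
  · refine (Submodule.span_le (p := LinearMap.ker (PiTensorProduct.map fun _ : Fin d => h))).2 ?_
      (hzT l)
    intro t ht
    rw [SetLike.mem_coe, LinearMap.mem_ker, show t = tprod A (p l ⟨t, ht⟩) from hp l ⟨t, ht⟩,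
      PiTensorProduct.map_tprod]
    refine (tprod A).map_coord_zero (i l ⟨t, ht⟩) (hh _ ?_)
    simp only [Finset.mem_biUnion, Finset.mem_image, Finset.mem_univ, true_and]
    exact ⟨l, ⟨t, ht⟩, rfl⟩

variable {X : Type u}

/-- Restriction to a finite set of coordinates. -/
def cut [DecidableEq X] (K : Finset X) : (X →₀ A) →ₗ[A] (X →₀ A) :=
  (Finsupp.lmapDomain A A (Subtype.val : {x // x ∈ K} → X)) ∘ₗ
    Finsupp.lcomapDomain (Subtype.val : {x // x ∈ K} → X) Subtype.val_injective

lemma cut_eq [DecidableEq X] {K : Finset X} {p : X →₀ A} (hp : p.support ⊆ K) : cut K p = p := by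
  show (p.comapDomain Subtype.val Subtype.val_injective.injOn).mapDomain Subtype.val = p
  exact Finsupp.mapDomain_comapDomain _ Subtype.val_injective _ fun x hx => ⟨⟨x, hp hx⟩, rfl⟩

lemma exists_cut [DecidableEq X] (t : ⨂[A] _ : Fin d, X →₀ A) :
    ∃ K₀ : Finset X, ∀ K, K₀ ⊆ K → PiTensorProduct.map (fun _ : Fin d => cut (A := A) K) t = t := by
  induction t using PiTensorProduct.induction_on with
  | smul_tprod r p =>
    refine ⟨Finset.univ.biUnion fun i => (p i).support, fun K hK => ?_⟩
    rw [map_smul, PiTensorProduct.map_tprod]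
    congr 2
    funext i
    exact cut_eq fun x hx => hK (Finset.mem_biUnion.2 ⟨i, Finset.mem_univ i, hx⟩)
  | add a b ha hb =>
    obtain ⟨K₁, h₁⟩ := ha
    obtain ⟨K₂, h₂⟩ := hb
    exact ⟨K₁ ∪ K₂, fun K hK => by
      rw [map_add, h₁ K (Finset.subset_union_left.trans hK),
        h₂ K (Finset.subset_union_right.trans hK)]⟩

/-- Factorization of the tensor data of a flat module through a finite free module. -/
lemma exists_factor [Module.Flat A M] (g : (X →₀ A) →ₗ[A] M) (hg : Function.Surjective g)
    {L : Type*} [Finite L] (z : L → ⨂[A] _ : Fin d, X →₀ A)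
    (hz : ∀ l, PiTensorProduct.map (fun _ : Fin d => g) (z l) = 0) {L' : Type*} [Finite L']
    (t : L' → ⨂[A] _ : Fin d, X →₀ A) :
    ∃ (κ : Type u) (π : (X →₀ A) →ₗ[A] (X →₀ A)) (h : (X →₀ A) →ₗ[A] (κ →₀ A))
      (g' : (κ →₀ A) →ₗ[A] M), g ∘ₗ π = g' ∘ₗ h ∧
      (∀ l, PiTensorProduct.map (fun _ : Fin d => π) (t l) = t l) ∧
      ∀ l, PiTensorProduct.map (fun _ : Fin d => h) (z l) = 0 := by
  classical
  cases nonempty_fintype L'
  obtain ⟨V, hV, hVh⟩ := exists_witness g hg z hz
  choose K₁ hK₁ using fun l => exists_cut (t l)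
  set K₀ : Finset X := Finset.univ.biUnion K₁ with hK₀def
  set K : Finset X := K₀ ∪ V.biUnion fun v => v.support with hK
  let i : ({x // x ∈ K} →₀ A) →ₗ[A] (X →₀ A) := Finsupp.lmapDomain A A Subtype.val
  let π₀ : (X →₀ A) →ₗ[A] ({x // x ∈ K} →₀ A) :=
    Finsupp.lcomapDomain Subtype.val Subtype.val_injective
  let W : Submodule A ({x // x ∈ K} →₀ A) := Submodule.span A ↑(V.image π₀)
  have hW : W ≤ LinearMap.ker (g ∘ₗ i) := by
    refine Submodule.span_le.2 fun w hw => ?_
    obtain ⟨v, hv, rfl⟩ := Finset.mem_image.1 hw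
    rw [SetLike.mem_coe, LinearMap.mem_ker, LinearMap.comp_apply,
      show i (π₀ v) = cut (A := A) K v from rfl, cut_eq, hV v hv]
    exact fun x hx => Finset.mem_union_right _ (Finset.mem_biUnion.2 ⟨v, hv, hx⟩)
  haveI : Module.FinitePresentation A (({x // x ∈ K} →₀ A) ⧸ W) :=
    Module.finitePresentation_of_surjective _ W.mkQ_surjective
      (by rw [Submodule.ker_mkQ]; exact Submodule.fg_span (Finset.finite_toSet _))
  obtain ⟨k, h₂, h₃, hh⟩ :=
    Module.Flat.exists_factorization_of_finitePresentation (W.liftQ (g ∘ₗ i) hW)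
  let eq : (Fin k →₀ A) ≃ₗ[A] (ULift.{u} (Fin k) →₀ A) := Finsupp.domLCongr Equiv.ulift.symm
  refine ⟨ULift.{u} (Fin k), cut K, eq.toLinearMap ∘ₗ h₂ ∘ₗ W.mkQ ∘ₗ π₀, h₃ ∘ₗ eq.symm.toLinearMap,
    ?_, fun l => hK₁ l K ((Finset.subset_biUnion_of_mem K₁ (Finset.mem_univ l)).trans
      Finset.subset_union_left), fun l => ?_⟩
  · ext x
    simp only [LinearMap.comp_apply, LinearEquiv.coe_coe, LinearEquiv.symm_apply_apply]
    rw [← LinearMap.comp_apply h₃ h₂, ← hh, Submodule.mkQ_apply, Submodule.liftQ_apply]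
    rfl
  · refine hVh _ _ (fun v hv => ?_) l
    simp only [LinearMap.comp_apply, Submodule.mkQ_apply]
    rw [(Submodule.Quotient.mk_eq_zero W).2 (Submodule.subset_span (Finset.mem_image_of_mem π₀ hv)),
      map_zero, map_zero]

/-- The tautological presentation of a module. -/
def pres (A : Type u) [CommRing A] (M : Type u) [AddCommGroup M] [Module A M] :
    (M →₀ A) →ₗ[A] M :=
  Finsupp.linearCombination A id

lemma pres_single (m : M) : pres A M (Finsupp.single m 1) = m := by simp [pres]

lemma pres_surjective : Function.Surjective (pres A M) := fun m => ⟨_, pres_single m⟩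

/-- A symmetric tensor of a flat module lifts to a symmetric tensor of a free module. -/
lemma exists_sym_lift [Module.Flat A M] {y : ⨂[A] _ : Fin d, M} (hy : y ∈ symSub A d M) :
    ∃ (κ : Type u) (g' : (κ →₀ A) →ₗ[A] M) (y' : ⨂[A] _ : Fin d, κ →₀ A),
      y' ∈ symSub A d (κ →₀ A) ∧ PiTensorProduct.map (fun _ : Fin d => g') y' = y := by
  obtain ⟨t, ht⟩ : ∃ t, PiTensorProduct.map (fun _ : Fin d => pres A M) t = y := by
    clear hy
    induction y using PiTensorProduct.induction_on with
    | smul_tprod r m =>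
      exact ⟨r • tprod A fun i => Finsupp.single (m i) 1, by
        simp [PiTensorProduct.map_tprod, pres_single]⟩
    | add a b ha hb =>
      obtain ⟨ta, ha⟩ := ha
      obtain ⟨tb, hb⟩ := hb
      exact ⟨ta + tb, by rw [map_add, ha, hb]⟩
  obtain ⟨κ, π, h, g', hg', hπ, hh⟩ := exists_factor (pres A M) pres_surjective
    (fun σ : Equiv.Perm (Fin d) => PiTensorProduct.reindex A _ σ t - t)
    (fun σ => by rw [map_sub, map_reindex_comm, ht, mem_symSub.1 hy σ, sub_self]) (fun _ : Unit => t)
  refine ⟨κ, g', PiTensorProduct.map (fun _ : Fin d => h) t, mem_symSub.2 fun σ => ?_, ?_⟩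
  · have := hh σ
    rwa [map_sub, map_reindex_comm, sub_eq_zero] at this
  · rw [map_map, ← hg', ← map_map, hπ (), ht]

lemma symSub_le_span_of_flat [Module.Flat A M] :
    symSub A d M ≤ Submodule.span A (orbSet A d M) := by
  intro y hy
  obtain ⟨κ, g', y', hy', rfl⟩ := exists_sym_lift hy
  have := Submodule.mem_map_of_mem (f := PiTensorProduct.map fun _ : Fin d => g')
    (symSub_le_span Finsupp.basisSingleOne hy')
  rw [Submodule.map_span] at this
  refine Submodule.span_le.2 ?_ this
  rintro _ ⟨_, ⟨κ', _, v, α, rfl⟩, rfl⟩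
  rw [map_orbs]
  exact Submodule.subset_span (orbs_mem_orbSet _ _)

variable {F : M →ₚₗ[A] N}

lemma psi_natural (hF : PolLaw.IsHomog F d) {κ : Type u} (π : (X →₀ A) →ₗ[A] (X →₀ A))
    (g : (X →₀ A) →ₗ[A] M) (h : (X →₀ A) →ₗ[A] (κ →₀ A)) (g' : (κ →₀ A) →ₗ[A] M)
    (hg : g ∘ₗ π = g' ∘ₗ h) {t : ⨂[A] _ : Fin d, X →₀ A} (ht : t ∈ symSub A d (X →₀ A)) :
    psi d Finsupp.basisSingleOne F g (PiTensorProduct.map (fun _ : Fin d => π) t) =
      psi d Finsupp.basisSingleOne F g' (PiTensorProduct.map (fun _ : Fin d => h) t) := by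
  have h' := symSub_le_span Finsupp.basisSingleOne ht
  induction h' using Submodule.span_induction with
  | zero => simp only [map_zero]
  | add a b ha' hb' ha hb =>
    simp only [map_add, ha (span_orbSet_le ha'), hb (span_orbSet_le hb')]
  | smul r a ha' ha => simp only [map_smul, ha (span_orbSet_le ha')]
  | mem a ha =>
    obtain ⟨κ', _, v, α, rfl⟩ := ha
    rw [map_orbs, map_orbs, psi_orbs hF, psi_orbs hF,
      show g ∘ π ∘ v = g' ∘ h ∘ v from funext fun j => LinearMap.congr_fun hg (v j)]

lemma exists_comp_eq {R S Q : Type u} [AddCommMonoid R] [Module A R] [AddCommMonoid S] [Module A S]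
    [AddCommMonoid Q] [Module A Q] (p : R →ₗ[A] S)
    (hp : Function.Surjective p) (ψ : R →ₗ[A] Q) (hψ : ∀ a b, p a = p b → ψ a = ψ b) :
    ∃ f : S →ₗ[A] Q, f ∘ₗ p = ψ := by
  have h : ∀ a, ψ (Function.surjInv hp (p a)) = ψ a := fun a =>
    hψ _ _ (Function.surjInv_eq hp _)
  refine ⟨
    { toFun := fun y => ψ (Function.surjInv hp y)
      map_add' := fun x y => ?_
      map_smul' := fun c x => ?_ }, LinearMap.ext h⟩
  · obtain ⟨a, rfl⟩ := hp x
    obtain ⟨b, rfl⟩ := hp y
    rw [← map_add, h, h, h, map_add]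
  · obtain ⟨a, rfl⟩ := hp x
    rw [← map_smul, h, h, map_smul, RingHom.id_apply]

/-- Homogeneous laws on a flat module are linear on symmetric tensors. -/
lemma exists_linear_of_flat [Module.Flat A M] (hF : PolLaw.IsHomog F d) :
    ∃ f : symSub A d M →ₗ[A] N, ∀ (κ : Type u) [Fintype κ] (v : κ → M) α,
      f ⟨orbs A d v α, orbs_mem v α⟩ = coeffs F v α := by
  let p : symSub A d (M →₀ A) →ₗ[A] symSub A d M :=
    (PiTensorProduct.map fun _ : Fin d => pres A M).restrict fun t ht => map_mem_symSub _ ht
  let ψ : symSub A d (M →₀ A) →ₗ[A] N :=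
    psi d Finsupp.basisSingleOne F (pres A M) ∘ₗ (symSub A d (M →₀ A)).subtype
  have horb : ∀ (κ : Type u) [Fintype κ] (v : κ → M) α,
      p ⟨orbs A d (fun k => Finsupp.single (v k) (1 : A)) α, orbs_mem _ α⟩ =
        ⟨orbs A d v α, orbs_mem v α⟩ := fun κ _ v α => Subtype.ext <| by
    show PiTensorProduct.map (fun _ : Fin d => pres A M)
      (orbs A d (fun k => Finsupp.single (v k) (1 : A)) α) = orbs A d v α
    rw [map_orbs, show pres A M ∘ (fun k => Finsupp.single (v k) (1 : A)) = v from
      funext fun k => pres_single (v k)]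
  have hp : Function.Surjective p := by
    intro y
    have hy := symSub_le_span_of_flat y.2
    suffices h : y ∈ LinearMap.range p from h
    have hle : Submodule.span A (orbSet A d M) ≤
        (LinearMap.range p).map (symSub A d M).subtype := by
      refine Submodule.span_le.2 fun x ⟨κ, _, v, α, hx⟩ => ?_
      exact ⟨_, ⟨_, horb κ v α⟩, hx.symm⟩
    obtain ⟨y', hy', he⟩ := hle hy
    rwa [show y' = y from Subtype.ext he] at hy'
  have hψ : ∀ a b, p a = p b → ψ a = ψ b := by
    intro a b hab
    set z : ⨂[A] _ : Fin d, M →₀ A :=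
      (a : ⨂[A] _ : Fin d, M →₀ A) - (b : ⨂[A] _ : Fin d, M →₀ A) with hzdef
    have hz : z ∈ symSub A d (M →₀ A) := mem_symSub.2 fun σ => by
      rw [hzdef, map_sub, mem_symSub.1 a.2 σ, mem_symSub.1 b.2 σ]
    have hab' : PiTensorProduct.map (fun _ : Fin d => pres A M) (a : ⨂[A] _ : Fin d, M →₀ A) =
        PiTensorProduct.map (fun _ : Fin d => pres A M) (b : ⨂[A] _ : Fin d, M →₀ A) :=
      congrArg Subtype.val hab
    obtain ⟨κ, π, h, g', hg', hπ, hh⟩ := exists_factor (pres A M) pres_surjective
      (fun _ : Unit => z) (fun _ => by rw [hzdef, map_sub, hab', sub_self]) (fun _ : Unit => z)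
    show psi d Finsupp.basisSingleOne F (pres A M) (a : ⨂[A] _ : Fin d, M →₀ A) =
      psi d Finsupp.basisSingleOne F (pres A M) (b : ⨂[A] _ : Fin d, M →₀ A)
    rw [← sub_eq_zero, ← map_sub, ← hzdef, ← hπ (), psi_natural hF π _ h g' hg' hz, hh (), map_zero]
  obtain ⟨f, hf⟩ := exists_comp_eq p hp ψ hψ
  refine ⟨f, fun κ _ v α => ?_⟩
  rw [← horb, ← LinearMap.comp_apply, hf]
  show psi d Finsupp.basisSingleOne F (pres A M)
    (orbs A d (fun k => Finsupp.single (v k) (1 : A)) α) = _
  rw [psi_orbs hF, show pres A M ∘ (fun k => Finsupp.single (v k) (1 : A)) = v from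
    funext fun k => pres_single (v k)]

/-- Relations between symmetric tensors of a flat module are trivial among symmetric tensors. -/
lemma symSub_trivial_relation [Module.Flat A M] {l : ℕ} {a : Fin l → A}
    {y : Fin l → ⨂[A] _ : Fin d, M} (hy : ∀ i, y i ∈ symSub A d M) (h : ∑ i, a i • y i = 0) :
    ∃ (k : ℕ) (r : Fin l → Fin k → A) (z : Fin k → ⨂[A] _ : Fin d, M),
      (∀ j, z j ∈ symSub A d M) ∧ (∀ i, y i = ∑ j, r i j • z j) ∧ ∀ j, ∑ i, a i * r i j = 0 := by
  classical
  have hlift : ∀ x : ⨂[A] _ : Fin d, M,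
      ∃ t, PiTensorProduct.map (fun _ : Fin d => pres A M) t = x := by
    intro x
    induction x using PiTensorProduct.induction_on with
    | smul_tprod r m =>
      exact ⟨r • tprod A fun i => Finsupp.single (m i) 1, by
        simp [PiTensorProduct.map_tprod, pres_single]⟩
    | add b c hb hc =>
      obtain ⟨tb, hb⟩ := hb
      obtain ⟨tc, hc⟩ := hc
      exact ⟨tb + tc, by rw [map_add, hb, hc]⟩
  choose t ht using fun i => hlift (y i)
  obtain ⟨κ, π, f, g', hg', hπ, hf⟩ := exists_factor (pres A M) pres_surjective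
    (Sum.elim (fun p : Equiv.Perm (Fin d) × Fin l => PiTensorProduct.reindex A _ p.1 (t p.2) - t p.2)
      fun _ : Unit => ∑ i, a i • t i)
    (by
      rintro (⟨σ, i⟩ | _)
      · simp only [Sum.elim_inl]
        rw [map_sub, map_reindex_comm, ht, mem_symSub.1 (hy i) σ, sub_self]
      · simp only [Sum.elim_inr, map_sum, map_smul, ht, h]) t
  let y' := fun i => PiTensorProduct.map (fun _ : Fin d => f) (t i)
  have hy' : ∀ i, y' i ∈ symSub A d (κ →₀ A) := fun i => mem_symSub.2 fun σ => by
    have h1 := hf (Sum.inl (σ, i))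
    rwa [Sum.elim_inl, map_sub, map_reindex_comm, sub_eq_zero] at h1
  have hsum : ∑ i, a i • y' i = 0 := by
    have h1 := hf (Sum.inr ())
    rw [Sum.elim_inr, map_sum] at h1
    simpa only [map_smul] using h1
  let bT := Basis.piTensorProduct fun _ : Fin d =>
    (Finsupp.basisSingleOne : Module.Basis κ A (κ →₀ A))
  have hsum' : ∑ i, a i • bT.repr (y' i) = 0 := by
    simp only [← map_smul, ← map_sum, hsum, map_zero]
  obtain ⟨k, r, w, hw, hr⟩ := Module.Flat.isTrivialRelation_of_sum_smul_eq_zero hsum'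
  obtain ⟨z, hz⟩ : ∃ z : Fin k → ⨂[A] _ : Fin d, κ →₀ A, ∀ i, y' i = ∑ j, r i j • z j :=
    ⟨fun j => bT.repr.symm (w j), fun i => by
      have h0 : bT.repr (y' i) = ∑ j, r i j • w j := hw i
      rw [← bT.repr.symm_apply_apply (y' i), h0, map_sum]
      simp only [map_smul]⟩
  let e : Module.Basis κ A (κ →₀ A) := Finsupp.basisSingleOne
  let R := fun x : ⨂[A] _ : Fin d, κ →₀ A => retr d e x
  refine ⟨k, r, fun j => PiTensorProduct.map (fun _ : Fin d => g') (R (z j)).1,
    fun j => map_mem_symSub g' (R (z j)).2, fun i => ?_, hr⟩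
  have h1 : (R (y' i)).1 = y' i := congrArg Subtype.val (retr_val e ⟨y' i, hy' i⟩)
  have h2 : y i = PiTensorProduct.map (fun _ : Fin d => g') (y' i) := by
    rw [map_map, ← hg', ← map_map, hπ i, ht]
  rw [h2, ← h1, hz i]
  simp only [R, map_sum, map_smul, Submodule.coe_sum, Submodule.coe_smul]

end ZCLib
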