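import Groth.Agent.ZCLib.Free
import Mathlib.Data.Fintype.Perm
import Mathlib.LinearAlgebra.Finsupp.VectorSpace

/-! Polarization of homogeneous laws. -/

noncomputable section

open TensorProduct MvPolynomial PiTensorProduct

namespace ZCLib

universe u

variable {A : Type u} [CommRing A] {M N P : Type u} [AddCommGroup M] [Module A M]
  [AddCommGroup N] [Module A N] [AddCommGroup P] [Module A P] {d : ℕ}

variable (A d) in
/-- The sum of all permutations of the factors. -/
def symmSum (M : Type u) [AddCommGroup M] [Module A M] :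
    (⨂[A] _ : Fin d, M) →ₗ[A] (⨂[A] _ : Fin d, M) :=
  ∑ σ : Equiv.Perm (Fin d), (PiTensorProduct.reindex A (fun _ : Fin d => M) σ).toLinearMap

lemma symmSum_of_mem {t : ⨂[A] _ : Fin d, M} (ht : t ∈ symSub A d M) :
    symmSum A d M t = d.factorial • t := by
  simp only [symmSum, LinearMap.coe_sum, Finset.sum_apply, LinearEquiv.coe_coe, mem_symSub.1 ht,
    Finset.sum_const, Finset.card_univ, Fintype.card_perm, Fintype.card_fin]

variable (d) in
/-- The exponent `(1, …, 1)`. -/
def ones : ULift.{u} (Fin d) →₀ ℕ := cnt fun i => (⟨i⟩ : ULift.{u} (Fin d))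

lemma orbs_ones (m : Fin d → M) :
    orbs A d (fun k : ULift.{u} (Fin d) => m k.down) (ones d) = symmSum A d M (tprod A m) := by
  classical
  simp only [orbs, Finsupp.coe_finsetSum, Finset.sum_apply, Finsupp.single_apply]
  rw [← Finset.sum_filter]
  simp only [symmSum, LinearMap.coe_sum, Finset.sum_apply, LinearEquiv.coe_coe,
    PiTensorProduct.reindex_tprod]
  refine (Finset.sum_bij (fun σ _ => fun i => (⟨σ.symm i⟩ : ULift.{u} (Fin d)))
    ?_ ?_ ?_ ?_).symm
  · intro σ _
    simp only [Finset.mem_filter, Finset.mem_univ, true_and]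
    exact cnt_comp (fun i => (⟨i⟩ : ULift.{u} (Fin d))) σ.symm
  · intro σ _ τ _ h
    exact Equiv.symm_bijective.injective (Equiv.ext fun i => congrArg ULift.down (congrFun h i))
  · intro c hc
    obtain ⟨σ, hσ⟩ := exists_perm_of_cnt_eq (show cnt c = cnt fun i => (⟨i⟩ : ULift.{u} (Fin d)) from
      (Finset.mem_filter.1 hc).2)
    exact ⟨σ.symm, Finset.mem_univ _, by rw [hσ]; rfl⟩
  · intro σ _
    rfl

lemma orbs_ones' (v : ULift.{u} (Fin d) → M) :
    orbs A d v (ones d) = symmSum A d M (tprod A fun i => v ⟨i⟩) :=
  orbs_ones (fun i => v ⟨i⟩)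

variable {F : P →ₚₗ[A] N} (hF : PolLaw.IsHomog F d)

include hF in
lemma psi_symmSum {ι : Type u} (e : Module.Basis ι A M) (g : M →ₗ[A] P) (p : Fin d → M) :
    psi d e F g (symmSum A d M (tprod A p)) =
      coeffs F (fun k : ULift.{u} (Fin d) => g (p k.down)) (ones d) := by
  rw [← orbs_ones, psi_orbs hF]
  rfl

/-- The polarization, as a multilinear map. -/
def polMul : MultilinearMap A (fun _ : Fin d => P) N where
  toFun m := coeffs F (fun k : ULift.{u} (Fin d) => m k.down) (ones d)
  map_update_add' := by
    intro _ m i x y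
    let e : Module.Basis P A (P →₀ A) := Finsupp.basisSingleOne
    let g : (P →₀ A) →ₗ[A] P := Finsupp.linearCombination A id
    let L : MultilinearMap A (fun _ : Fin d => P →₀ A) N :=
      (psi d e F g ∘ₗ symmSum A d (P →₀ A)).compMultilinearMap (tprod A)
    have hL : ∀ p : Fin d → P →₀ A,
        L p = coeffs F (fun k : ULift.{u} (Fin d) => g (p k.down)) (ones d) :=
      fun p => psi_symmSum hF e g p
    have h := L.map_update_add (fun j => Finsupp.single (m j) 1) i (Finsupp.single x 1)
      (Finsupp.single y 1)
    simp only [hL] at h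
    have hu : ∀ z : P →₀ A, (fun k : ULift.{u} (Fin d) =>
        g (Function.update (fun j => Finsupp.single (m j) 1) i z k.down)) =
        fun k => Function.update m i (g z) k.down := by
      intro z
      funext k
      rcases eq_or_ne k.down i with hk | hk
      · rw [hk, Function.update_self, Function.update_self]
      · rw [Function.update_of_ne hk, Function.update_of_ne hk]
        simp [g]
    rw [hu, hu, hu] at h
    simpa [g] using h
  map_update_smul' := by
    intro _ m i c x
    let e : Module.Basis P A (P →₀ A) := Finsupp.basisSingleOne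
    let g : (P →₀ A) →ₗ[A] P := Finsupp.linearCombination A id
    let L : MultilinearMap A (fun _ : Fin d => P →₀ A) N :=
      (psi d e F g ∘ₗ symmSum A d (P →₀ A)).compMultilinearMap (tprod A)
    have hL : ∀ p : Fin d → P →₀ A,
        L p = coeffs F (fun k : ULift.{u} (Fin d) => g (p k.down)) (ones d) :=
      fun p => psi_symmSum hF e g p
    have h := L.map_update_smul (fun j => Finsupp.single (m j) 1) i c (Finsupp.single x 1)
    simp only [hL] at h
    have hu : ∀ z : P →₀ A, (fun k : ULift.{u} (Fin d) =>
        g (Function.update (fun j => Finsupp.single (m j) 1) i z k.down)) =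
        fun k => Function.update m i (g z) k.down := by
      intro z
      funext k
      rcases eq_or_ne k.down i with hk | hk
      · rw [hk, Function.update_self, Function.update_self]
      · rw [Function.update_of_ne hk, Function.update_of_ne hk]
        simp [g]
    rw [hu, hu] at h
    simpa [g] using h

/-- The polarization of a homogeneous law. -/
def pol : (⨂[A] _ : Fin d, P) →ₗ[A] N := PiTensorProduct.lift (polMul hF)

lemma pol_tprod (m : Fin d → P) :
    pol hF (tprod A m) = coeffs F (fun k : ULift.{u} (Fin d) => m k.down) (ones d) :=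
  PiTensorProduct.lift.tprod m

lemma pol_orbs {κ : Type u} [Fintype κ] (v : κ → P) (α : κ →₀ ℕ) :
    pol hF (orbs A d v α) = d.factorial • coeffs F v α := by
  let e : Module.Basis κ A (κ →₀ A) := Finsupp.basisSingleOne
  let g : (κ →₀ A) →ₗ[A] P := Finsupp.linearCombination A v
  have hge : g ∘ e = v := funext fun k => by simp [g, e]
  have hcomp : pol hF ∘ₗ PiTensorProduct.map (fun _ : Fin d => g) =
      psi d e F g ∘ₗ symmSum A d (κ →₀ A) := by
    refine PiTensorProduct.ext (MultilinearMap.ext fun p => ?_)
    simp only [LinearMap.compMultilinearMap_apply, LinearMap.comp_apply, PiTensorProduct.map_tprod,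
      pol_tprod, psi_symmSum hF]
  have h := LinearMap.congr_fun hcomp (orbs A d e α)
  rw [LinearMap.comp_apply, LinearMap.comp_apply, map_orbs, hge,
    symmSum_of_mem (orbs_mem _ α), map_nsmul, psi_orbs hF, hge] at h
  exact h

omit [AddCommGroup N] [Module A N] in
lemma symSub_le_span_of_isUnit (hu : IsUnit ((d.factorial : ℕ) : A)) :
    symSub A d M ≤ Submodule.span A (orbSet A d M) := by
  intro t ht
  have hmem : ∀ x, symmSum A d M x ∈ Submodule.span A (orbSet A d M) := by
    intro x
    induction x using PiTensorProduct.induction_on with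
    | smul_tprod r m =>
      rw [map_smul, ← orbs_ones]
      exact Submodule.smul_mem _ r (Submodule.subset_span (orbs_mem_orbSet _ _))
    | add a b ha hb => rw [map_add]; exact add_mem ha hb
  obtain ⟨u, hu⟩ := hu
  have h : t = (↑u⁻¹ : A) • symmSum A d M t := by
    rw [symmSum_of_mem ht, ← Nat.cast_smul_eq_nsmul A, ← hu, smul_smul, Units.inv_mul, one_smul]
  rw [h]
  exact Submodule.smul_mem _ _ (hmem t)

end ZCLib
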