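import Groth.Agent.ZCLib.Tau
import Groth.Agent.ZCLib.Pol
import Groth.Agent.ZCLib.FlatSym

/-! Symmetric tensors as divided powers. -/

noncomputable section

open TensorProduct MvPolynomial PiTensorProduct

namespace ZCLib

universe u

variable {A : Type u} [CommRing A] {B : Type u} [CommRing B] [Algebra A B] {d : ℕ}

lemma isGammaD_tau_of_flat [Module.Flat A B] : PolLaw.IsGammaD (tau A B d) := by
  refine isGammaD_of_span _ (span_coeffSet_tau symSub_le_span_of_flat) fun C' _ _ G => ?_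
  obtain ⟨f, hf⟩ := exists_linear_of_flat (F := G.law) G.homog
  refine ⟨f ∘ₗ (SymTen.TS A B d).val.toLinearMap.codRestrict (symSub A d B)
    (fun t => by rw [← TS_toSubmodule]; exact t.2), fun κ _ v α => ?_⟩
  rw [LinearMap.comp_apply, ← hf κ v α]
  exact congrArg f (Subtype.ext (val_coeffs_tau v α))

lemma isGammaD_tau_of_isUnit (hu : IsUnit ((d.factorial : ℕ) : A)) :
    PolLaw.IsGammaD (tau A B d) := by
  refine isGammaD_of_span _ (span_coeffSet_tau (symSub_le_span_of_isUnit hu)) fun C' _ _ G => ?_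
  obtain ⟨u, hu⟩ := hu
  refine ⟨(↑u⁻¹ : A) • (pol G.homog ∘ₗ (SymTen.TS A B d).val.toLinearMap), fun κ _ v α => ?_⟩
  rw [LinearMap.smul_apply, LinearMap.comp_apply, AlgHom.toLinearMap_apply, Subalgebra.val_apply,
    val_coeffs_tau, pol_orbs, ← Nat.cast_smul_eq_nsmul A, ← hu, smul_smul, Units.inv_mul, one_smul]

lemma isGammaD_tau (h : Module.Flat A B ∨ IsUnit ((d.factorial : ℕ) : A)) :
    PolLaw.IsGammaD (tau A B d) := by
  rcases h with h | h
  · exact isGammaD_tau_of_flat
  · exact isGammaD_tau_of_isUnit h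

/-- Over a flat algebra any divided power algebra is the algebra of symmetric tensors. -/
lemma exists_equiv_TS {C : Type u} [CommRing C] [Algebra A C] {γ : PolLaw.MulLaw A B C d}
    (hγ : PolLaw.IsGammaD γ) (hτ : PolLaw.IsGammaD (tau A B d)) :
    ∃ e : C ≃ₐ[A] SymTen.TS A B d, PolLaw.postcomp e.toAlgHom.toLinearMap γ.law = (tau A B d).law := by
  obtain ⟨f, hf, -⟩ := hγ _ (tau A B d)
  obtain ⟨g, hg, -⟩ := hτ _ γ
  have hgf : g.comp f = AlgHom.id A C := algHom_ext_of_span (span_coeffSet_eq_top hγ) <| by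
    rw [AlgHom.comp_toLinearMap, ← postcomp_postcomp, hf, hg]
    exact law_ext fun κ _ v => Finsupp.ext fun α => by rw [coeffs_postcomp]; rfl
  have hfg : f.comp g = AlgHom.id A _ := algHom_ext_of_span (span_coeffSet_eq_top hτ) <| by
    rw [AlgHom.comp_toLinearMap, ← postcomp_postcomp, hg, hf]
    exact law_ext fun κ _ v => Finsupp.ext fun α => by rw [coeffs_postcomp]; rfl
  exact ⟨AlgEquiv.ofAlgHom f g hfg hgf, hf⟩

lemma flat_TS [Module.Flat A B] : Module.Flat A (SymTen.TS A B d) := by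
  refine Module.Flat.iff_forall_isTrivialRelation.2 fun {l a x} h => ?_
  have hmem : ∀ t : SymTen.TS A B d, (t : ⨂[A] _ : Fin d, B) ∈ symSub A d B := fun t => by
    rw [← TS_toSubmodule]; exact t.2
  obtain ⟨k, r, z, hzmem, hz, hr⟩ := symSub_trivial_relation (a := a) (fun i => hmem (x i)) (by
    have h' := congrArg (SymTen.TS A B d).val.toLinearMap h
    simpa using h')
  refine ⟨k, r, fun j => ⟨z j, fun σ => mem_symSub.1 (hzmem j) σ⟩, fun i => Subtype.ext ?_, hr⟩
  rw [hz i]
  simp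

end ZCLib
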