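import Groth.Agent.ZCLib.Free
import Groth.Agent.ZCLib.Mul
import Groth.Prelude.Def_PolLaw2

/-! The law `x ↦ x ⊗ ⋯ ⊗ x` into the symmetric tensors. -/

noncomputable section

open TensorProduct MvPolynomial PiTensorProduct

namespace ZCLib

universe u

variable {A : Type u} [CommRing A] {B : Type u} [CommRing B] [Algebra A B] {d : ℕ}

lemma prod_tmul {R T : Type u} [CommSemiring R] [Algebra A R] [CommRing T] [Algebra A T] {ι : Type*}
    (t : Finset ι) (f : ι → R) (g : ι → T) :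
    ∏ i ∈ t, f i ⊗ₜ[A] g i = (∏ i ∈ t, f i) ⊗ₜ[A] ∏ i ∈ t, g i := by
  classical
  induction t using Finset.induction_on with
  | empty => simp [Algebra.TensorProduct.one_def]
  | insert a t ha ih =>
    rw [Finset.prod_insert ha, Finset.prod_insert ha, Finset.prod_insert ha, ih,
      Algebra.TensorProduct.tmul_mul_tmul]

lemma TS_toSubmodule : Subalgebra.toSubmodule (SymTen.TS A B d) = symSub A d B := by
  ext x
  rw [mem_symSub]
  rfl

lemma toFun'_tpow {S : Type u} [CommSemiring S] [Algebra A S] {κ : Type u} [Fintype κ] (s : κ → S)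
    (v : κ → B) :
    (SymTen.tpowLaw A B d).law.toFun' S (∑ j, s j ⊗ₜ[A] v j) = evalAt s (orbs A d v) := by
  classical
  rw [evalAt_orbs, SymTen.tpowLaw, PolLaw.MulLaw.prodMap_toFun']
  simp only [map_sum, Algebra.TensorProduct.map_tmul, AlgHom.id_apply]
  rw [Fintype.prod_sum]
  refine Finset.sum_congr rfl fun c _ => ?_
  rw [prod_tmul]
  congr 1
  simp only [PiTensorProduct.singleAlgHom_apply, MonoidHom.mulSingle_apply]
  rw [← PiTensorProduct.tprod_prod]
  exact congrArg _ (Finset.univ_prod_mulSingle fun i => v (c i))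

lemma coeffs_tpow {κ : Type u} [Fintype κ] (v : κ → B) :
    coeffs (SymTen.tpowLaw A B d).law v = orbs A d v := by
  rw [coeffs, gen, toFun'_tpow, polEquiv_evalAt_X]

lemma coeffs_tpow_mem (κ : Type u) [Fintype κ] (v : κ → B) (α : κ →₀ ℕ) :
    coeffs (SymTen.tpowLaw A B d).law v α ∈ SymTen.TS A B d := by
  rw [coeffs_tpow, ← Subalgebra.mem_toSubmodule, TS_toSubmodule]
  exact orbs_mem v α

variable (A B d) in
/-- The law `x ↦ x ⊗ ⋯ ⊗ x` with values in the symmetric tensors. -/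
def tau : PolLaw.MulLaw A B (SymTen.TS A B d) d :=
  corestrictMul (SymTen.tpowLaw A B d) (SymTen.TS A B d) coeffs_tpow_mem

lemma postcomp_tau :
    PolLaw.postcomp (SymTen.TS A B d).val.toLinearMap (tau A B d).law =
      (SymTen.tpowLaw A B d).law :=
  postcomp_corestrictMul _ _ _

lemma val_coeffs_tau {κ : Type u} [Fintype κ] (v : κ → B) (α : κ →₀ ℕ) :
    ((coeffs (tau A B d).law v α : SymTen.TS A B d) : ⨂[A] _ : Fin d, B) = orbs A d v α := by
  rw [← coeffs_tpow, ← postcomp_tau, coeffs_postcomp]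
  rfl

lemma sum_eq_evalAt_orbs {S : Type u} [CommSemiring S] [Algebra A S] {κ : Type u} [Fintype κ]
    (s : κ → S) (v : κ → B) :
    ∑ c : Fin d → κ, (∏ i, s (c i)) ⊗ₜ[A] tprod A (fun i => v (c i)) =
      (SymTen.tpowLaw A B d).law.toFun' S (∑ j, s j ⊗ₜ[A] v j) := by
  rw [toFun'_tpow, evalAt_orbs]

lemma tau_spec (S : Type u) [CommSemiring S] [Algebra A S] (n : ℕ) (s : Fin n → S) (b : Fin n → B) :
    (SymTen.TS A B d).val.toLinearMap.lTensor S
        ((tau A B d).law.toFun' S (∑ j, s j ⊗ₜ[A] b j)) =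
      ∑ c : Fin d → Fin n, (∏ i, s (c i)) ⊗ₜ[A] tprod A (fun i => b (c i)) := by
  show (PolLaw.postcomp (SymTen.TS A B d).val.toLinearMap (tau A B d).law).toFun' S _ = _
  rw [postcomp_tau]
  have h := sum_eq_evalAt_orbs (A := A) (d := d) (fun j : ULift.{u} (Fin n) => s j.down)
    fun j => b j.down
  rw [Fintype.sum_equiv Equiv.ulift (fun j : ULift.{u} (Fin n) => s j.down ⊗ₜ[A] b j.down)
    (fun j => s j ⊗ₜ[A] b j) fun _ => rfl] at h
  rw [← h]
  exact Fintype.sum_equiv (Equiv.arrowCongr (Equiv.refl _) Equiv.ulift) _ _ fun c => rfl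

section Phi

variable {C : Type u} [CommRing C] [Algebra A C] {γ : PolLaw.MulLaw A B C d}
  (φ : C →ₐ[A] SymTen.TS A B d)
  (hφ : ∀ (S : Type u) [CommSemiring S] [Algebra A S] (n : ℕ) (s : Fin n → S) (b : Fin n → B),
    ((SymTen.TS A B d).val.comp φ).toLinearMap.lTensor S
        (γ.law.toFun' S (∑ j, s j ⊗ₜ[A] b j)) =
      ∑ c : Fin d → Fin n, (∏ i, s (c i)) ⊗ₜ[A] tprod A (fun i => b (c i)))

include hφ in
lemma postcomp_phi : PolLaw.postcomp φ.toLinearMap γ.law = (tau A B d).law := by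
  refine law_ext_of_injective (SymTen.TS A B d).val.toLinearMap Subtype.val_injective ?_
  rw [postcomp_postcomp, postcomp_tau]
  refine PolynomialLaw.ext ?_
  funext S _ _ x
  obtain ⟨κ, _, s, v, rfl⟩ := exists_sum S x
  have h := hφ S (Fintype.card κ) (s ∘ (Fintype.equivFin κ).symm) (v ∘ (Fintype.equivFin κ).symm)
  rw [Fintype.sum_equiv (Fintype.equivFin κ).symm
    (fun j => (s ∘ (Fintype.equivFin κ).symm) j ⊗ₜ[A] (v ∘ (Fintype.equivFin κ).symm) j)
    (fun j => s j ⊗ₜ[A] v j) fun _ => rfl] at h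
  refine h.trans ?_
  rw [← sum_eq_evalAt_orbs]
  exact Fintype.sum_equiv (Equiv.arrowCongr (Equiv.refl _) (Fintype.equivFin κ).symm) _ _
    fun c => rfl

include hφ in
lemma phi_coeffs {κ : Type u} [Fintype κ] (v : κ → B) (α : κ →₀ ℕ) :
    φ (coeffs γ.law v α) = coeffs (tau A B d).law v α := by
  rw [← postcomp_phi φ hφ, coeffs_postcomp]
  rfl

include hφ in
lemma val_phi_coeffs {κ : Type u} [Fintype κ] (v : κ → B) (α : κ →₀ ℕ) :
    (φ (coeffs γ.law v α) : ⨂[A] _ : Fin d, B) = orbs A d v α := by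
  rw [phi_coeffs φ hφ, val_coeffs_tau]

end Phi

/-- The coefficients of `tau` span as soon as the orbit sums span the symmetric tensors. -/
lemma span_coeffSet_tau (h : symSub A d B ≤ Submodule.span A (orbSet A d B)) :
    Submodule.span A (coeffSet (tau A B d).law ⊤) = ⊤ := by
  refine top_le_iff.1 fun t _ => ?_
  have ht : (t : ⨂[A] _ : Fin d, B) ∈ symSub A d B := by
    rw [← TS_toSubmodule]; exact t.2
  have hsub : Submodule.span A (orbSet A d B) ≤
      (Submodule.span A (coeffSet (tau A B d).law ⊤)).map (SymTen.TS A B d).val.toLinearMap :=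
    Submodule.span_le.2 fun x ⟨κ, _, v, α, hx⟩ => ⟨_, Submodule.subset_span
      (s := coeffSet (tau A B d).law ⊤) ⟨κ, _, v, α, fun _ => Algebra.mem_top, rfl⟩, by
        exact (val_coeffs_tau v α).trans hx.symm⟩
  obtain ⟨t', ht', he⟩ := hsub (h ht)
  rwa [show t' = t from Subtype.ext he] at ht'

end ZCLib
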