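import Groth.Agent.ZCLib.TS
import Mathlib.RingTheory.Ideal.GoingUp
import Mathlib.RingTheory.LocalRing.ResidueField.Ideal
import Mathlib.RingTheory.Polynomial.Basic

/-! Points of the symmetric tensors over points of the divided powers. -/

noncomputable section

open TensorProduct PiTensorProduct

namespace ZCLib

universe u

variable {A : Type u} [CommRing A] {B : Type u} [CommRing B] [Algebra A B] {d : ℕ}

lemma perm_perm (τ σ : Equiv.Perm (Fin d)) (z : ⨂[A] _ : Fin d, B) :
    SymTen.perm A B d τ (SymTen.perm A B d σ z) = SymTen.perm A B d (τ * σ) z := by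
  induction z using PiTensorProduct.induction_on with
  | smul_tprod r g => simp; rfl
  | add a b ha hb => simp only [map_add, ha, hb]

lemma perm_one (z : ⨂[A] _ : Fin d, B) : SymTen.perm A B d 1 z = z := by
  induction z using PiTensorProduct.induction_on with
  | smul_tprod r g => simp; rfl
  | add a b ha hb => simp only [map_add, ha, hb]

lemma isIntegral_val : (SymTen.TS A B d).val.toRingHom.IsIntegral := by
  intro z
  classical
  set p : Polynomial (⨂[A] _ : Fin d, B) :=
    ∏ σ : Equiv.Perm (Fin d), (Polynomial.X - Polynomial.C (SymTen.perm A B d σ z)) with hp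
  have hm : p.Monic := Polynomial.monic_prod_of_monic _ _ fun σ _ => Polynomial.monic_X_sub_C _
  have hperm : ∀ τ : Equiv.Perm (Fin d), p.map (SymTen.perm A B d τ).toRingHom = p := by
    intro τ
    rw [hp, Polynomial.map_prod]
    refine Fintype.prod_equiv (Equiv.mulLeft τ) _ _ fun σ => ?_
    rw [Polynomial.map_sub, Polynomial.map_X, Polynomial.map_C]
    congr 2
    exact perm_perm τ σ z
  have hl : p ∈ Polynomial.lifts (SymTen.TS A B d).val.toRingHom := by
    rw [Polynomial.lifts_iff_coeff_lifts]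
    intro n
    refine ⟨⟨p.coeff n, fun τ => ?_⟩, rfl⟩
    conv_rhs => rw [← hperm τ, Polynomial.coeff_map]
    exact (SymTen.perm_apply A B d τ _).symm
  obtain ⟨q, hq, -, hqm⟩ := Polynomial.lifts_and_natDegree_eq_and_monic hl hm
  refine ⟨q, hqm, ?_⟩
  rw [← Polynomial.eval_map, hq, hp, Polynomial.eval_prod]
  refine Finset.prod_eq_zero (Finset.mem_univ 1) ?_
  rw [Polynomial.eval_sub, Polynomial.eval_X, Polynomial.eval_C, sub_eq_zero, perm_one]

lemma exists_finite_family {k : Type u} [CommRing k] [Algebra A k] {κ : Type u} [Fintype κ]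
    (v : κ → k ⊗[A] B) :
    ∃ (κ' : Type u) (_ : Fintype κ') (b : κ' → B) (a : κ → κ' → k),
      ∀ j, v j = ∑ l, a j l • ((1 : k) ⊗ₜ[A] b l) := by
  classical
  choose K hK s b hb using fun j => exists_sum (A := A) k (v j)
  refine ⟨Σ j, K j, inferInstance, fun l => b l.1 l.2,
    fun j l => if l.1 = j then s l.1 l.2 else 0, fun j => ?_⟩
  rw [Fintype.sum_sigma]
  rw [Finset.sum_eq_single j (fun i _ hi => Finset.sum_eq_zero fun l _ => by simp [hi]) (by simp)]
  simp [hb j, TensorProduct.smul_tmul']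

/-- Every point of the symmetric tensors has the same values as a point of the divided powers. -/
lemma exists_fraction {C : Type u} [CommRing C] [Algebra A C] {γ : PolLaw.MulLaw A B C d}
    (φ : C →ₐ[A] SymTen.TS A B d)
    (hφ : ∀ (S : Type u) [CommSemiring S] [Algebra A S] (n : ℕ) (s : Fin n → S) (b : Fin n → B),
      ((SymTen.TS A B d).val.comp φ).toLinearMap.lTensor S
          (γ.law.toFun' S (∑ j, s j ⊗ₜ[A] b j)) =
        ∑ c : Fin d → Fin n, (∏ i, s (c i)) ⊗ₜ[A] tprod A (fun i => b (c i)))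
    (q : Ideal (SymTen.TS A B d)) [q.IsPrime] (y : SymTen.TS A B d) :
    ∃ c c' : C, φ c' ∉ q ∧ y * φ c' - φ c ∈ q := by
  classical
  letI : Algebra (SymTen.TS A B d) (⨂[A] _ : Fin d, B) := (SymTen.TS A B d).val.toRingHom.toAlgebra
  haveI : Algebra.IsIntegral (SymTen.TS A B d) (⨂[A] _ : Fin d, B) := ⟨isIntegral_val⟩
  obtain ⟨Q, -, hQ, hQq⟩ := Ideal.exists_ideal_over_prime_of_isIntegral q
    (⊥ : Ideal (⨂[A] _ : Fin d, B)) (fun x hx => by
      rw [show x = 0 from Subtype.ext hx]; exact q.zero_mem)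
  haveI := hQ
  let L := Q.ResidueField
  let χ : (⨂[A] _ : Fin d, B) →ₐ[A] L :=
    { (algebraMap (⨂[A] _ : Fin d, B) L) with
      commutes' := fun a => (IsScalarTower.algebraMap_apply A (⨂[A] _ : Fin d, B) L a).symm }
  have hχ : ∀ t : SymTen.TS A B d, χ t = 0 ↔ t ∈ q := fun t => by
    rw [← hQq]
    exact Ideal.algebraMap_residueField_eq_zero
  let g : C →ₐ[A] L := χ.comp ((SymTen.TS A B d).val.comp φ)
  let k : Subfield L := Subfield.closure (Set.range g)
  have hAk : ∀ a : A, algebraMap A L a ∈ k := fun a =>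
    Subfield.subset_closure ⟨algebraMap A C a, g.commutes a⟩
  letI : Algebra A k := ((algebraMap A L).codRestrict k hAk).toAlgebra
  haveI : IsScalarTower A k L := IsScalarTower.of_algebraMap_eq fun _ => rfl
  let χi : Fin d → k ⊗[A] B →ₐ[k] L := fun i =>
    Algebra.TensorProduct.lift (Algebra.ofId k L)
      (χ.comp (PiTensorProduct.singleAlgHom (A := fun _ : Fin d => B) i)) fun _ _ => Commute.all _ _
  let χ' : (⨂[k] _ : Fin d, k ⊗[A] B) →ₗ[k] L := PiTensorProduct.lift
    ((MultilinearMap.mkPiAlgebra k (Fin d) L).compLinearMap fun i => (χi i).toLinearMap)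
  let ι : (⨂[A] _ : Fin d, B) →ₗ[A] (⨂[k] _ : Fin d, k ⊗[A] B) := PiTensorProduct.lift
    (((tprod k).restrictScalars A).compLinearMap fun _ : Fin d =>
      (Algebra.TensorProduct.includeRight : B →ₐ[A] k ⊗[A] B).toLinearMap)
  have hι : ∀ b : Fin d → B, ι (tprod A b) = tprod k (fun i => (1 : k) ⊗ₜ[A] b i) := fun b => by
    simp [ι]
  have hχ' : ∀ t, χ' (ι t) = χ t := by
    intro t
    induction t using PiTensorProduct.induction_on with
    | smul_tprod r b =>
      rw [ι.map_smul, hι, LinearMap.map_smul_of_tower χ', map_smul χ]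
      congr 1
      simp only [χ', PiTensorProduct.lift.tprod, MultilinearMap.compLinearMap_apply,
        MultilinearMap.mkPiAlgebra_apply, AlgHom.toLinearMap_apply, χi,
        Algebra.TensorProduct.lift_tmul, map_one, one_mul, AlgHom.comp_apply,
        PiTensorProduct.singleAlgHom_apply, MonoidHom.mulSingle_apply]
      rw [← map_prod, ← PiTensorProduct.tprod_prod, Finset.univ_prod_mulSingle]
    | add a b ha hb => simp only [map_add, ha, hb]
  have hι' : ∀ (σ : Equiv.Perm (Fin d)) t,
      PiTensorProduct.reindex k (fun _ : Fin d => k ⊗[A] B) σ (ι t) =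
        ι (PiTensorProduct.reindex A (fun _ : Fin d => B) σ t) := by
    intro σ t
    induction t using PiTensorProduct.induction_on with
    | smul_tprod r b =>
      rw [ι.map_smul, LinearEquiv.map_smul
          (PiTensorProduct.reindex A (fun _ : Fin d => B) σ), ι.map_smul, ← LinearEquiv.coe_coe,
        LinearMap.map_smul_of_tower, LinearEquiv.coe_coe, hι,
        PiTensorProduct.reindex_tprod, PiTensorProduct.reindex_tprod, hι]
    | add a b ha hb => simp only [map_add, ha, hb]
  have horb : ∀ (κ : Type u) [Fintype κ] (b : κ → B) (α : κ →₀ ℕ),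
      ι (orbs A d b α) = orbs k d (fun j => (1 : k) ⊗ₜ[A] b j) α := by
    intro κ _ b α
    simp only [orbs, Finsupp.coe_finsetSum, Finset.sum_apply, Finsupp.single_apply, map_sum]
    refine Finset.sum_congr rfl fun c _ => ?_
    split_ifs
    · exact hι _
    · exact map_zero _
  let R : Submodule k L := LinearMap.range (Algebra.linearMap k L)
  have hR : ∀ x : L, x ∈ R ↔ x ∈ k := fun x =>
    ⟨fun ⟨z, hz⟩ => hz ▸ z.2, fun h => ⟨⟨x, h⟩, rfl⟩⟩
  have hgen : ∀ z ∈ orbSet k d (k ⊗[A] B), χ' z ∈ R := by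
    rintro _ ⟨κ, _, v, α, rfl⟩
    obtain ⟨κ', _, b, a, hv⟩ := exists_finite_family v
    have h := coeffs_mem_of_linear (SymTen.tpowLaw k (k ⊗[A] B) d).law v
      (fun l => (1 : k) ⊗ₜ[A] b l) a hv (R.comap χ') (fun β => by
        rw [coeffs_tpow, Submodule.mem_comap, hR, ← horb, hχ', ← val_phi_coeffs φ hφ]
        exact Subfield.subset_closure (Set.mem_range_self _)) α
    rwa [coeffs_tpow] at h
  have hy : ι (y : ⨂[A] _ : Fin d, B) ∈ symSub k d (k ⊗[A] B) := mem_symSub.2 fun σ => by
    rw [hι', y.2 σ]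
  have hmem : χ (y : ⨂[A] _ : Fin d, B) ∈ k := by
    rw [← hR, ← hχ']
    exact (Submodule.span_le (p := R.comap χ')).2 hgen
      (symSub_le_span (Module.Free.chooseBasis k (k ⊗[A] B)) hy)
  obtain ⟨u₁, hu₁, u₂, hu₂, he⟩ := Subfield.mem_closure_iff.1 hmem
  have hrange : Subring.closure (Set.range g) ≤ g.toRingHom.range :=
    Subring.closure_le.2 fun _ h => h
  obtain ⟨c, rfl⟩ := hrange hu₁
  obtain ⟨c', rfl⟩ := hrange hu₂
  by_cases hc' : φ c' ∈ q
  · have h0 : g c' = 0 := (hχ (φ c')).2 hc'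
    have hy0 : y ∈ q := (hχ y).1 (by
      rw [← he, show g.toRingHom c' = 0 from h0, div_zero])
    refine ⟨0, 1, ?_, ?_⟩
    · rw [map_one, ← Ideal.ne_top_iff_one]; exact Ideal.IsPrime.ne_top ‹_›
    · simpa using hy0
  · refine ⟨c, c', hc', (hχ _).1 ?_⟩
    have h0 : g c' ≠ 0 := fun h => hc' ((hχ (φ c')).1 h)
    have he' : g c = χ (y : ⨂[A] _ : Fin d, B) * g c' := ((div_eq_iff h0).1 he)
    show χ ((y : ⨂[A] _ : Fin d, B) * (φ c' : ⨂[A] _ : Fin d, B) - (φ c : ⨂[A] _ : Fin d, B)) = 0
    rw [map_sub, map_mul, sub_eq_zero]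
    exact he'.symm

end ZCLib
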