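import Groth.Agent.ZCLib.Coeff
import Mathlib.RingTheory.Flat.Stability
import Mathlib.LinearAlgebra.TensorProduct.RightExactness

/-! Laws with coefficients in a submodule, and products of coefficients. -/

noncomputable section

open TensorProduct MvPolynomial

namespace ZCLib

universe u

variable {A : Type u} [CommRing A] {M N P : Type u} [AddCommGroup M] [Module A M]
  [AddCommGroup N] [Module A N] [AddCommGroup P] [Module A P]

lemma polEquiv_evalAt_X {κ : Type u} (z : (κ →₀ ℕ) →₀ N) :
    polEquiv A κ N (evalAt (X : κ → MvPolynomial κ A) z) = z := by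
  conv_lhs => rw [← (polEquiv A κ N).apply_symm_apply z, ← rTensor_aeval]
  rw [show aeval (X : κ → MvPolynomial κ A) = AlgHom.id A _ from algHom_ext fun i => by simp]
  simp

lemma polEquiv_evalAt_mem {κ κ' : Type u} (t : κ → MvPolynomial κ' A) (z : (κ →₀ ℕ) →₀ N)
    (E : Submodule A N) (hz : ∀ α, z α ∈ E) (β : κ' →₀ ℕ) :
    polEquiv A κ' N (evalAt t z) β ∈ E := by
  rw [← z.sum_single, map_finsuppSum, map_finsuppSum, Finsupp.sum_apply]
  refine Submodule.sum_mem _ fun α _ => ?_
  simp only
  rw [evalAt_single, polEquiv_tmul]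
  exact E.smul_mem _ (hz α)

lemma postcomp_postcomp {Q : Type u} [AddCommGroup Q] [Module A Q] (g : P →ₗ[A] Q) (f : N →ₗ[A] P)
    (F : M →ₚₗ[A] N) : PolLaw.postcomp g (PolLaw.postcomp f F) = PolLaw.postcomp (g ∘ₗ f) F :=
  law_ext fun κ _ v => Finsupp.ext fun α => by simp [coeffs_postcomp]

/-- If two families are related linearly, so are the coefficients. -/
lemma coeffs_mem_of_linear {κ κ' : Type u} [Fintype κ] [Fintype κ'] (F : M →ₚₗ[A] N) (v : κ → M)
    (w : κ' → M) (a : κ → κ' → A) (hv : ∀ j, v j = ∑ k, a j k • w k) (E : Submodule A N)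
    (hE : ∀ α, coeffs F w α ∈ E) (α : κ →₀ ℕ) : coeffs F v α ∈ E := by
  have h : gen (A := A) v = ∑ k, (∑ j, a j k • (X j : MvPolynomial κ A)) ⊗ₜ[A] w k := by
    simp only [gen, hv, TensorProduct.tmul_sum, TensorProduct.sum_tmul, TensorProduct.smul_tmul]
    exact Finset.sum_comm
  rw [coeffs, h, toFun'_sum]
  exact polEquiv_evalAt_mem _ _ E hE α

section Corestrict

variable (F : M →ₚₗ[A] N) (E : Submodule A N)
  (hE : ∀ (κ : Type u) [Fintype κ] (v : κ → M) α, coeffs F v α ∈ E)

include hE in
lemma exists_lift {σ : Type u} (y : MvPolynomial σ A ⊗[A] M) :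
    ∃ z : MvPolynomial σ A ⊗[A] E,
      E.subtype.lTensor _ z = F.toFun' (MvPolynomial σ A) y := by
  obtain ⟨κ, _, s, v, rfl⟩ := exists_sum _ y
  rw [toFun'_sum, ← Finsupp.sum_single (coeffs F v), map_finsuppSum]
  show _ ∈ LinearMap.range (E.subtype.lTensor (MvPolynomial σ A))
  refine Submodule.sum_mem _ fun α _ => ?_
  simp only
  rw [evalAt_single]
  exact ⟨_ ⊗ₜ[A] ⟨_, hE κ v α⟩, LinearMap.lTensor_tmul _ _ _ _⟩

/-- The values of the corestricted law on polynomial rings. -/
def polVal {σ : Type u} (y : MvPolynomial σ A ⊗[A] M) : MvPolynomial σ A ⊗[A] E :=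
  (exists_lift F E hE y).choose

lemma subtype_polVal {σ : Type u} (y : MvPolynomial σ A ⊗[A] M) :
    E.subtype.lTensor _ (polVal F E hE y) = F.toFun' (MvPolynomial σ A) y :=
  (exists_lift F E hE y).choose_spec

lemma polVal_map {σ τ : Type u} (φ : MvPolynomial σ A →ₐ[A] MvPolynomial τ A)
    (y : MvPolynomial σ A ⊗[A] M) :
    φ.toLinearMap.rTensor E (polVal F E hE y) = polVal F E hE (φ.toLinearMap.rTensor M y) := by
  apply Module.Flat.lTensor_preserves_injective_linearMap (M := MvPolynomial τ A) E.subtype
    E.subtype_injective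
  rw [subtype_polVal, ← LinearMap.comp_apply, LinearMap.lTensor_comp_rTensor,
    ← LinearMap.rTensor_comp_lTensor, LinearMap.comp_apply, subtype_polVal]
  exact congrFun (F.isCompat' φ) y

omit [AddCommGroup N] [Module A N] in
/-- The tautological presentation of an algebra. -/
lemma aeval_id_surjective (S : Type u) [CommSemiring S] [Algebra A S] :
    Function.Surjective ((aeval (R := A) (id : S → S)).toLinearMap.rTensor M) :=
  LinearMap.rTensor_surjective M fun s => ⟨X s, by simp⟩

/-- A chosen lift. -/
def liftPt {S : Type u} [CommSemiring S] [Algebra A S] (x : S ⊗[A] M) : MvPolynomial S A ⊗[A] M :=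
  Function.surjInv (aeval_id_surjective S) x

lemma rTensor_liftPt {S : Type u} [CommSemiring S] [Algebra A S] (x : S ⊗[A] M) :
    (aeval (R := A) (id : S → S)).toLinearMap.rTensor M (liftPt x) = x :=
  Function.surjInv_eq (aeval_id_surjective S) x

lemma rTensor_comp_algHom {S S' S'' : Type u} [CommSemiring S] [Algebra A S] [CommSemiring S']
    [Algebra A S'] [CommSemiring S''] [Algebra A S''] (φ : S →ₐ[A] S') (ψ : S' →ₐ[A] S'')
    (y : S ⊗[A] M) :
    (ψ.comp φ).toLinearMap.rTensor M y = ψ.toLinearMap.rTensor M (φ.toLinearMap.rTensor M y) := by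
  rw [AlgHom.comp_toLinearMap, LinearMap.rTensor_comp, LinearMap.comp_apply]

lemma polVal_congr {σ : Type u} {S : Type u} [CommSemiring S] [Algebra A S]
    (p : MvPolynomial σ A →ₐ[A] S) (hp : Function.Surjective p) {y y' : MvPolynomial σ A ⊗[A] M}
    (h : p.toLinearMap.rTensor M y = p.toLinearMap.rTensor M y') :
    p.toLinearMap.rTensor E (polVal F E hE y) = p.toLinearMap.rTensor E (polVal F E hE y') := by
  letI : AddCommGroup S := Module.addCommMonoidToAddCommGroup A
  have hker : y' - y ∈ LinearMap.ker (p.toLinearMap.rTensor M) := by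
    rw [LinearMap.mem_ker, map_sub, h, sub_self]
  obtain ⟨k, hk⟩ := (rTensor_exact M (LinearMap.exact_subtype_ker_map p.toLinearMap) hp
    (y' - y)).1 hker
  obtain ⟨L, _, i, m, rfl⟩ :=
    exists_sum_left (A := A) (M := M) (LinearMap.ker p.toLinearMap) k
  let j : MvPolynomial σ A →ₐ[A] MvPolynomial (σ ⊕ L) A := rename Sum.inl
  let Y := j.toLinearMap.rTensor M y + ∑ l, X (Sum.inr l) ⊗ₜ[A] m l
  let φ₁ : MvPolynomial (σ ⊕ L) A →ₐ[A] MvPolynomial σ A := aeval (Sum.elim X fun l => (i l).1)
  let φ₀ : MvPolynomial (σ ⊕ L) A →ₐ[A] MvPolynomial σ A := aeval (Sum.elim X fun _ => 0)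
  have e1 : φ₁.comp j = AlgHom.id A _ := algHom_ext fun s => by simp [φ₁, j]
  have e0 : φ₀.comp j = AlgHom.id A _ := algHom_ext fun s => by simp [φ₀, j]
  have h1 : φ₁.toLinearMap.rTensor M Y = y' := by
    simp only [Y, map_add, map_sum, ← rTensor_comp_algHom, e1, LinearMap.rTensor_tmul]
    rw [← add_sub_cancel y y', ← hk]
    simp [φ₁]
  have h0 : φ₀.toLinearMap.rTensor M Y = y := by
    simp only [Y, map_add, map_sum, ← rTensor_comp_algHom, e0, LinearMap.rTensor_tmul]
    simp [φ₀]
  have hcomp : p.comp φ₁ = p.comp φ₀ := algHom_ext fun s => by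
    rcases s with s | l
    · simp [φ₁, φ₀]
    · simp [φ₁, φ₀]
      exact LinearMap.mem_ker.1 (i l).2
  rw [← h1, ← h0, ← polVal_map, ← polVal_map, ← rTensor_comp_algHom, ← rTensor_comp_algHom, hcomp]

/-- A law with coefficients in a submodule, as a law into the submodule. -/
def corestrict : M →ₚₗ[A] E where
  toFun' S _ _ x := (aeval (R := A) (id : S → S)).toLinearMap.rTensor E (polVal F E hE (liftPt x))
  isCompat' {S} _ _ {S'} _ _ φ := by
    funext x
    simp only [Function.comp_apply]
    let r : MvPolynomial S A →ₐ[A] MvPolynomial S' A := rename φ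
    have hr : φ.comp (aeval (R := A) (id : S → S)) = (aeval (R := A) (id : S' → S')).comp r :=
      algHom_ext fun s => by simp [r]
    rw [← rTensor_comp_algHom, hr, rTensor_comp_algHom, polVal_map]
    refine polVal_congr F E hE _ (fun s => ⟨X s, by simp⟩) ?_
    rw [← rTensor_comp_algHom, ← hr, rTensor_comp_algHom, rTensor_liftPt, rTensor_liftPt]

lemma corestrict_aeval {S : Type u} [CommSemiring S] [Algebra A S]
    (y : MvPolynomial S A ⊗[A] M) :
    (corestrict F E hE).toFun' S ((aeval (R := A) (id : S → S)).toLinearMap.rTensor M y) =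
      (aeval (R := A) (id : S → S)).toLinearMap.rTensor E (polVal F E hE y) :=
  polVal_congr F E hE _ (fun s => ⟨X s, by simp⟩) (rTensor_liftPt _)

lemma postcomp_corestrict : PolLaw.postcomp E.subtype (corestrict F E hE) = F := by
  refine PolynomialLaw.ext ?_
  funext S _ _ x
  show E.subtype.lTensor S ((aeval (R := A) (id : S → S)).toLinearMap.rTensor E _) = _
  rw [← LinearMap.comp_apply, LinearMap.lTensor_comp_rTensor, ← LinearMap.rTensor_comp_lTensor,
    LinearMap.comp_apply, subtype_polVal]
  conv_rhs => rw [← rTensor_liftPt x]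
  exact congrFun (F.isCompat' _) (liftPt x)

end Corestrict

section Alg

variable {B C : Type u} [CommRing B] [Algebra A B] [CommRing C] [Algebra A C] {d : ℕ}

/-- A multiplicative law with coefficients in a subalgebra, as a law into the subalgebra. -/
def corestrictMul (F : PolLaw.MulLaw A B C d) (E : Subalgebra A C)
    (hE : ∀ (κ : Type u) [Fintype κ] (v : κ → B) α, coeffs F.law v α ∈ E) :
    PolLaw.MulLaw A B E d where
  law := corestrict F.law (Subalgebra.toSubmodule E) hE
  homog S _ _ s x := by
    show (corestrict F.law (Subalgebra.toSubmodule E) hE).toFun' S (s • x) =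
      s ^ d • (corestrict F.law (Subalgebra.toSubmodule E) hE).toFun' S x
    set π := aeval (R := A) (id : S → S) with hπ
    have hs : ∀ {N : Type u} [AddCommGroup N] [Module A N] (z : MvPolynomial S A ⊗[A] N)
        (p : MvPolynomial S A), π.toLinearMap.rTensor N (p • z) = π p • π.toLinearMap.rTensor N z := by
      intro N _ _ z p
      induction z with
      | zero => simp
      | tmul q n => simp [TensorProduct.smul_tmul']
      | add a b ha hb => simp only [smul_add, map_add, ha, hb]
    obtain ⟨q, rfl⟩ : ∃ q, π q = s := ⟨X s, by simp [π]⟩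
    conv_lhs => rw [← rTensor_liftPt x, ← hs]
    rw [corestrict_aeval]
    conv_rhs => rw [← rTensor_liftPt x]
    rw [corestrict_aeval, ← map_pow, ← hs]
    congr 1
    apply Module.Flat.lTensor_preserves_injective_linearMap (M := MvPolynomial S A)
      (Subalgebra.toSubmodule E).subtype (Submodule.subtype_injective _)
    rw [subtype_polVal, F.homog]
    have : ∀ (p : MvPolynomial S A) z, (Subalgebra.toSubmodule E).subtype.lTensor _ (p • z) =
        p • (Subalgebra.toSubmodule E).subtype.lTensor (MvPolynomial S A) z := by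
      intro p z
      induction z with
      | zero => simp
      | tmul q n => simp [TensorProduct.smul_tmul']
      | add a b ha hb => simp only [smul_add, map_add, ha, hb]
    rw [this, subtype_polVal]
  mult S _ _ := by
    set π := aeval (R := A) (id : S → S) with hπ
    let Φ : ∀ {R : Type u} [CommRing R] [Algebra A R],
        MvPolynomial S A ⊗[A] R →ₐ[A] S ⊗[A] R :=
      fun {R} _ _ => Algebra.TensorProduct.map π (AlgHom.id A R)
    have hΦ : ∀ {R : Type u} [CommRing R] [Algebra A R] (z : MvPolynomial S A ⊗[A] R),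
        π.toLinearMap.rTensor R z = Φ z := fun {R} _ _ z => rTensor_algHom π z
    have hv : ∀ z : MvPolynomial S A ⊗[A] E, E.val.toLinearMap.lTensor (MvPolynomial S A) z =
        Algebra.TensorProduct.map (AlgHom.id A (MvPolynomial S A)) E.val z := fun z => by
      induction z with
      | zero => simp
      | tmul q n => rfl
      | add a b ha hb => simp only [map_add, ha, hb]
    have hinj : Function.Injective (Algebra.TensorProduct.map (AlgHom.id A (MvPolynomial S A)) E.val) := by
      intro a b h
      rw [← hv, ← hv] at h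
      exact Module.Flat.lTensor_preserves_injective_linearMap (M := MvPolynomial S A)
        E.val.toLinearMap Subtype.val_injective h
    let G : MvPolynomial S A ⊗[A] B → MvPolynomial S A ⊗[A] E :=
      fun y => polVal F.law (Subalgebra.toSubmodule E) hE y
    have hG : ∀ y, Algebra.TensorProduct.map (AlgHom.id A (MvPolynomial S A)) E.val (G y) =
        F.law.toFun' (MvPolynomial S A) y := fun y => by
      rw [← hv]; exact subtype_polVal F.law (Subalgebra.toSubmodule E) hE y
    have hc : ∀ y : MvPolynomial S A ⊗[A] B,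
        (corestrict F.law (Subalgebra.toSubmodule E) hE).toFun' S (Φ y) = (Φ (G y) : S ⊗[A] E) :=
      fun y => by
        rw [← hΦ, ← hΦ]
        exact corestrict_aeval F.law (Subalgebra.toSubmodule E) hE y
    refine ⟨?_, fun x y => ?_⟩
    · have h1 := hc 1
      rw [map_one] at h1
      refine h1.trans ?_
      rw [show G 1 = 1 from hinj (by rw [hG, (F.mult _).1, map_one]), map_one]
    · obtain ⟨x', hx'⟩ : ∃ x', Φ x' = x := ⟨liftPt x, by rw [← hΦ]; exact rTensor_liftPt x⟩
      obtain ⟨y', hy'⟩ : ∃ y', Φ y' = y := ⟨liftPt y, by rw [← hΦ]; exact rTensor_liftPt y⟩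
      rw [← hx', ← hy', ← map_mul]
      refine (hc _).trans ?_
      rw [hc, hc, show G (x' * y') = G x' * G y' from hinj (by
        rw [map_mul, hG, hG, hG, (F.mult _).2]), map_mul]

lemma postcomp_corestrictMul (F : PolLaw.MulLaw A B C d) (E : Subalgebra A C)
    (hE : ∀ (κ : Type u) [Fintype κ] (v : κ → B) α, coeffs F.law v α ∈ E) :
    PolLaw.postcomp E.val.toLinearMap (corestrictMul F E hE).law = F.law :=
  postcomp_corestrict F.law (Subalgebra.toSubmodule E) hE

end Alg

end ZCLib
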