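import Groth.Agent.ZCLib.DetGen
import Groth.Agent.ZCLib.Law
import Groth.Agent.ZCLib.Mul
import Mathlib.RingTheory.Polynomial.IsIntegral
import Mathlib.RingTheory.TensorProduct.MvPolynomial
import Mathlib.LinearAlgebra.Matrix.Charpoly.LinearMap
import Mathlib.RingTheory.Localization.FractionRing
import Mathlib.RingTheory.IntegralClosure.IntegrallyClosed

/-! The determinant law over a normal domain. -/

noncomputable section

open TensorProduct

namespace ZCLib

universe u

variable {A : Type u} [CommRing A] [IsDomain A] {B : Type u} [CommRing B] [Algebra A B]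
  {M : Type u} [AddCommGroup M] [Module A M] [Module B M] [IsScalarTower A B M]
  {d : ℕ} (v : Module.Basis (Fin d) (FractionRing A) (FractionRing A ⊗[A] M))

section Bas

variable (R : Type u) [CommRing R] [Algebra A R] [Algebra (FractionRing A) R]
  [IsScalarTower A (FractionRing A) R]

/-- The basis induced over an algebra over the fraction field. -/
def fracBasis : Module.Basis (Fin d) R (R ⊗[A] M) :=
  (Algebra.TensorProduct.basis R v).map
    (TensorProduct.AlgebraTensorModule.cancelBaseChange A (FractionRing A) R R M)

variable {R} {R' : Type u} [CommRing R'] [Algebra A R'] [Algebra (FractionRing A) R']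
  [IsScalarTower A (FractionRing A) R']

lemma rTensor_fracBasis (ψ : R →ₐ[FractionRing A] R') (i : Fin d) :
    fracBasis v R' i = (ψ.restrictScalars A).toLinearMap.rTensor M (fracBasis v R i) := by
  simp only [fracBasis, Module.Basis.map_apply, Algebra.TensorProduct.basis_apply]
  generalize v i = z
  induction z with
  | zero => simp
  | tmul k m => simp [← Algebra.algebraMap_eq_smul_one]
  | add a b ha hb => simp only [TensorProduct.tmul_add, map_add, ha, hb]

lemma repr_fracBasis (ψ : R →ₐ[FractionRing A] R') (z : R ⊗[A] M) (i : Fin d) :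
    (fracBasis v R').repr ((ψ.restrictScalars A).toLinearMap.rTensor M z) i =
      ψ ((fracBasis v R).repr z i) := by
  induction z with
  | zero => simp
  | add a b ha hb => simp only [map_add, Finsupp.add_apply, ha, hb]
  | tmul r m =>
    have h : ∀ (T : Type u) [CommRing T] [Algebra A T] [Algebra (FractionRing A) T]
        [IsScalarTower A (FractionRing A) T] (t : T), (fracBasis v T).repr (t ⊗ₜ[A] m) i =
          t * algebraMap (FractionRing A) T (v.repr (1 ⊗ₜ[A] m) i) := by
      intro T _ _ _ _ t
      rw [show t ⊗ₜ[A] m = TensorProduct.AlgebraTensorModule.cancelBaseChange A (FractionRing A) T T M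
          (t ⊗ₜ[FractionRing A] ((1 : FractionRing A) ⊗ₜ[A] m)) by simp,
        fracBasis, Module.Basis.map_repr, LinearEquiv.trans_apply, LinearEquiv.symm_apply_apply,
        Algebra.TensorProduct.basis_repr_tmul]
      simp [Algebra.smul_def]
    rw [LinearMap.rTensor_tmul, AlgHom.toLinearMap_apply, h, h, AlgHom.restrictScalars_apply, map_mul,
      AlgHom.commutes]

include v in
lemma detAct_frac_map (ψ : R →ₐ[FractionRing A] R') (x : R ⊗[A] B) :
    PolLaw.detAct M R' (Algebra.TensorProduct.map (ψ.restrictScalars A) (AlgHom.id A B) x) =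
      ψ (PolLaw.detAct M R x) := by
  classical
  exact detAct_map_of_basis M (fracBasis v R) (fracBasis v R') (ψ.restrictScalars A)
    (rTensor_fracBasis v ψ) (repr_fracBasis v ψ) x

end Bas

/-- The determinant over the fraction field, on a test ring. -/
def fracVal (M : Type u) [AddCommGroup M] [Module A M] [Module B M] [IsScalarTower A B M]
    (S : Type u) [CommRing S] [Algebra A S] (x : S ⊗[A] B) : FractionRing A ⊗[A] S :=
  PolLaw.detAct M (FractionRing A ⊗[A] S)
    (Algebra.TensorProduct.map (Algebra.TensorProduct.includeRight : S →ₐ[A] FractionRing A ⊗[A] S)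
      (AlgHom.id A B) x)

include v in
lemma fracVal_map (S S' : Type u) [CommRing S] [Algebra A S] [CommRing S'] [Algebra A S']
    (φ : S →ₐ[A] S') (x : S ⊗[A] B) :
    fracVal M S' (Algebra.TensorProduct.map φ (AlgHom.id A B) x) =
      Algebra.TensorProduct.map (AlgHom.id A (FractionRing A)) φ (fracVal M S x) := by
  let ψ : FractionRing A ⊗[A] S →ₐ[FractionRing A] FractionRing A ⊗[A] S' :=
    Algebra.TensorProduct.map (AlgHom.id (FractionRing A) (FractionRing A)) φ
  refine Eq.trans ?_ (detAct_frac_map v ψ _)
  rw [fracVal, ← AlgHom.comp_apply, ← AlgHom.comp_apply, ← Algebra.TensorProduct.map_comp,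
    ← Algebra.TensorProduct.map_comp]
  congr 3

/-- The determinant law with values in the fraction field. -/
def fracLaw : PolLaw.MulLaw A B (FractionRing A) d where
  law :=
  { toFun' := fun S _ _ x =>
      letI : CommRing S := (algebraMap A S).commSemiringToCommRing
      Algebra.TensorProduct.comm A (FractionRing A) S (fracVal M S x)
    isCompat' := fun {S} _ _ {S'} _ _ φ => by
      letI : CommRing S := (algebraMap A S).commSemiringToCommRing
      letI : CommRing S' := (algebraMap A S').commSemiringToCommRing
      funext x
      show φ.toLinearMap.rTensor (FractionRing A)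
          (Algebra.TensorProduct.comm A (FractionRing A) S (fracVal M S x)) =
        Algebra.TensorProduct.comm A (FractionRing A) S' (fracVal M S' (φ.toLinearMap.rTensor B x))
      rw [PolLaw.rTensor_algHom_apply φ x, fracVal_map v]
      generalize fracVal M S x = z
      induction z with
      | zero => simp
      | tmul k s => simp
      | add a b ha hb => simp only [map_add, ha, hb] }
  homog S _ _ s x := by
    letI : CommRing S := (algebraMap A S).commSemiringToCommRing
    show Algebra.TensorProduct.comm A (FractionRing A) S (fracVal M S (s • x)) =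
      s ^ d • Algebra.TensorProduct.comm A (FractionRing A) S (fracVal M S x)
    have h : fracVal M S (s • x) = ((1 : FractionRing A) ⊗ₜ[A] s) ^ d * fracVal M S x := by
      classical
      rw [fracVal, show Algebra.TensorProduct.map
          (Algebra.TensorProduct.includeRight : S →ₐ[A] FractionRing A ⊗[A] S) (AlgHom.id A B) (s • x) =
          ((1 : FractionRing A) ⊗ₜ[A] s) • Algebra.TensorProduct.map
            (Algebra.TensorProduct.includeRight : S →ₐ[A] FractionRing A ⊗[A] S) (AlgHom.id A B) x from ?_,
        detAct_smul_of_basis M (fracBasis v _), Fintype.card_fin]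
      · rfl
      · induction x with
        | zero => simp
        | tmul t b => simp [TensorProduct.smul_tmul', Algebra.TensorProduct.tmul_mul_tmul]
        | add u w hu hw => simp only [smul_add, map_add, hu, hw]
    rw [h, map_mul, map_pow, Algebra.TensorProduct.comm_tmul, Algebra.smul_def,
      Algebra.TensorProduct.algebraMap_apply, Algebra.algebraMap_self, RingHom.id_apply,
      Algebra.TensorProduct.tmul_pow, one_pow]
  mult S _ _ := by
    letI : CommRing S := (algebraMap A S).commSemiringToCommRing
    refine ⟨?_, fun x y => ?_⟩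
    · show Algebra.TensorProduct.comm A (FractionRing A) S (fracVal M S 1) = 1
      rw [fracVal, map_one, PolLaw.detAct_one, map_one]
    · show Algebra.TensorProduct.comm A (FractionRing A) S (fracVal M S (x * y)) =
        Algebra.TensorProduct.comm A (FractionRing A) S (fracVal M S x) *
          Algebra.TensorProduct.comm A (FractionRing A) S (fracVal M S y)
      rw [fracVal, map_mul, PolLaw.detAct_mul, map_mul]
      rfl

lemma toFun'_fracLaw (S : Type u) [CommRing S] [Algebra A S] (x : S ⊗[A] B) :
    (fracLaw (B := B) v).law.toFun' S x =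
      Algebra.TensorProduct.comm A (FractionRing A) S (fracVal M S x) := by
  have key := @fracVal_map A _ _ B _ _ M _ _ _ _ d v S S
    ((algebraMap A S).commSemiringToCommRing) _ _ _ (AlgHom.id A S) x
  rw [Algebra.TensorProduct.map_id, Algebra.TensorProduct.map_id] at key
  exact congrArg (Algebra.TensorProduct.comm A (FractionRing A) S) key.symm

lemma polEquiv_comm {κ : Type u} (z : FractionRing A ⊗[A] MvPolynomial κ A) (α : κ →₀ ℕ) :
    polEquiv A κ (FractionRing A) (Algebra.TensorProduct.comm A (FractionRing A) (MvPolynomial κ A) z) α =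
      MvPolynomial.coeff α (MvPolynomial.algebraTensorAlgEquiv A (FractionRing A) z) := by
  induction z with
  | zero => simp
  | tmul k p =>
    rw [Algebra.TensorProduct.comm_tmul, polEquiv_tmul, MvPolynomial.algebraTensorAlgEquiv_tmul,
      MvPolynomial.coeff_smul, MvPolynomial.coeff_map, smul_eq_mul, Algebra.smul_def, mul_comm]
  | add a b ha hb => simp only [map_add, Finsupp.add_apply, MvPolynomial.coeff_add, ha, hb]

omit [IsDomain A] in
lemma isIntegral_detAct_of_hom [Module.Finite A M] {O R : Type u} [CommRing O] [Algebra A O]
    [CommRing R] [IsDomain R] [Algebra A R] [Algebra O R] (ι : O →ₐ[A] R)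
    (hι : ∀ a, algebraMap O R a = ι a) {n : ℕ} (b : Module.Basis (Fin n) R (R ⊗[A] M))
    (y : O ⊗[A] B) :
    IsIntegral O (PolLaw.detAct M R (Algebra.TensorProduct.map ι (AlgHom.id A B) y)) := by
  classical
  let f₀ : Module.End O (O ⊗[A] M) := PolLaw.actEnd M O y
  let f : Module.End R (R ⊗[A] M) := PolLaw.actEnd M R (Algebra.TensorProduct.map ι (AlgHom.id A B) y)
  obtain ⟨q, hq, hq0⟩ := LinearMap.exists_monic_and_aeval_eq_zero O f₀
  have hnat : ∀ (p : Polynomial O) (z : O ⊗[A] M),
      ι.toLinearMap.rTensor M (Polynomial.aeval f₀ p z) =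
        Polynomial.aeval f (p.map (algebraMap O R)) (ι.toLinearMap.rTensor M z) := by
    intro p
    induction p using Polynomial.induction_on' with
    | add p p' hp hp' => intro z; simp only [map_add, Polynomial.map_add, LinearMap.add_apply, hp, hp']
    | monomial n a =>
      intro z
      rw [Polynomial.map_monomial, Polynomial.aeval_monomial, Polynomial.aeval_monomial,
        Module.End.mul_apply, Module.End.mul_apply, Module.algebraMap_end_apply,
        Module.algebraMap_end_apply]
      have hs : ∀ w : O ⊗[A] M, ι.toLinearMap.rTensor M (a • w) =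
          algebraMap O R a • ι.toLinearMap.rTensor M w := fun w => by
        rw [hι a]
        induction w with
        | zero => simp
        | tmul t m => simp [TensorProduct.smul_tmul']
        | add u w hu hw => simp only [smul_add, map_add, hu, hw]
      rw [hs]
      congr 1
      induction n generalizing z with
      | zero => simp
      | succ n ih =>
        rw [pow_succ, Module.End.mul_apply, pow_succ, Module.End.mul_apply, ih,
          PolLaw.rTensor_actEnd M ι]
  have hf : Polynomial.aeval f (q.map (algebraMap O R)) = 0 := by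
    have hgen : ∀ m : M, Polynomial.aeval f (q.map (algebraMap O R)) ((1 : R) ⊗ₜ[A] m) = 0 := fun m => by
      have h := hnat q ((1 : O) ⊗ₜ[A] m)
      rw [hq0, LinearMap.zero_apply, map_zero, LinearMap.rTensor_tmul, AlgHom.toLinearMap_apply,
        map_one] at h
      exact h.symm
    refine LinearMap.ext fun z => ?_
    induction z with
    | zero => simp
    | tmul r m =>
      rw [show r ⊗ₜ[A] m = r • ((1 : R) ⊗ₜ[A] m) by simp [TensorProduct.smul_tmul'], map_smul, hgen,
        smul_zero, LinearMap.zero_apply]
    | add u w hu hw => simp only [map_add, hu, hw]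
  exact isIntegral_det_end b f hq hf

attribute [local instance] MvPolynomial.algebraMvPolynomial

include v in
lemma isIntegral_detAct [Module.Finite A M] {κ : Type u} (y : MvPolynomial κ A ⊗[A] B) :
    IsIntegral (MvPolynomial κ A) (MvPolynomial.algebraTensorAlgEquiv A (FractionRing A)
      (fracVal M (MvPolynomial κ A) y)) := by
  classical
  let O := MvPolynomial κ A
  let R := MvPolynomial κ (FractionRing A)
  let ψ : FractionRing A ⊗[A] O →ₐ[FractionRing A] R :=
    (MvPolynomial.algebraTensorAlgEquiv A (FractionRing A)).toAlgHom
  let ι : O →ₐ[A] R := (ψ.restrictScalars A).comp Algebra.TensorProduct.includeRight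
  have hι : ι.toRingHom = algebraMap O R := RingHom.ext fun p => by
    show MvPolynomial.algebraTensorAlgEquiv A (FractionRing A) ((1 : FractionRing A) ⊗ₜ[A] p) = _
    rw [MvPolynomial.algebraTensorAlgEquiv_tmul, one_smul]
    rfl
  have hψ : ψ (fracVal M O y) = PolLaw.detAct M R (Algebra.TensorProduct.map ι (AlgHom.id A B) y) := by
    rw [fracVal, ← detAct_frac_map v ψ, ← AlgHom.comp_apply, ← Algebra.TensorProduct.map_comp]
    rfl
  rw [show MvPolynomial.algebraTensorAlgEquiv A (FractionRing A) (fracVal M O y) =
    PolLaw.detAct M R (Algebra.TensorProduct.map ι (AlgHom.id A B) y) from hψ]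
  exact isIntegral_detAct_of_hom ι (fun a => (RingHom.congr_fun hι a).symm) (fracBasis v R) y

lemma coeffs_fracLaw_mem [IsIntegrallyClosed A] [Module.Finite A M] (κ : Type u) [Fintype κ]
    (w : κ → B) (α : κ →₀ ℕ) :
    coeffs (fracLaw (B := B) v).law w α ∈ (⊥ : Subalgebra A (FractionRing A)) := by
  rw [coeffs, toFun'_fracLaw, polEquiv_comm]
  obtain ⟨a, ha⟩ := IsIntegrallyClosed.isIntegral_iff.1
    (MvPolynomial.isIntegral_iff_isIntegral_coeff.1 (isIntegral_detAct v (gen w)) α)
  exact Algebra.mem_bot.2 ⟨a, ha⟩

include v in
lemma existsUnique_detLaw_normal [IsIntegrallyClosed A] [Module.Finite A M] :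
    ∃! N : PolLaw.MulLaw A B A d, ∀ (n : ℕ) (x : MvPolynomial (Fin n) A ⊗[A] B),
      algebraMap (MvPolynomial (Fin n) A) (FractionRing (MvPolynomial (Fin n) A))
          (TensorProduct.rid A (MvPolynomial (Fin n) A) (N.law.toFun' (MvPolynomial (Fin n) A) x)) =
        LinearMap.det (PolLaw.actEnd M (FractionRing (MvPolynomial (Fin n) A))
          (Algebra.TensorProduct.map
            (IsScalarTower.toAlgHom A (MvPolynomial (Fin n) A) (FractionRing (MvPolynomial (Fin n) A)))
            (AlgHom.id A B) x)) := by
  let e := Algebra.botEquivOfInjective (R := A) (A := FractionRing A) (IsFractionRing.injective A _)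
  let N : PolLaw.MulLaw A B A d :=
    (corestrictMul (fracLaw (B := B) v) ⊥ (coeffs_fracLaw_mem v)).postcomp e.toAlgHom
  have hN : PolLaw.postcomp (Algebra.ofId A (FractionRing A)).toLinearMap N.law = (fracLaw (B := B) v).law := by
    have h : (Algebra.ofId A (FractionRing A)).comp e.toAlgHom =
        (⊥ : Subalgebra A (FractionRing A)).val := AlgHom.ext fun z => by
      obtain ⟨a, rfl⟩ := e.symm.surjective z
      simp [e]
      exact (congrArg Subtype.val (e.symm.commutes a)).symm
    show PolLaw.postcomp _ (PolLaw.postcomp _ _) = _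
    rw [postcomp_postcomp, ← AlgHom.comp_toLinearMap, h, postcomp_corestrictMul]
  have hspec : ∀ (n : ℕ) (x : MvPolynomial (Fin n) A ⊗[A] B),
      algebraMap (MvPolynomial (Fin n) A) (FractionRing (MvPolynomial (Fin n) A))
          (TensorProduct.rid A (MvPolynomial (Fin n) A) (N.law.toFun' (MvPolynomial (Fin n) A) x)) =
        LinearMap.det (PolLaw.actEnd M (FractionRing (MvPolynomial (Fin n) A))
          (Algebra.TensorProduct.map
            (IsScalarTower.toAlgHom A (MvPolynomial (Fin n) A) (FractionRing (MvPolynomial (Fin n) A)))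
            (AlgHom.id A B) x)) := by
    intro n x
    let O := MvPolynomial (Fin n) A
    let FA := FractionRing (MvPolynomial (Fin n) A)
    let toFA : MvPolynomial (Fin n) A →ₐ[A] FA := IsScalarTower.toAlgHom A _ _
    have hinjA : Function.Injective (algebraMap A FA) := by
      rw [IsScalarTower.algebraMap_eq A (MvPolynomial (Fin n) A) FA]
      exact (IsFractionRing.injective (MvPolynomial (Fin n) A) FA).comp (MvPolynomial.C_injective (Fin n) A)
    let φ : FractionRing A →ₐ[A] FA := IsFractionRing.liftAlgHom (g := Algebra.ofId A FA) hinjA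
    letI : Algebra (FractionRing A) FA := φ.toRingHom.toAlgebra
    haveI : IsScalarTower A (FractionRing A) FA := IsScalarTower.of_algebraMap_eq fun a =>
      (φ.commutes a).symm
    let ψ : FractionRing A ⊗[A] MvPolynomial (Fin n) A →ₐ[FractionRing A] FA :=
      Algebra.TensorProduct.lift (Algebra.ofId _ FA) toFA fun _ _ => Commute.all _ _
    have h0 : fracVal M (MvPolynomial (Fin n) A) x = (1 : FractionRing A) ⊗ₜ[A]
        TensorProduct.rid A (MvPolynomial (Fin n) A) (N.law.toFun' (MvPolynomial (Fin n) A) x) := by
      apply (Algebra.TensorProduct.comm A (FractionRing A) (MvPolynomial (Fin n) A)).injective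
      rw [← toFun'_fracLaw v, ← hN, Algebra.TensorProduct.comm_tmul]
      show (Algebra.ofId A (FractionRing A)).toLinearMap.lTensor _ (N.law.toFun' _ x) = _
      generalize N.law.toFun' (MvPolynomial (Fin n) A) x = z
      induction z with
      | zero => simp
      | tmul p a =>
        simp [Algebra.ofId_apply, Algebra.algebraMap_eq_smul_one, TensorProduct.smul_tmul]
      | add u w hu hw => simp only [map_add, TensorProduct.add_tmul, hu, hw]
    have h1 := detAct_frac_map v ψ
      (Algebra.TensorProduct.map (Algebra.TensorProduct.includeRight :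
        MvPolynomial (Fin n) A →ₐ[A] FractionRing A ⊗[A] MvPolynomial (Fin n) A) (AlgHom.id A B) x)
    rw [← AlgHom.comp_apply, ← Algebra.TensorProduct.map_comp, AlgHom.id_comp,
      show (ψ.restrictScalars A).comp Algebra.TensorProduct.includeRight = toFA from
        AlgHom.ext fun p => by simp [ψ]] at h1
    refine Eq.trans ?_ h1.symm
    show _ = ψ (fracVal M (MvPolynomial (Fin n) A) x)
    rw [h0]
    simp [ψ, toFA]
    rfl
  refine ⟨N, hspec, fun N' hN' => PolLaw.MulLaw.ext (law_ext_fin fun n y => ?_)⟩
  apply (TensorProduct.rid A (MvPolynomial (Fin n) A)).injective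
  apply IsFractionRing.injective (MvPolynomial (Fin n) A) (FractionRing (MvPolynomial (Fin n) A))
  rw [hN' n y, hspec n y]

end ZCLib
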