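import Groth.Agent.ZCLib.DetGen
import Mathlib.RingTheory.Finiteness.Projective
import Mathlib.RingTheory.Spectrum.Prime.FreeLocus
import Mathlib.LinearAlgebra.Matrix.SchurComplement
import Mathlib.RingTheory.LocalProperties.Basic
import Mathlib.RingTheory.LocalRing.Module

/-! The determinant law of a projective module. -/

noncomputable section

open TensorProduct

namespace ZCLib

universe u

variable {A : Type u} [CommRing A] {B : Type u} [CommRing B] [Algebra A B]
  {M : Type u} [AddCommGroup M] [Module A M] [Module B M] [IsScalarTower A B M]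
  {m : ℕ} (p : (Fin m → A) →ₗ[A] M) (i : M →ₗ[A] (Fin m → A))

/-- The action extended by the identity on a complement. -/
def extEnd (R : Type u) [CommRing R] [Algebra A R] (x : R ⊗[A] B) :
    Module.End R (R ⊗[A] (Fin m → A)) :=
  1 + i.baseChange R ∘ₗ (PolLaw.actEnd M R x - 1) ∘ₗ p.baseChange R

/-- The determinant of the extended action. -/
def extDet (R : Type u) [CommRing R] [Algebra A R] (x : R ⊗[A] B) : R :=
  LinearMap.det (extEnd p i R x)

lemma extDet_one (R : Type u) [CommRing R] [Algebra A R] :
    extDet p i R (1 : R ⊗[A] B) = 1 := by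
  have h : extEnd p i R (1 : R ⊗[A] B) = 1 := LinearMap.ext fun z => by simp [extEnd]
  rw [extDet, h, map_one]

section

variable (hpi : p ∘ₗ i = LinearMap.id)
include hpi

lemma extDet_mul (R : Type u) [CommRing R] [Algebra A R] (x y : R ⊗[A] B) :
    extDet p i R (x * y) = extDet p i R x * extDet p i R y := by
  rw [extDet, extDet, extDet, ← map_mul]
  congr 1
  have h : ∀ z, p.baseChange R (i.baseChange R z) = z := fun z => by
    rw [← LinearMap.comp_apply, ← LinearMap.baseChange_comp, hpi, LinearMap.baseChange_id,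
      LinearMap.id_apply]
  refine LinearMap.ext fun z => ?_
  simp only [extEnd, map_mul, LinearMap.add_apply, Module.End.one_apply, LinearMap.comp_apply,
    LinearMap.sub_apply, Module.End.mul_apply, map_sub, map_add, h]
  abel

omit hpi in
lemma extEnd_natural {R R' : Type u} [CommRing R] [Algebra A R] [CommRing R'] [Algebra A R']
    (ψ : R →ₐ[A] R') (x : R ⊗[A] B) (z : R ⊗[A] (Fin m → A)) :
    ψ.toLinearMap.rTensor (Fin m → A) (extEnd p i R x z) =
      extEnd p i R' (Algebra.TensorProduct.map ψ (AlgHom.id A B) x)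
        (ψ.toLinearMap.rTensor (Fin m → A) z) := by
  have hn : ∀ {P Q : Type u} [AddCommGroup P] [Module A P] [AddCommGroup Q] [Module A Q]
      (f : P →ₗ[A] Q) (w : R ⊗[A] P),
      ψ.toLinearMap.rTensor Q (f.baseChange R w) = f.baseChange R' (ψ.toLinearMap.rTensor P w) := by
    intro P Q _ _ _ _ f w
    induction w with
    | zero => simp
    | tmul r q => simp
    | add a b ha hb => simp only [map_add, ha, hb]
  simp only [extEnd, LinearMap.add_apply, Module.End.one_apply, LinearMap.comp_apply,
    LinearMap.sub_apply, map_add, map_sub, hn, PolLaw.rTensor_actEnd M ψ]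

omit hpi in
lemma extDet_map (R R' : Type u) [CommRing R] [Algebra A R] [CommRing R'] [Algebra A R']
    (ψ : R →ₐ[A] R') (x : R ⊗[A] B) :
    extDet p i R' (Algebra.TensorProduct.map ψ (AlgHom.id A B) x) = ψ (extDet p i R x) := by
  classical
  let b := Algebra.TensorProduct.basis R (Pi.basisFun A (Fin m))
  let b' := Algebra.TensorProduct.basis R' (Pi.basisFun A (Fin m))
  have hr : ∀ z k, b'.repr (ψ.toLinearMap.rTensor (Fin m → A) z) k = ψ (b.repr z k) := fun z k => by
    induction z with
    | zero => simp
    | tmul r q => simp [b, b', Algebra.TensorProduct.basis_repr_tmul]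
    | add u w hu hw => simp only [map_add, Finsupp.add_apply, hu, hw]
  unfold extDet
  rw [← LinearMap.det_toMatrix b', ← LinearMap.det_toMatrix b, AlgHom.map_det]
  congr 1
  ext k l
  simp only [AlgHom.mapMatrix_apply, Matrix.map_apply, LinearMap.toMatrix_apply]
  rw [← hr, extEnd_natural p i ψ]
  simp [b, b', Algebra.TensorProduct.basis_apply]

lemma extDet_eq_detAct (R : Type u) [CommRing R] [Algebra A R] [Module.Free R (R ⊗[A] M)]
    [Module.Finite R (R ⊗[A] M)] (x : R ⊗[A] B) :
    extDet p i R x = PolLaw.detAct M R x := by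
  classical
  let b := Algebra.TensorProduct.basis R (Pi.basisFun A (Fin m))
  let c := Module.Free.chooseBasis R (R ⊗[A] M)
  have h : p.baseChange R ∘ₗ i.baseChange R = LinearMap.id := by
    rw [← LinearMap.baseChange_comp, hpi, LinearMap.baseChange_id]
  unfold extDet PolLaw.detAct extEnd
  rw [← LinearMap.det_toMatrix b, ← LinearMap.det_toMatrix c, map_add, LinearMap.toMatrix_one,
    LinearMap.toMatrix_comp b c b, Matrix.det_one_add_mul_comm, ← LinearMap.toMatrix_comp c b c,
    LinearMap.comp_assoc, h, LinearMap.comp_id, ← LinearMap.toMatrix_one c, ← map_add]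
  congr 2
  refine LinearMap.ext fun z => ?_
  simp

end

/-- The determinant law. -/
def extLaw : B →ₚₗ[A] A :=
  lawOfVal (fun R _ _ => extDet p i R) fun R R' _ _ _ _ ψ x => extDet_map p i R R' ψ x

lemma extLaw_isMult (hpi : p ∘ₗ i = LinearMap.id) : PolLaw.IsMult (extLaw p i (B := B) (M := M)) :=
  isMult_lawOfVal _ _ (fun R _ _ => extDet_one p i R) fun R _ _ => extDet_mul p i hpi R

lemma free_of_isLocalRing [Module.Finite A M] [Module.Projective A M] (S : Type u) [CommRing S]
    [IsLocalRing S] [Algebra A S] : Module.Free S (S ⊗[A] M) :=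
  Module.free_of_flat_of_isLocalRing

lemma extLaw_local (hpi : p ∘ₗ i = LinearMap.id) [Module.Finite A M] [Module.Projective A M]
    (S : Type u) [CommRing S] [IsLocalRing S] [Algebra A S] (x : S ⊗[A] B) :
    (extLaw p i (B := B) (M := M)).toFun' S x = PolLaw.detAct M S x ⊗ₜ[A] (1 : A) := by
  haveI := free_of_isLocalRing (A := A) (M := M) S
  rw [extLaw, lawOfVal_toFun', extDet_eq_detAct p i hpi]

omit [Module B M] [IsScalarTower A B M] in
/-- Elements of a test ring are detected at its maximal ideals. -/
lemma law_ext_local {F G : B →ₚₗ[A] A}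
    (h : ∀ (S : Type u) [CommRing S] [IsLocalRing S] [Algebra A S] (x : S ⊗[A] B),
      F.toFun' S x = G.toFun' S x) : F = G := by
  refine law_ext_fin fun n y => ?_
  apply (TensorProduct.rid A (MvPolynomial (Fin n) A)).injective
  rw [← sub_eq_zero]
  refine Module.eq_zero_of_localization_maximal (R := MvPolynomial (Fin n) A)
    (fun P _ => Localization.AtPrime P) (fun P _ => Algebra.linearMap _ _) _ fun P _ => ?_
  let ψ : MvPolynomial (Fin n) A →ₐ[A] Localization.AtPrime P := IsScalarTower.toAlgHom A _ _
  show ψ (_ - _) = 0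
  rw [map_sub, sub_eq_zero]
  have key : ∀ H : B →ₚₗ[A] A,
      ψ (TensorProduct.rid A (MvPolynomial (Fin n) A) (H.toFun' (MvPolynomial (Fin n) A) y)) =
        TensorProduct.rid A (Localization.AtPrime P)
          (H.toFun' (Localization.AtPrime P) (ψ.toLinearMap.rTensor B y)) := fun H => by
    have hc : ψ.toLinearMap.rTensor A (H.toFun' (MvPolynomial (Fin n) A) y) =
        H.toFun' (Localization.AtPrime P) (ψ.toLinearMap.rTensor B y) := congrFun (H.isCompat' ψ) y
    rw [← hc]
    generalize H.toFun' (MvPolynomial (Fin n) A) y = z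
    induction z with
    | zero => simp
    | tmul r a => simp [map_smul]
    | add u w hu hw => simp only [map_add, hu, hw]
  rw [key, key, h]

lemma existsUnique_detLaw [Module.Finite A M] [Module.Projective A M] :
    ∃! N : B →ₚₗ[A] A, PolLaw.IsMult N ∧ ∀ (S : Type u) [CommRing S] [IsLocalRing S] [Algebra A S]
      (x : S ⊗[A] B), N.toFun' S x = PolLaw.detAct M S x ⊗ₜ[A] (1 : A) := by
  obtain ⟨m, p, i, -, -, hpi⟩ := Module.Finite.exists_comp_eq_id_of_projective A M
  refine ⟨extLaw p i, ⟨extLaw_isMult p i hpi, fun S _ _ _ x => extLaw_local p i hpi S x⟩, ?_⟩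
  rintro N ⟨-, hN⟩
  exact law_ext_local fun S _ _ _ x => by rw [hN, extLaw_local p i hpi]

lemma existsUnique_detLaw_mul [Module.Finite A M] [Module.Projective A M] (d : ℕ)
    (hd : ∀ p : PrimeSpectrum A, Module.rankAtStalk M p = d) :
    ∃! N : PolLaw.MulLaw A B A d, ∀ (S : Type u) [CommRing S] [IsLocalRing S] [Algebra A S]
      (x : S ⊗[A] B), N.law.toFun' S x = PolLaw.detAct M S x ⊗ₜ[A] (1 : A) := by
  classical
  obtain ⟨m, p, i, -, -, hpi⟩ := Module.Finite.exists_comp_eq_id_of_projective A M
  have hsmul : ∀ (R : Type u) [CommRing R] [Algebra A R] (r : R) (x : R ⊗[A] B),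
      extDet p i R (r • x) = r ^ d * extDet p i R x := by
    intro R _ _ r x
    rw [← sub_eq_zero]
    refine Module.eq_zero_of_localization_maximal (R := R)
      (fun P _ => Localization.AtPrime P) (fun P _ => Algebra.linearMap _ _) _ fun P _ => ?_
    let ψ : R →ₐ[A] Localization.AtPrime P := IsScalarTower.toAlgHom A _ _
    haveI := free_of_isLocalRing (A := A) (M := M) (Localization.AtPrime P)
    show ψ (_ - _) = 0
    have hs : Algebra.TensorProduct.map ψ (AlgHom.id A B) (r • x) =
        ψ r • Algebra.TensorProduct.map ψ (AlgHom.id A B) x := by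
      induction x with
      | zero => simp
      | tmul s b => simp [TensorProduct.smul_tmul']
      | add u w hu hw => simp only [smul_add, map_add, hu, hw]
    rw [map_sub, map_mul, map_pow, sub_eq_zero, ← extDet_map p i, ← extDet_map p i, hs,
      extDet_eq_detAct p i hpi, extDet_eq_detAct p i hpi,
      detAct_smul_of_basis M (Module.Free.chooseBasis _ _)]
    congr 2
    rw [← Module.finrank_eq_card_chooseBasisIndex]
    have hq : PrimeSpectrum (Localization.AtPrime P) := IsLocalRing.closedPoint _
    have hh := congrFun (Module.rankAtStalk_eq_finrank_of_free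
      (R := Localization.AtPrime P) (M := Localization.AtPrime P ⊗[A] M)) hq
    rw [Module.rankAtStalk_baseChange, hd] at hh
    simpa using hh.symm
  refine ⟨⟨extLaw p i, isHomog_lawOfVal _ _ hsmul, extLaw_isMult p i hpi⟩,
    fun S _ _ _ x => extLaw_local p i hpi S x, ?_⟩
  intro N hN
  exact PolLaw.MulLaw.ext (law_ext_local fun S _ _ _ x => by rw [hN, extLaw_local p i hpi])

end ZCLib
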