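import Groth.Agent.ZCLib.TS

/-! Diagonal tensors span the symmetric tensors when `d!` is invertible. -/

noncomputable section

open TensorProduct PiTensorProduct

namespace ZCLib

universe u

variable {A : Type u} [CommRing A] {M : Type u} [AddCommGroup M] [Module A M] {d : ℕ}

/-- The sum over the permutations as an alternating sum of diagonal tensors. -/
lemma symmSum_tprod_eq (m : Fin d → M) :
    symmSum A d M (tprod A m) = ∑ I : Finset (Fin d),
      (-1 : ℤ) ^ Iᶜ.card • tprod A (fun _ : Fin d => ∑ i ∈ I, m i) := by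
  classical
  have hexp : ∀ I : Finset (Fin d), tprod A (fun _ : Fin d => ∑ i ∈ I, m i) =
      ∑ c : Fin d → Fin d, if (∀ i, c i ∈ I) then tprod A (fun i => m (c i)) else 0 := by
    intro I
    rw [MultilinearMap.map_sum_finset, ← Finset.sum_filter]
    refine Finset.sum_congr ?_ fun _ _ => rfl
    ext c
    simp [Fintype.mem_piFinset]
  have hsign : ∀ c : Fin d → Fin d,
      (∑ I : Finset (Fin d), if (∀ i, c i ∈ I) then (-1 : ℤ) ^ Iᶜ.card else 0) =
        if Function.Surjective c then 1 else 0 := by
    intro c
    rw [← Finset.sum_filter]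
    rw [Finset.sum_nbij' (t := ((Finset.univ.image c)ᶜ).powerset) (g := fun J => (-1 : ℤ) ^ J.card)
      (fun I => Iᶜ) (fun J => Jᶜ) ?_ ?_ (fun I _ => compl_compl I) (fun J _ => compl_compl J)
      (fun I _ => rfl)]
    · rw [Finset.sum_powerset_neg_one_pow_card]
      refine if_congr ?_ rfl rfl
      rw [Finset.compl_eq_empty_iff, Finset.eq_univ_iff_forall]
      simp [Function.Surjective]
    · intro I hI
      simp only [Finset.mem_coe, Finset.mem_filter] at hI
      simp only [Finset.mem_coe, Finset.mem_powerset]
      intro x hx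
      simp only [Finset.mem_compl, Finset.mem_image, Finset.mem_univ, true_and] at hx ⊢
      rintro ⟨i, rfl⟩
      exact hx (hI.2 i)
    · intro J hJ
      simp only [Finset.mem_coe, Finset.mem_powerset] at hJ
      simp only [Finset.mem_coe, Finset.mem_filter, Finset.mem_univ, true_and, Finset.mem_compl]
      intro i hi
      exact Finset.mem_compl.1 (hJ hi) (Finset.mem_image_of_mem c (Finset.mem_univ i))
  calc symmSum A d M (tprod A m)
      = ∑ σ : Equiv.Perm (Fin d), tprod A (fun i => m (σ.symm i)) := by
        simp [symmSum, PiTensorProduct.reindex_tprod]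
    _ = ∑ c : Fin d → Fin d,
          (if Function.Surjective c then (1 : ℤ) else 0) • tprod A (fun i => m (c i)) := by
        simp only [ite_smul, one_smul, zero_smul]
        rw [← Finset.sum_filter]
        refine Finset.sum_bij (fun σ _ => ⇑σ.symm) (fun σ _ => by simp [σ.symm.surjective])
          (fun σ _ τ _ h => Equiv.symm_bijective.injective (DFunLike.coe_injective h))
          (fun c hc => ?_) (fun _ _ => rfl)
        have hbij : Function.Bijective c :=
          ⟨Finite.injective_iff_surjective.2 (Finset.mem_filter.1 hc).2, (Finset.mem_filter.1 hc).2⟩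
        exact ⟨(Equiv.ofBijective c hbij).symm, Finset.mem_univ _, rfl⟩
    _ = _ := by
        simp only [← hsign, Finset.sum_smul]
        rw [Finset.sum_comm]
        refine Finset.sum_congr rfl fun I _ => ?_
        rw [hexp, ← zsmulAddGroupHom_apply, map_sum]
        simp only [zsmulAddGroupHom_apply]
        refine Finset.sum_congr rfl fun c _ => ?_
        split_ifs
        · rfl
        · rw [zero_smul]
          exact (map_zero (zsmulAddGroupHom ((-1 : ℤ) ^ Iᶜ.card) : (⨂[A] _ : Fin d, M) →+ _)).symm

lemma symSub_le_span_diag (hu : IsUnit ((d.factorial : ℕ) : A)) :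
    symSub A d M ≤ Submodule.span A (Set.range fun m : M => tprod A fun _ : Fin d => m) := by
  classical
  intro t ht
  obtain ⟨u, hu⟩ := hu
  have h : t = (↑u⁻¹ : A) • symmSum A d M t := by
    rw [symmSum_of_mem ht, ← Nat.cast_smul_eq_nsmul A, ← hu, smul_smul, Units.inv_mul, one_smul]
  rw [h]
  refine Submodule.smul_mem _ _ ?_
  clear h ht
  induction t using PiTensorProduct.induction_on with
  | smul_tprod r m =>
    rw [map_smul, symmSum_tprod_eq]
    exact Submodule.smul_mem _ r (Submodule.sum_mem _ fun I _ =>
      zsmul_mem (Submodule.subset_span (Set.mem_range_self (∑ i ∈ I, m i))) _)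
  | add a b ha hb => rw [map_add]; exact add_mem ha hb

variable {B : Type u} [CommRing B] [Algebra A B]

lemma ground_tau (b : B) : (tau A B d).law.ground b = SymTen.tpow A B d b := by
  apply Subtype.ext
  show (SymTen.TS A B d).val (TensorProduct.lid A _ ((tau A B d).law.toFun' A ((1 : A) ⊗ₜ[A] b))) = _
  have h := SymTen.tpowLaw_tmul A B d A 1 b
  rw [← postcomp_tau] at h
  have h2 := congrArg (TensorProduct.lid A (⨂[A] _ : Fin d, B)) h
  rw [TensorProduct.lid_tmul, one_pow, one_smul] at h2
  refine Eq.trans ?_ h2
  show _ = TensorProduct.lid A _ ((SymTen.TS A B d).val.toLinearMap.lTensor A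
    ((tau A B d).law.toFun' A ((1 : A) ⊗ₜ[A] b)))
  generalize (tau A B d).law.toFun' A ((1 : A) ⊗ₜ[A] b) = x
  induction x with
  | zero => simp
  | tmul s t => simp
  | add a b ha hb => simp only [map_add, ha, hb]

lemma algHom_ext_tpow {C : Type u} [CommRing C] [Algebra A C] (hu : IsUnit ((d.factorial : ℕ) : A))
    {f g : SymTen.TS A B d →ₐ[A] C}
    (h : ∀ b, f (SymTen.tpow A B d b) = g (SymTen.tpow A B d b)) : f = g := by
  refine AlgHom.ext fun t => ?_
  have ht : (t : ⨂[A] _ : Fin d, B) ∈ symSub A d B := by rw [← TS_toSubmodule]; exact t.2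
  have hle : Submodule.span A (Set.range fun b : B => tprod A fun _ : Fin d => b) ≤
      (LinearMap.eqLocus f.toLinearMap g.toLinearMap).map (SymTen.TS A B d).val.toLinearMap :=
    Submodule.span_le.2 fun x ⟨b, hb⟩ => ⟨SymTen.tpow A B d b, h b, hb⟩
  obtain ⟨t', ht', he⟩ := hle (symSub_le_span_diag hu ht)
  rwa [show t' = t from Subtype.ext he] at ht'

end ZCLib
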