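import Groth.Agent.ZCLib.Norm
import Groth.Agent.ZCLib.Ker
import Mathlib.RingTheory.Polynomial.Basic

/-! The Cayley–Hamilton theorem for multiplicative laws. -/

noncomputable section

open TensorProduct PiTensorProduct

namespace ZCLib

universe u

variable {A : Type u} [CommRing A] {B : Type u} [CommRing B] [Algebra A B] {d : ℕ}

/-- Symmetric tensors of a free algebra embed after any base change. -/
lemma map_val_injective {P : Type u} [CommRing P] [Algebra A P] {ι : Type u}
    (e : Module.Basis ι A P) (S : Type u) [CommRing S] [Algebra A S] :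
    Function.Injective (Algebra.TensorProduct.map (AlgHom.id A S) (SymTen.TS A P d).val) := by
  have hv : ∀ x, Algebra.TensorProduct.map (AlgHom.id A S) (SymTen.TS A P d).val x =
      (SymTen.TS A P d).val.toLinearMap.lTensor S x := fun x => by
    induction x with
    | zero => simp
    | tmul q n => rfl
    | add a b ha hb => simp only [map_add, ha, hb]
  let V : SymTen.TS A P d →ₗ[A] symSub A d P :=
    (SymTen.TS A P d).val.toLinearMap.codRestrict _ fun t => by rw [← TS_toSubmodule]; exact t.2
  let W : symSub A d P →ₗ[A] SymTen.TS A P d :=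
    (symSub A d P).subtype.codRestrict (Subalgebra.toSubmodule (SymTen.TS A P d))
      fun t => by rw [TS_toSubmodule]; exact t.2
  have hinj : Function.Injective ((SymTen.TS A P d).val.toLinearMap.lTensor S) :=
    Function.LeftInverse.injective (g := (W ∘ₗ retr d e).lTensor S) fun t => by
      rw [← LinearMap.comp_apply, ← LinearMap.lTensor_comp,
        show (W ∘ₗ retr d e) ∘ₗ (SymTen.TS A P d).val.toLinearMap = LinearMap.id from
          LinearMap.ext fun t => Subtype.ext (by
            have h := congrArg Subtype.val (retr_val e (V t))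
            exact h),
        LinearMap.lTensor_id, LinearMap.id_apply]
  intro x y h
  rw [hv, hv] at h
  exact hinj h

variable {P : Type u} [CommRing P] [Algebra A P] {R : Type u} [CommRing R] [Algebra A R]

lemma val_tau (y : R ⊗[A] P) :
    Algebra.TensorProduct.map (AlgHom.id A R) (SymTen.TS A P d).val
        ((tau A P d).law.toFun' R y) =
      ∏ i : Fin d, Algebra.TensorProduct.map (AlgHom.id A R)
        (PiTensorProduct.singleAlgHom (A := fun _ : Fin d => P) i) y := by
  have h : (SymTen.TS A P d).val.toLinearMap.lTensor R ((tau A P d).law.toFun' R y) =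
      (SymTen.tpowLaw A P d).law.toFun' R y := by
    rw [← postcomp_tau]; rfl
  have hv : ∀ {T T' : Type u} [CommRing T] [Algebra A T] [CommRing T'] [Algebra A T']
      (g : T →ₐ[A] T') (x : R ⊗[A] T),
      Algebra.TensorProduct.map (AlgHom.id A R) g x = g.toLinearMap.lTensor R x := by
    intro T T' _ _ _ _ g x
    induction x with
    | zero => simp
    | tmul q n => rfl
    | add a b ha hb => simp only [map_add, ha, hb]
  rw [hv, h, SymTen.tpowLaw, PolLaw.MulLaw.prodMap_toFun']
  refine Finset.prod_congr rfl fun i _ => ?_
  rw [hv, PolLaw.lTensor_algHom_apply]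

/-- The map killing an algebra through a point. -/
def spec {T : Type u} [CommRing T] [Algebra A T] (f : T →ₐ[A] A) (R : Type u) [CommRing R]
    [Algebra A R] : R ⊗[A] T →ₐ[A] R :=
  (Algebra.TensorProduct.rid A A R).toAlgHom.comp (Algebra.TensorProduct.map (AlgHom.id A R) f)

/-- Evaluation of coefficients in a second copy of an algebra. -/
def absorb (A : Type u) [CommRing A] (R T : Type u) [CommRing R] [Algebra A R] [CommRing T]
    [Algebra A T] : (R ⊗[A] T) ⊗[A] T →ₐ[A] R ⊗[A] T :=
  Algebra.TensorProduct.lift (AlgHom.id A _) Algebra.TensorProduct.includeRight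
    fun _ _ => Commute.all _ _

/-- The characteristic polynomial of an element with respect to a law, after base change. -/
def chi (F : PolLaw.MulLaw A B A d) (A' : Type u) [CommRing A'] [Algebra A A'] (z : A' ⊗[A] B) :
    Polynomial A' :=
  TensorProduct.rid A (Polynomial A') (F.law.toFun' (Polynomial A')
    (Algebra.TensorProduct.map (IsScalarTower.toAlgHom A A' (Polynomial A')) (AlgHom.id A B) z -
      Polynomial.X ⊗ₜ[A] (1 : B)))

lemma chi_precomp (F : PolLaw.MulLaw A B A d) (π : P →ₐ[A] B) (A' : Type u) [CommRing A']
    [Algebra A A'] (z : A' ⊗[A] P) :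
    chi (F.precomp π) A' z = chi F A' (Algebra.TensorProduct.map (AlgHom.id A A') π z) := by
  unfold chi
  congr 1
  show F.law.toFun' _ (π.toLinearMap.lTensor _ _) = _
  rw [PolLaw.lTensor_algHom_apply, map_sub, Algebra.TensorProduct.map_tmul, map_one]
  congr 2
  induction z with
  | zero => simp
  | tmul a p => simp
  | add a b ha hb => simp only [map_add, ha, hb]

lemma rid_lTensor {T : Type u} [CommRing T] [Algebra A T] (f : T →ₐ[A] A) (x : R ⊗[A] T) :
    TensorProduct.rid A R (f.toLinearMap.lTensor R x) = spec f R x := by
  induction x with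
  | zero => simp
  | tmul q n => simp [spec]
  | add a b ha hb => simp only [map_add, ha, hb]

lemma map_id_id {T T' : Type u} [CommRing T] [Algebra A T] [CommRing T'] [Algebra A T']
    (g : T →ₐ[A] T') (x : R ⊗[A] T) :
    Algebra.TensorProduct.map (AlgHom.id R R) g x = Algebra.TensorProduct.map (AlgHom.id A R) g x := by
  induction x with
  | zero => simp
  | tmul q n => rfl
  | add a b ha hb => simp only [map_add, ha, hb]

section Abstract

variable {T U : Type u} [CommRing T] [Algebra A T] [CommRing U] [Algebra A U] (val : T →ₐ[A] U)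
  (si : Fin d → P →ₐ[A] U) (τ : PolLaw.MulLaw A P T d)
  (hτ : ∀ (R : Type u) [CommRing R] [Algebra A R] (y : R ⊗[A] P),
    Algebra.TensorProduct.map (AlgHom.id A R) val (τ.law.toFun' R y) =
      ∏ i, Algebra.TensorProduct.map (AlgHom.id A R) (si i) y)
  (hval : ∀ (R : Type u) [CommRing R] [Algebra A R],
    Function.Injective (Algebra.TensorProduct.map (AlgHom.id A R) val))
  (f : T →ₐ[A] A) (G : PolLaw.MulLaw A P A d) (hf : PolLaw.postcomp f.toLinearMap τ.law = G.law)

include hτ hval hf in
lemma cayley_hamilton_aux {A' : Type u} [CommRing A'] [Algebra A A'] [Algebra A' R]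
    [IsScalarTower A A' R] (z : A' ⊗[A] P) (w : R ⊗[A] P) :
    G.law.toFun' R (1 + w * bcMap A' R (Polynomial.aeval z (chi G A' z))) = 1 := by
  classical
  let E : Polynomial A' ⊗[A] T := τ.law.toFun' (Polynomial A')
    (Algebra.TensorProduct.map (IsScalarTower.toAlgHom A A' (Polynomial A')) (AlgHom.id A P) z -
      Polynomial.X ⊗ₜ[A] (1 : P))
  have hE : chi G A' z = spec f (Polynomial A') E := by
    rw [chi, ← hf]
    exact rid_lTensor f E
  let ι : A' →ₐ[A] R := IsScalarTower.toAlgHom A A' R
  let j : R →ₐ[A] R ⊗[A] T := Algebra.TensorProduct.includeLeft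
  let β : A' ⊗[A] P →ₐ[A] (R ⊗[A] T) ⊗[A] P := Algebra.TensorProduct.map (j.comp ι) (AlgHom.id A P)
  let Φ : Polynomial A' ⊗[A] T →ₐ[A] (R ⊗[A] T) ⊗[A] P :=
    Algebra.TensorProduct.lift (β.comp ((Polynomial.aeval z).restrictScalars A))
      ((Algebra.TensorProduct.includeLeft : R ⊗[A] T →ₐ[A] (R ⊗[A] T) ⊗[A] P).comp
        (Algebra.TensorProduct.includeRight : T →ₐ[A] R ⊗[A] T))
      fun _ _ => Commute.all _ _
  let y : (R ⊗[A] T) ⊗[A] P := 1 + Algebra.TensorProduct.map j (AlgHom.id A P) w * Φ E
  let slot : Fin d → (R ⊗[A] T) ⊗[A] P →ₐ[A] R ⊗[A] U := fun i =>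
    Algebra.TensorProduct.lift (Algebra.TensorProduct.map (AlgHom.id A R) val)
      (Algebra.TensorProduct.includeRight.comp (si i)) fun _ _ => Commute.all _ _
  have hy : Algebra.TensorProduct.map (spec f R) (AlgHom.id A P) y =
      1 + w * bcMap A' R (Polynomial.aeval z (chi G A' z)) := by
    rw [map_add, map_one, map_mul, hE]
    congr 2
    · rw [← AlgHom.comp_apply, ← Algebra.TensorProduct.map_comp,
        show (spec f R).comp j = AlgHom.id A R from AlgHom.ext fun r => by simp [j, spec],
        AlgHom.comp_id, Algebra.TensorProduct.map_id, AlgHom.id_apply]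
    · have h : (Algebra.TensorProduct.map (spec f R) (AlgHom.id A P)).comp Φ =
          (bcMap A' R).comp (((Polynomial.aeval z).restrictScalars A).comp (spec f _)) := by
        refine Algebra.TensorProduct.ext ?_ ?_
        · have hc : (Algebra.TensorProduct.map (spec f R) (AlgHom.id A P)).comp β = bcMap A' R := by
            ext <;> simp [β, j, spec, bcMap, ι]
          refine AlgHom.ext fun p => ?_
          simp only [AlgHom.comp_apply, Φ, Algebra.TensorProduct.includeLeft_apply,
            Algebra.TensorProduct.lift_tmul, map_one, mul_one]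
          rw [← AlgHom.comp_apply (Algebra.TensorProduct.map (spec f R) (AlgHom.id A P)) β, hc]
          congr 2
          simp [spec]
        · refine AlgHom.ext fun t => ?_
          simp [Φ, spec, bcMap, Algebra.smul_def, Algebra.TensorProduct.algebraMap_apply]
      exact AlgHom.congr_fun h E
  have hz : ∀ i : Fin d, slot i (Φ E) = 0 := by
    intro i
    let ev : Polynomial A' ⊗[A] U →ₐ[A] A' ⊗[A] U :=
      Algebra.TensorProduct.lift
        ((Polynomial.aeval (Algebra.TensorProduct.map (AlgHom.id A A') (si i) z)).restrictScalars A)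
        Algebra.TensorProduct.includeRight fun _ _ => Commute.all _ _
    have h : (slot i).comp Φ = (Algebra.TensorProduct.map ι (AlgHom.id A U)).comp
          (ev.comp (Algebra.TensorProduct.map (AlgHom.id A _) val)) := by
      refine Algebra.TensorProduct.ext ?_ ?_
      · have hc : (slot i).comp β = Algebra.TensorProduct.map ι (si i) := by
          ext <;> simp [slot, β, j]
        refine AlgHom.ext fun p => ?_
        simp only [AlgHom.comp_apply, Φ, Algebra.TensorProduct.includeLeft_apply,
          Algebra.TensorProduct.lift_tmul, Algebra.TensorProduct.map_tmul, map_one, mul_one, ev]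
        rw [← AlgHom.comp_apply (slot i) β, hc]
        induction p using Polynomial.induction_on' with
        | add p q hp hq => simp only [map_add, hp, hq]
        | monomial n a =>
          simp only [AlgHom.restrictScalars_apply, AlgHom.id_apply, Polynomial.aeval_monomial,
            map_mul, map_pow,
            Algebra.TensorProduct.algebraMap_apply, Algebra.algebraMap_self, RingHom.id_apply,
            Algebra.TensorProduct.map_tmul, map_one]
          congr 2
          rw [← AlgHom.comp_apply]
          congr 1
          ext <;> simp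
      · refine AlgHom.ext fun t => ?_
        simp [Φ, slot, ev]
    rw [← AlgHom.comp_apply, h, AlgHom.comp_apply, AlgHom.comp_apply]
    have h0 : ev (Algebra.TensorProduct.map (AlgHom.id A _) val E) = 0 := by
      rw [hτ, map_prod]
      refine Finset.prod_eq_zero (Finset.mem_univ i) ?_
      rw [map_sub, map_sub, Algebra.TensorProduct.map_tmul, map_one, ← AlgHom.comp_apply,
        ← AlgHom.comp_apply,
        show (ev.comp (Algebra.TensorProduct.map (AlgHom.id A _) (si i))).comp
          (Algebra.TensorProduct.map (IsScalarTower.toAlgHom A A' (Polynomial A')) (AlgHom.id A P)) =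
          Algebra.TensorProduct.map (AlgHom.id A A') (si i) by
            ext <;> simp [ev, Algebra.TensorProduct.algebraMap_apply]]
      simp only [ev, AlgHom.comp_apply, Algebra.TensorProduct.lift_tmul, map_one, mul_one,
        AlgHom.restrictScalars_apply, Polynomial.aeval_X, AlgHom.id_apply]
      exact sub_self _
    rw [h0, map_zero]
  have hone : absorb A R T (τ.law.toFun' _ y) = 1 := by
    apply hval R
    let μ' : (R ⊗[A] T) ⊗[A] U →ₐ[A] R ⊗[A] U :=
      Algebra.TensorProduct.lift (Algebra.TensorProduct.map (AlgHom.id A R) val)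
        Algebra.TensorProduct.includeRight fun _ _ => Commute.all _ _
    have h1 : (Algebra.TensorProduct.map (AlgHom.id A R) val).comp (absorb A R T) =
        μ'.comp (Algebra.TensorProduct.map (AlgHom.id A _) val) := by
      ext <;> simp [μ', absorb]
    rw [← AlgHom.comp_apply, h1, AlgHom.comp_apply, hτ, map_prod, map_one]
    refine Finset.prod_eq_one fun i _ => ?_
    rw [← AlgHom.comp_apply, show μ'.comp (Algebra.TensorProduct.map (AlgHom.id A _) (si i)) = slot i by
      ext <;> simp [μ', slot], map_add, map_one, map_mul, hz, mul_zero, add_zero]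
  apply (TensorProduct.rid A R).injective
  rw [← hy, map_rTensor, ← hf]
  show TensorProduct.rid A R (Algebra.TensorProduct.map (spec f R) (AlgHom.id A A)
    (f.toLinearMap.lTensor _ (τ.law.toFun' _ y))) = _
  have hcomm : ∀ Z : (R ⊗[A] T) ⊗[A] T,
      TensorProduct.rid A R (Algebra.TensorProduct.map (spec f R) (AlgHom.id A A)
        (f.toLinearMap.lTensor _ Z)) = spec f R (absorb A R T Z) := by
    intro Z
    induction Z with
    | zero => simp
    | add a b ha hb => simp only [map_add, ha, hb]
    | tmul q t => simp [spec, absorb, Algebra.smul_def, mul_comm]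
  rw [hcomm, hone, map_one, Algebra.TensorProduct.one_def, TensorProduct.rid_tmul, one_smul]

end Abstract

/-- **Cayley–Hamilton** for multiplicative laws. -/
theorem aeval_chi_mem_kerBC (F : PolLaw.MulLaw A B A d) (A' : Type u) [CommRing A'] [Algebra A A']
    (z : A' ⊗[A] B) : Polynomial.aeval z (chi F A' z) ∈ PolLaw.kerBC F.law A' := by
  classical
  rw [mem_kerBC_iff]
  intro R _ _ _ _ w
  let π := cover A B
  have hπ : ∀ (S : Type u) [CommRing S] [Algebra A S],
      Function.Surjective (Algebra.TensorProduct.map (AlgHom.id A S) π) := fun S _ _ y => by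
    obtain ⟨x, rfl⟩ := LinearMap.lTensor_surjective S (g := π.toLinearMap) cover_surjective y
    refine ⟨x, ?_⟩
    induction x with
    | zero => simp
    | tmul q n => rfl
    | add a b ha hb => simp only [map_add, ha, hb]
  obtain ⟨zt, rfl⟩ := hπ A' z
  obtain ⟨wt, rfl⟩ := hπ R w
  let G := F.precomp π
  obtain ⟨f, hf, -⟩ := isGammaD_tau_of_flat (A := A) (B := MvPolynomial B A) (d := d) A G
  have key := cayley_hamilton_aux (SymTen.TS A (MvPolynomial B A) d).val
    (fun i => PiTensorProduct.singleAlgHom (A := fun _ : Fin d => MvPolynomial B A) i)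
    (tau A (MvPolynomial B A) d) (fun R _ _ y => val_tau y)
    (fun R _ _ => map_val_injective (MvPolynomial.basisMonomials B A) R) f G hf zt wt
  rw [← chi_precomp]
  refine Eq.trans ?_ key
  symm
  show F.law.toFun' R (π.toLinearMap.lTensor R _) = _
  rw [PolLaw.lTensor_algHom_apply]
  congr 1
  rw [map_id_id, map_add, map_one, map_mul]
  congr 2
  rw [← AlgHom.comp_apply]
  have hb : (Algebra.TensorProduct.map (AlgHom.id A R) π).comp (bcMap A' R) =
      (bcMap A' R).comp (Algebra.TensorProduct.map (AlgHom.id A A') π) := by
    ext <;> simp [bcMap]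
  rw [hb, AlgHom.comp_apply]
  congr 1
  rw [← map_id_id, ← map_id_id, Polynomial.aeval_algHom_apply]

end ZCLib
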