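import Groth.Prelude.Def_PolLaw
import Mathlib.LinearAlgebra.DirectSum.Finsupp
import Mathlib.Algebra.MvPolynomial.Equiv
import Mathlib.Data.Finsupp.Weight
import Mathlib.RingTheory.Flat.Basic
import Mathlib.RingTheory.TensorProduct.Free

/-! Coefficients of polynomial laws. -/

noncomputable section

open TensorProduct MvPolynomial

namespace ZCLib

universe u

variable {A : Type u} [CommRing A] {M N P : Type u} [AddCommGroup M] [Module A M]
  [AddCommGroup N] [Module A N] [AddCommGroup P] [Module A P]

section Expansion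

variable {κ : Type u}

/-- Tensors over a polynomial ring are finitely supported families of coefficients. -/
def polEquiv (A : Type u) [CommRing A] (κ : Type u) (N : Type u) [AddCommGroup N] [Module A N] :
    MvPolynomial κ A ⊗[A] N ≃ₗ[A] (κ →₀ ℕ) →₀ N :=
  haveI := Classical.decEq (κ →₀ ℕ)
  TensorProduct.congr (MvPolynomial.basisMonomials κ A).repr (LinearEquiv.refl A N) ≪≫ₗ
    TensorProduct.finsuppScalarLeft A N (κ →₀ ℕ)

@[simp] lemma polEquiv_tmul (p : MvPolynomial κ A) (n : N) (α : κ →₀ ℕ) :
    polEquiv A κ N (p ⊗ₜ[A] n) α = MvPolynomial.coeff α p • n := by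
  simp only [polEquiv, LinearEquiv.trans_apply, TensorProduct.congr_tmul,
    TensorProduct.finsuppScalarLeft_apply_tmul_apply]
  rfl

lemma polEquiv_symm_single (α : κ →₀ ℕ) (n : N) :
    (polEquiv A κ N).symm (Finsupp.single α n) = monomial α (1 : A) ⊗ₜ[A] n := by
  classical
  rw [LinearEquiv.symm_apply_eq]
  ext β
  rw [polEquiv_tmul, coeff_monomial, Finsupp.single_apply]
  split_ifs <;> simp

lemma polEquiv_lTensor (g : N →ₗ[A] P) (y : MvPolynomial κ A ⊗[A] N) (α : κ →₀ ℕ) :
    polEquiv A κ P (g.lTensor _ y) α = g (polEquiv A κ N y α) := by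
  induction y with
  | zero => simp
  | tmul p n => simp
  | add y z hy hz => simp only [map_add, Finsupp.add_apply, hy, hz]

variable {S : Type u} [CommSemiring S] [Algebra A S]

/-- Evaluate a family of coefficients at a point. -/
def evalAt (s : κ → S) : ((κ →₀ ℕ) →₀ N) →ₗ[A] S ⊗[A] N :=
  Finsupp.lsum ℕ fun α => TensorProduct.mk A S N (α.prod fun j k => s j ^ k)

lemma evalAt_single (s : κ → S) (α : κ →₀ ℕ) (n : N) :
    evalAt (A := A) s (Finsupp.single α n) = (α.prod fun j k => s j ^ k) ⊗ₜ[A] n := by
  simp [evalAt]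

lemma rTensor_aeval (s : κ → S) (y : MvPolynomial κ A ⊗[A] N) :
    (aeval s).toLinearMap.rTensor N y = evalAt s (polEquiv A κ N y) := by
  obtain ⟨z, rfl⟩ := (polEquiv A κ N).symm.surjective y
  rw [LinearEquiv.apply_symm_apply]
  induction z using Finsupp.induction_linear with
  | zero => simp
  | add z w hz hw => simp only [map_add, hz, hw]
  | single α n =>
    rw [polEquiv_symm_single, LinearMap.rTensor_tmul, evalAt_single]
    congr 1
    simp [aeval_monomial]

lemma evalAt_mapRange (g : N →ₗ[A] P) (s : κ → S) (z : (κ →₀ ℕ) →₀ N) :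
    g.lTensor S (evalAt s z) = evalAt s (Finsupp.mapRange g (map_zero g) z) := by
  induction z using Finsupp.induction_linear with
  | zero => simp
  | add z w hz hw => simp only [map_add, Finsupp.mapRange_add (map_add g), hz, hw]
  | single α n => simp [evalAt_single]

variable [Fintype κ]

/-- The generic element of a finite family. -/
def gen (v : κ → M) : MvPolynomial κ A ⊗[A] M := ∑ j, X j ⊗ₜ[A] v j

lemma rTensor_gen (v : κ → M) (φ : MvPolynomial κ A →ₐ[A] S) :
    φ.toLinearMap.rTensor M (gen v) = ∑ j, φ (X j) ⊗ₜ[A] v j := by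
  simp [gen]

lemma lTensor_gen (g : M →ₗ[A] P) (v : κ → M) :
    g.lTensor _ (gen (A := A) v) = gen (g ∘ v) := by
  simp [gen]

/-- The coefficients of a law at a finite family. -/
def coeffs (F : M →ₚₗ[A] N) (v : κ → M) : (κ →₀ ℕ) →₀ N :=
  polEquiv A κ N (F.toFun' (MvPolynomial κ A) (gen v))

lemma toFun'_gen (F : M →ₚₗ[A] N) (v : κ → M) :
    F.toFun' (MvPolynomial κ A) (gen v) = (polEquiv A κ N).symm (coeffs F v) := by
  simp [coeffs]

lemma toFun'_aeval (F : M →ₚₗ[A] N) (v : κ → M) (φ : MvPolynomial κ A →ₐ[A] S) :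
    F.toFun' S (φ.toLinearMap.rTensor M (gen v)) =
      φ.toLinearMap.rTensor N (F.toFun' (MvPolynomial κ A) (gen v)) :=
  (congrFun (F.isCompat' φ) (gen v)).symm

lemma toFun'_sum (F : M →ₚₗ[A] N) (s : κ → S) (v : κ → M) :
    F.toFun' S (∑ j, s j ⊗ₜ[A] v j) = evalAt s (coeffs F v) := by
  have h : ∑ j, s j ⊗ₜ[A] v j = (aeval s).toLinearMap.rTensor M (gen v) := by
    rw [rTensor_gen]; simp
  rw [h, toFun'_aeval, rTensor_aeval]
  rfl

lemma coeffs_postcomp (g : N →ₗ[A] P) (F : M →ₚₗ[A] N) (v : κ → M) (α : κ →₀ ℕ) :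
    coeffs (PolLaw.postcomp g F) v α = g (coeffs F v α) :=
  polEquiv_lTensor g _ α

lemma coeffs_precomp (F : P →ₚₗ[A] N) (g : M →ₗ[A] P) (v : κ → M) :
    coeffs (PolLaw.precomp F g) v = coeffs F (g ∘ v) := by
  rw [coeffs, coeffs, ← lTensor_gen]
  rfl

lemma coeffs_degree {F : M →ₚₗ[A] N} {d : ℕ} (hF : PolLaw.IsHomog F d) (v : κ → M) {α : κ →₀ ℕ}
    (hα : coeffs F v α ≠ 0) : α.degree = d := by
  classical
  let φ : MvPolynomial κ A →ₐ[A] MvPolynomial (Option κ) A := aeval fun j => X none * X (some j)
  let ψ : MvPolynomial κ A →ₐ[A] MvPolynomial (Option κ) A := rename some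
  have h1 : φ.toLinearMap.rTensor M (gen v) =
      (X none : MvPolynomial (Option κ) A) • ψ.toLinearMap.rTensor M (gen v) := by
    rw [rTensor_gen, rTensor_gen, Finset.smul_sum]
    refine Finset.sum_congr rfl fun j _ => ?_
    rw [TensorProduct.smul_tmul']
    simp [φ, ψ]
  have h2 := toFun'_aeval F v φ
  rw [h1, hF, toFun'_aeval F v ψ, toFun'_gen] at h2
  have hmon : ∀ z : (κ →₀ ℕ) →₀ N,
      polEquiv A (Option κ) N (φ.toLinearMap.rTensor N ((polEquiv A κ N).symm z)) =
        z.sum (fun β n => Finsupp.single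
          (Finsupp.single none β.degree + β.mapDomain some) n) ∧
      polEquiv A (Option κ) N ((X none : MvPolynomial (Option κ) A) ^ d •
        ψ.toLinearMap.rTensor N ((polEquiv A κ N).symm z)) =
        z.sum (fun β n => Finsupp.single (Finsupp.single none d + β.mapDomain some) n) := by
    intro z
    induction z using Finsupp.induction_linear with
    | zero => simp
    | add z w hz hw =>
      constructor
      · rw [map_add, map_add, map_add, hz.1, hw.1, Finsupp.sum_add_index' (by simp) (by simp)]
      · rw [map_add, map_add, smul_add, map_add, hz.2, hw.2,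
          Finsupp.sum_add_index' (by simp) (by simp)]
    | single β n =>
      rw [polEquiv_symm_single, Finsupp.sum_single_index (by simp),
        Finsupp.sum_single_index (by simp)]
      constructor
      · rw [← LinearEquiv.eq_symm_apply, polEquiv_symm_single, LinearMap.rTensor_tmul]
        congr 1
        simp only [φ, AlgHom.toLinearMap_apply, aeval_monomial, map_one, one_mul, mul_pow]
        rw [Finsupp.prod_mul, monomial_eq, map_one, one_mul,
          Finsupp.prod_add_index' (by simp) (by simp [pow_add]), Finsupp.prod_single_index (by simp),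
          Finsupp.prod_mapDomain_index_inj (Option.some_injective κ)]
        congr 1
        rw [Finsupp.prod, Finset.prod_pow_eq_pow_sum]
        rfl
      · rw [← LinearEquiv.eq_symm_apply, polEquiv_symm_single, LinearMap.rTensor_tmul,
          TensorProduct.smul_tmul']
        congr 1
        simp only [ψ, AlgHom.toLinearMap_apply, rename_monomial, smul_eq_mul, X_pow_eq_monomial,
          monomial_mul, mul_one]
  have h3 := congrArg (polEquiv A (Option κ) N) h2
  rw [(hmon _).2, (hmon _).1] at h3
  have h4 := DFunLike.congr_fun h3 (Finsupp.single none α.degree + α.mapDomain some)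
  rw [Finsupp.sum_apply, Finsupp.sum_apply] at h4
  by_contra hne
  have inj : ∀ (a b : ℕ) (β γ : κ →₀ ℕ), Finsupp.single none a + β.mapDomain some =
      Finsupp.single none b + γ.mapDomain some → a = b ∧ β = γ := by
    intro a b β γ h
    constructor
    · have := DFunLike.congr_fun h none
      simpa [Finsupp.mapDomain_notin_range] using this
    · ext j
      have := DFunLike.congr_fun h (some j)
      simpa [Finsupp.mapDomain_apply (Option.some_injective κ)] using this
  have hl : ((coeffs F v).sum fun β n => Finsupp.single (Finsupp.single none d + β.mapDomain some) n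
      (Finsupp.single none α.degree + α.mapDomain some)) = 0 :=
    Finset.sum_eq_zero fun β _ => Finsupp.single_eq_of_ne fun h => hne (inj _ _ _ _ h).1
  rw [hl, Finsupp.sum, Finset.sum_eq_single α] at h4
  · exact hα (by simpa using h4.symm)
  · intro β _ hβ
    exact Finsupp.single_eq_of_ne fun h => hβ (inj _ _ _ _ h).2.symm
  · intro h
    simp [Finsupp.notMem_support_iff.1 h]

end Expansion

section Ext

lemma exists_sum (S : Type u) [CommSemiring S] [Algebra A S] (x : S ⊗[A] M) :
    ∃ (κ : Type u) (_ : Fintype κ) (s : κ → S) (v : κ → M), x = ∑ j, s j ⊗ₜ[A] v j := by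
  obtain ⟨T, hT⟩ := TensorProduct.exists_finset x
  exact ⟨{y // y ∈ T}, inferInstance, fun j => j.1.1, fun j => j.1.2, by
    rw [hT, ← Finset.sum_coe_sort]⟩

lemma exists_sum_left {R : Type u} [AddCommGroup R] [Module A R] (U : Submodule A R) (x : U ⊗[A] M) :
    ∃ (κ : Type u) (_ : Fintype κ) (s : κ → U) (v : κ → M), x = ∑ j, s j ⊗ₜ[A] v j := by
  obtain ⟨T, hT⟩ := TensorProduct.exists_finset x
  exact ⟨{y // y ∈ T}, inferInstance, fun j => j.1.1, fun j => j.1.2, by
    rw [hT, ← Finset.sum_coe_sort]⟩

lemma rTensor_algHom {S S' : Type u} [CommSemiring S] [Algebra A S] [CommSemiring S'] [Algebra A S']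
    {R : Type u} [CommRing R] [Algebra A R] (φ : S →ₐ[A] S') (z : S ⊗[A] R) :
    φ.toLinearMap.rTensor R z = Algebra.TensorProduct.map φ (AlgHom.id A R) z := by
  induction z with
  | zero => simp
  | tmul a b => rfl
  | add a b ha hb => simp only [map_add, ha, hb]

lemma law_ext {F G : M →ₚₗ[A] N}
    (h : ∀ (κ : Type u) [Fintype κ] (v : κ → M), coeffs F v = coeffs G v) : F = G := by
  refine PolynomialLaw.ext ?_
  funext S _ _ x
  obtain ⟨κ, _, s, v, rfl⟩ := exists_sum S x
  rw [toFun'_sum, toFun'_sum, h]

/-- Laws into a target that embeds after a flat base change are determined there. -/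
lemma law_ext_of_injective (g : N →ₗ[A] P) (hg : Function.Injective g) {F G : M →ₚₗ[A] N}
    (h : PolLaw.postcomp g F = PolLaw.postcomp g G) : F = G :=
  law_ext fun κ _ v => Finsupp.ext fun α => hg (by rw [← coeffs_postcomp, ← coeffs_postcomp, h])

end Ext

end ZCLib
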