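import Groth.Agent.ZCLib.Coeff
import Groth.Prelude.Def_PolLaw2
import Mathlib.LinearAlgebra.Matrix.Charpoly.Eigs
import Mathlib.RingTheory.IntegralClosure.IsIntegralClosure.Basic
import Mathlib.FieldTheory.IsAlgClosed.AlgebraicClosure

/-! Determinants of actions in compatible bases. -/

noncomputable section

open TensorProduct

namespace ZCLib

universe u

variable {A : Type u} [CommRing A] {B : Type u} [CommRing B] [Algebra A B]
  (M : Type u) [AddCommGroup M] [Module A M] [Module B M] [IsScalarTower A B M]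

/-- The determinant of the action is natural for compatible bases. -/
lemma detAct_map_of_basis {R R' : Type u} [CommRing R] [Algebra A R] [CommRing R'] [Algebra A R']
    {ι : Type*} [Fintype ι] [DecidableEq ι] (b : Module.Basis ι R (R ⊗[A] M))
    (b' : Module.Basis ι R' (R' ⊗[A] M)) (ψ : R →ₐ[A] R')
    (hb : ∀ i, b' i = ψ.toLinearMap.rTensor M (b i))
    (hr : ∀ z i, b'.repr (ψ.toLinearMap.rTensor M z) i = ψ (b.repr z i)) (x : R ⊗[A] B) :
    PolLaw.detAct M R' (Algebra.TensorProduct.map ψ (AlgHom.id A B) x) =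
      ψ (PolLaw.detAct M R x) := by
  unfold PolLaw.detAct
  rw [← LinearMap.det_toMatrix b', ← LinearMap.det_toMatrix b, AlgHom.map_det]
  congr 1
  ext i j
  simp only [AlgHom.mapMatrix_apply, Matrix.map_apply, LinearMap.toMatrix_apply]
  rw [← hr, PolLaw.rTensor_actEnd M ψ, hb]

lemma detAct_smul_of_basis {R : Type u} [CommRing R] [Algebra A R] {ι : Type*} [Fintype ι]
    [DecidableEq ι] (b : Module.Basis ι R (R ⊗[A] M)) (r : R) (x : R ⊗[A] B) :
    PolLaw.detAct M R (r • x) = r ^ Fintype.card ι * PolLaw.detAct M R x := by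
  unfold PolLaw.detAct
  rw [map_smul, ← LinearMap.det_toMatrix b, map_smul, Matrix.det_smul, LinearMap.det_toMatrix]

/-- The determinant of an endomorphism annihilated by a monic polynomial is integral. -/
lemma isIntegral_det_of_aeval {O R : Type u} [CommRing O] [CommRing R] [IsDomain R] [Algebra O R]
    {ι : Type*} [Fintype ι] [DecidableEq ι] (N : Matrix ι ι R) {q : Polynomial O} (hq : q.Monic)
    (hN : Polynomial.aeval N q = 0) : IsIntegral O N.det := by
  classical
  let L := AlgebraicClosure (FractionRing R)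
  have hinj : Function.Injective (algebraMap R L) := by
    rw [IsScalarTower.algebraMap_eq R (FractionRing R) L]
    exact (algebraMap (FractionRing R) L).injective.comp (IsFractionRing.injective R _)
  refine (isIntegral_algHom_iff (IsScalarTower.toAlgHom O R L) hinj).1 ?_
  set N' := (IsScalarTower.toAlgHom O R L).mapMatrix N with hN'
  rw [show IsScalarTower.toAlgHom O R L N.det = N'.det from AlgHom.map_det _ _,
    Matrix.det_eq_prod_roots_charpoly]
  refine IsIntegral.multiset_prod fun μ hμ => ?_
  refine ⟨q, hq, ?_⟩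
  have hne : N'.charpoly ≠ 0 := (Matrix.charpoly_monic _).ne_zero
  have hdet : (Matrix.scalar ι μ - N').det = 0 := by
    rw [← Matrix.eval_charpoly]; exact (Polynomial.mem_roots hne).1 hμ
  have hι : Nonempty ι := by
    by_contra h
    haveI := not_nonempty_iff.1 h
    simp at hdet
  have h0 : Polynomial.aeval N' q = 0 := by rw [hN', Polynomial.aeval_algHom_apply, hN, map_zero]
  have hsc : Polynomial.aeval (Matrix.scalar ι μ) q = Matrix.scalar ι (Polynomial.aeval μ q) :=
    Polynomial.aeval_algHom_apply ((Algebra.ofId L (Matrix ι ι L)).restrictScalars O) μ q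
  obtain ⟨h, hh⟩ : ∃ h, Polynomial.aeval (Matrix.scalar ι μ) q - Polynomial.aeval N' q =
      (Matrix.scalar ι μ - N') * h := by
    clear hq hN h0 hsc
    induction q using Polynomial.induction_on' with
    | add p p' hp hp' =>
      obtain ⟨h, hh⟩ := hp
      obtain ⟨h', hh'⟩ := hp'
      exact ⟨h + h', by rw [map_add, map_add, mul_add, ← hh, ← hh']; abel⟩
    | monomial n a =>
      refine ⟨algebraMap O (Matrix ι ι L) a * ∑ i ∈ Finset.range n,
        (Matrix.scalar ι μ) ^ i * N' ^ (n - 1 - i), ?_⟩
      have hc : Commute (Matrix.scalar ι μ) N' := Matrix.scalar_commute μ (fun _ => Commute.all _ _) _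
      rw [Polynomial.aeval_monomial, Polynomial.aeval_monomial, ← mul_sub, ← mul_assoc,
        ← Algebra.commutes a (Matrix.scalar ι μ - N'), mul_assoc, hc.mul_geom_sum₂]
  rw [hsc, h0, sub_zero] at hh
  have := congrArg Matrix.det hh
  rw [Matrix.det_mul, hdet, zero_mul, Matrix.scalar_apply, Matrix.det_diagonal, Finset.prod_const,
    Finset.card_univ] at this
  exact (pow_eq_zero_iff Fintype.card_ne_zero).1 this

omit M in
lemma isIntegral_det_end {O R : Type u} [CommRing O] [CommRing R] [IsDomain R] [Algebra O R]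
    {W : Type u} [AddCommGroup W] [Module R W] {ι : Type*} [Fintype ι] [DecidableEq ι]
    (b : Module.Basis ι R W) (f : Module.End R W) {q : Polynomial O} (hq : q.Monic)
    (hf : Polynomial.aeval f (q.map (algebraMap O R)) = 0) : IsIntegral O (LinearMap.det f) := by
  have hN : Polynomial.aeval (LinearMap.toMatrixAlgEquiv b f) q = 0 := by
    rw [← Polynomial.aeval_map_algebraMap R, Polynomial.aeval_algHom_apply, hf, map_zero]
  have := isIntegral_det_of_aeval _ hq hN
  rwa [show ((LinearMap.toMatrixAlgEquiv b) f).det = LinearMap.det f from LinearMap.det_toMatrix b f]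
    at this

omit M in
/-- A natural family of functions as a polynomial law into the base. -/
def lawOfVal (val : ∀ (R : Type u) [CommRing R] [Algebra A R], R ⊗[A] B → R)
    (hval : ∀ (R R' : Type u) [CommRing R] [Algebra A R] [CommRing R'] [Algebra A R'] (ψ : R →ₐ[A] R')
      (x : R ⊗[A] B), val R' (Algebra.TensorProduct.map ψ (AlgHom.id A B) x) = ψ (val R x)) :
    B →ₚₗ[A] A where
  toFun' S _ _ x :=
    letI : CommRing S := (algebraMap A S).commSemiringToCommRing
    val S x ⊗ₜ[A] (1 : A)
  isCompat' {S} _ _ {S'} _ _ φ := by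
    letI : CommRing S := (algebraMap A S).commSemiringToCommRing
    letI : CommRing S' := (algebraMap A S').commSemiringToCommRing
    funext x
    show φ.toLinearMap.rTensor A (val S x ⊗ₜ[A] (1 : A)) = val S' (φ.toLinearMap.rTensor B x) ⊗ₜ[A] (1 : A)
    rw [LinearMap.rTensor_tmul, AlgHom.toLinearMap_apply, PolLaw.rTensor_algHom_apply, hval]

omit M in
lemma lawOfVal_toFun' (val : ∀ (R : Type u) [CommRing R] [Algebra A R], R ⊗[A] B → R) (hval)
    (S : Type u) [CommRing S] [Algebra A S] (x : S ⊗[A] B) :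
    (lawOfVal val hval).toFun' S x = val S x ⊗ₜ[A] (1 : A) := by
  have key := @hval S S ((algebraMap A S).commSemiringToCommRing) _ _ _ (AlgHom.id A S) x
  rw [Algebra.TensorProduct.map_id] at key
  exact congrArg (fun r => r ⊗ₜ[A] (1 : A)) key.symm

omit M in
lemma isMult_lawOfVal (val : ∀ (R : Type u) [CommRing R] [Algebra A R], R ⊗[A] B → R) (hval)
    (h1 : ∀ (R : Type u) [CommRing R] [Algebra A R], val R 1 = 1)
    (hmul : ∀ (R : Type u) [CommRing R] [Algebra A R] (x y : R ⊗[A] B), val R (x * y) = val R x * val R y) :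
    PolLaw.IsMult (lawOfVal val hval) := fun S _ _ => by
  letI : CommRing S := (algebraMap A S).commSemiringToCommRing
  refine ⟨?_, fun x y => ?_⟩
  · show val S 1 ⊗ₜ[A] (1 : A) = 1
    rw [h1]; rfl
  · show val S (x * y) ⊗ₜ[A] (1 : A) = val S x ⊗ₜ[A] (1 : A) * val S y ⊗ₜ[A] (1 : A)
    rw [hmul, Algebra.TensorProduct.tmul_mul_tmul, mul_one]

omit M in
lemma isHomog_lawOfVal (val : ∀ (R : Type u) [CommRing R] [Algebra A R], R ⊗[A] B → R) (hval) {d : ℕ}
    (hsmul : ∀ (R : Type u) [CommRing R] [Algebra A R] (r : R) (x : R ⊗[A] B),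
      val R (r • x) = r ^ d * val R x) :
    PolLaw.IsHomog (lawOfVal val hval) d := fun S _ _ s x => by
  letI : CommRing S := (algebraMap A S).commSemiringToCommRing
  show val S (s • x) ⊗ₜ[A] (1 : A) = s ^ d • (val S x ⊗ₜ[A] (1 : A))
  rw [hsmul, TensorProduct.smul_tmul', smul_eq_mul]

omit M in
/-- Laws are determined by their values on polynomial rings in finitely many variables. -/
lemma law_ext_fin {N : Type u} [AddCommGroup N] [Module A N] {F G : B →ₚₗ[A] N}
    (h : ∀ (n : ℕ) (y : MvPolynomial (Fin n) A ⊗[A] B),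
      F.toFun' (MvPolynomial (Fin n) A) y = G.toFun' (MvPolynomial (Fin n) A) y) : F = G := by
  refine PolynomialLaw.ext ?_
  funext S _ _ x
  obtain ⟨κ, _, s, v, rfl⟩ := exists_sum S x
  let e := (Fintype.equivFin κ).symm
  let ψ : MvPolynomial (Fin (Fintype.card κ)) A →ₐ[A] S := MvPolynomial.aeval (s ∘ e)
  have hx : ∑ j, s j ⊗ₜ[A] v j =
      ψ.toLinearMap.rTensor B (∑ i, MvPolynomial.X i ⊗ₜ[A] v (e i)) := by
    rw [map_sum]
    simp only [LinearMap.rTensor_tmul, AlgHom.toLinearMap_apply, ψ, MvPolynomial.aeval_X, Function.comp]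
    exact (e.sum_comp fun j => s j ⊗ₜ[A] v j).symm
  rw [hx]
  refine (congrFun (F.isCompat' ψ) _).symm.trans (Eq.trans ?_ (congrFun (G.isCompat' ψ) _))
  simp only [Function.comp_apply, h]

end ZCLib
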