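import Groth.Agent.ZCLib.Fin
import Groth.Agent.ZCLib.CH
import Groth.Agent.ZCLib.Chi
import Mathlib.RingTheory.FinitePresentation
import Mathlib.RingTheory.Flat.Equalizer
import Mathlib.RingTheory.Flat.TorsionFree
import Mathlib.RingTheory.TensorProduct.MvPolynomial
import Mathlib.RingTheory.FiniteStability

/-! Symmetric tensors of polynomial rings are finitely presented. -/

noncomputable section

open TensorProduct MvPolynomial PiTensorProduct

namespace ZCLib

universe u

variable (A : Type u) [CommRing A] (d n : ℕ)

lemma lTensor_multiInv_injective :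
    Function.Injective ((multiInv d n).val.toLinearMap.lTensor A) := by
  classical
  let D : MvPolynomial (Fin d × Fin n) ℤ →ₗ[ℤ]
      Equiv.Perm (Fin d) → MvPolynomial (Fin d × Fin n) ℤ :=
    LinearMap.pi fun σ => (MvPolynomial.rename (Prod.map σ id)).toLinearMap - LinearMap.id
  refine LinearMap.lTensor_injective_of_exact_of_flat D.rangeRestrict D.surjective_rangeRestrict
    (multiInv d n).val.toLinearMap Subtype.val_injective (fun p => ?_) A
  rw [← LinearMap.mem_ker, LinearMap.ker_rangeRestrict, LinearMap.mem_ker]
  constructor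
  · intro h
    refine ⟨⟨p, mem_multiInv.2 fun σ => ?_⟩, rfl⟩
    have := congrFun h σ
    simpa [D, sub_eq_zero] using this
  · rintro ⟨q, rfl⟩
    funext σ
    simp [D, mem_multiInv.1 q.2 σ]

/-- Multisymmetric polynomials over the base ring as tensors. -/
def multiPhiA : MvPolynomial (Fin d × Fin n) A →ₐ[A] ⨂[A] _ : Fin d, MvPolynomial (Fin n) A :=
  aeval fun p =>
    PiTensorProduct.singleAlgHom (A := fun _ : Fin d => MvPolynomial (Fin n) A) p.1 (X p.2)

lemma multiPhiA_injective : Function.Injective (multiPhiA A d n) := by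
  classical
  let ψ : (⨂[A] _ : Fin d, MvPolynomial (Fin n) A) →ₐ[A] MvPolynomial (Fin d × Fin n) A :=
    PiTensorProduct.liftAlgHom
      ((MultilinearMap.mkPiAlgebra A (Fin d) _).compLinearMap fun i =>
        (MvPolynomial.rename fun j : Fin n => (i, j)).toLinearMap)
      (by simp) (fun x y => by simp [Finset.prod_mul_distrib])
  have h : ψ.comp (multiPhiA A d n) = AlgHom.id A _ := by
    refine MvPolynomial.algHom_ext fun ⟨i, j⟩ => ?_
    simp only [AlgHom.comp_apply, multiPhiA, aeval_X, AlgHom.id_apply,
      PiTensorProduct.singleAlgHom_apply, MonoidHom.mulSingle_apply, ψ,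
      PiTensorProduct.liftAlgHom_apply, lift.tprod, MultilinearMap.compLinearMap_apply,
      MultilinearMap.mkPiAlgebra_apply, AlgHom.toLinearMap_apply]
    rw [Finset.prod_eq_single i (fun k _ hk => by rw [Pi.mulSingle_eq_of_ne hk, map_one])
      (fun h => absurd (Finset.mem_univ i) h), Pi.mulSingle_eq_same, rename_X]
  exact Function.LeftInverse.injective (g := ψ) fun p => AlgHom.congr_fun h p

lemma finitePresentation_TS :
    Algebra.FinitePresentation A (SymTen.TS A (MvPolynomial (Fin n) A) d) := by
  classical
  haveI : Algebra.FinitePresentation ℤ (multiInv d n) :=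
    Algebra.FinitePresentation.of_finiteType.1 (multiInv_finiteType d n)
  let α : A ⊗[ℤ] multiInv d n →ₐ[A] SymTen.TS A (MvPolynomial (Fin n) A) d :=
    Algebra.TensorProduct.lift (Algebra.ofId A _)
      { multiPhiTS A d n with
        commutes' := fun r => by
          show multiPhiTS A d n (algebraMap ℤ (multiInv d n) r) = _
          rw [eq_intCast (algebraMap ℤ (multiInv d n)) r, map_intCast]
          exact (eq_intCast (algebraMap ℤ (SymTen.TS A (MvPolynomial (Fin n) A) d)) r).symm }
      fun _ _ => Commute.all _ _
  let β : A ⊗[ℤ] MvPolynomial (Fin d × Fin n) ℤ ≃ₐ[A] MvPolynomial (Fin d × Fin n) A :=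
    MvPolynomial.algebraTensorAlgEquiv ℤ A
  have hsurj : Function.Surjective α := by
    intro t
    have ht : t ∈ Submodule.span A (Set.range (multiPhiTS A d n)) := by
      rw [span_multiPhiTS]; trivial
    suffices h : t ∈ LinearMap.range α.toLinearMap from h
    refine (Submodule.span_le (p := LinearMap.range α.toLinearMap)).2 ?_ ht
    rintro _ ⟨p, rfl⟩
    exact ⟨1 ⊗ₜ p, by simp [α]⟩
  have hcomm : ∀ z, ((α z : SymTen.TS A (MvPolynomial (Fin n) A) d) :
      ⨂[A] _ : Fin d, MvPolynomial (Fin n) A) =
      multiPhiA A d n (β ((multiInv d n).val.toLinearMap.lTensor A z)) := by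
    intro z
    induction z with
    | zero => simp
    | add a b ha hb => simp only [map_add, Subalgebra.coe_add, ha, hb]
    | tmul a p =>
      rw [LinearMap.lTensor_tmul]
      simp only [α, β, Algebra.TensorProduct.lift_tmul, MvPolynomial.algebraTensorAlgEquiv_tmul,
        map_smul, Algebra.ofId_apply, Subalgebra.coe_mul, AlgHom.toLinearMap_apply,
        Subalgebra.val_apply]
      rw [Subalgebra.coe_algebraMap, ← Algebra.smul_def]
      congr 1
      show multiPhi A d n p.1 = _
      rw [multiPhiA, aeval_map_algebraMap, aeval_def, multiPhi, coe_eval₂Hom]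
      congr 1
      exact RingHom.ext_int _ _
  have hinj : Function.Injective α := fun x y h => by
    have h' := congrArg Subtype.val h
    rw [hcomm, hcomm] at h'
    exact lTensor_multiInv_injective A d n (β.injective (multiPhiA_injective A d n h'))
  exact Algebra.FinitePresentation.equiv (AlgEquiv.ofBijective α ⟨hinj, hsurj⟩)

end ZCLib
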