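import Groth.Agent.ZCLib.Orbit

/-! Invariant tensors of free modules are combinations of orbit sums, after any base change. -/

noncomputable section

open TensorProduct MvPolynomial PiTensorProduct

namespace ZCLib

universe u

variable {A : Type u} [CommRing A] {M : Type u} [AddCommGroup M] [Module A M] {d : ℕ}

/-- The orbit sums of all finite families. -/
def orbSet (A : Type u) [CommRing A] (d : ℕ) (M : Type u) [AddCommGroup M] [Module A M] :
    Set (⨂[A] _ : Fin d, M) :=
  {x | ∃ (κ : Type u) (_ : Fintype κ) (v : κ → M) (α : κ →₀ ℕ), x = orbs A d v α}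

lemma orbs_mem_orbSet {κ : Type u} [Fintype κ] (v : κ → M) (α : κ →₀ ℕ) :
    orbs A d v α ∈ orbSet A d M :=
  ⟨κ, _, v, α, rfl⟩

lemma span_orbSet_le : Submodule.span A (orbSet A d M) ≤ symSub A d M :=
  Submodule.span_le.2 fun _ ⟨_, _, v, α, h⟩ => h ▸ orbs_mem v α

section Free

variable {ι : Type u} (e : Module.Basis ι A M)

/-- The orbit sum of a basis tensor. -/
def orbitOf [DecidableEq ι] (f : Fin d → ι) : ⨂[A] _ : Fin d, M :=
  orbs A d (fun k : {x // x ∈ Finset.univ.image f} => e k)
    (cnt fun i => ⟨f i, Finset.mem_image_of_mem f (Finset.mem_univ i)⟩)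

lemma orbitOf_repr [DecidableEq ι] (f h : Fin d → ι) [Decidable (cnt h = cnt f)] :
    (Basis.piTensorProduct fun _ : Fin d => e).repr (orbitOf e f) h =
      if cnt h = cnt f then 1 else 0 := by
  classical
  set f' : Fin d → {x // x ∈ Finset.univ.image f} :=
    fun i => ⟨f i, Finset.mem_image_of_mem f (Finset.mem_univ i)⟩
  have hb : ∀ c : Fin d → {x // x ∈ Finset.univ.image f},
      (Basis.piTensorProduct fun _ : Fin d => e).repr (tprod A fun i => e (c i)) h =
        if Subtype.val ∘ c = h then 1 else 0 := fun c => by
    rw [← Basis.piTensorProduct_apply (fun _ : Fin d => e) (fun i => (c i : ι)),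
      Module.Basis.repr_self, Finsupp.single_apply]
    rfl
  simp only [orbitOf, orbs, Finsupp.coe_finsetSum, Finset.sum_apply, Finsupp.single_apply,
    map_sum, apply_ite (Basis.piTensorProduct fun _ : Fin d => e).repr, map_zero,
    Finset.sum_apply, apply_ite (fun z : (Fin d → ι) →₀ A => z h), Finsupp.coe_zero,
    Pi.zero_apply, hb]
  by_cases hh : cnt h = cnt f
  · rw [if_pos hh]
    have hmem : ∀ i, h i ∈ Finset.univ.image f := fun i => by
      obtain ⟨σ, hσ⟩ := exists_perm_of_cnt_eq hh
      rw [hσ]; exact Finset.mem_image_of_mem f (Finset.mem_univ _)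
    let c₀ : Fin d → {x // x ∈ Finset.univ.image f} := fun i => ⟨h i, hmem i⟩
    rw [Finset.sum_eq_single c₀]
    · rw [if_pos, if_pos (show Subtype.val ∘ c₀ = h from rfl)]
      apply Finsupp.mapDomain_injective Subtype.val_injective
      rw [cnt_mapDomain, cnt_mapDomain]
      exact hh
    · intro c _ hc
      split_ifs with h1 h2
      · exact absurd (funext fun i => Subtype.ext (congrFun h2 i)) hc
      all_goals rfl
    · simp
  · rw [if_neg hh]
    refine Finset.sum_eq_zero fun c _ => ?_
    split_ifs with h1 h2
    · refine absurd ?_ hh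
      rw [← h2, ← cnt_mapDomain, h1, cnt_mapDomain]
      rfl
    all_goals rfl

variable (d) in
/-- A linear projection to the symmetric tensors of a free module. -/
def retr : (⨂[A] _ : Fin d, M) →ₗ[A] symSub A d M :=
  haveI := Classical.decEq ι
  haveI := Classical.decEq (Fin d → ι)
  (Basis.piTensorProduct fun _ : Fin d => e).constr ℕ
    fun f => if canon f = f then ⟨orbitOf e f, orbs_mem _ _⟩ else 0

lemma retr_mem_span (x : ⨂[A] _ : Fin d, M) :
    (retr d e x : ⨂[A] _ : Fin d, M) ∈ Submodule.span A (orbSet A d M) := by
  classical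
  rw [← (Basis.piTensorProduct fun _ : Fin d => e).linearCombination_repr x,
    Finsupp.linearCombination_apply, map_finsuppSum, Finsupp.sum, Submodule.coe_sum]
  refine Submodule.sum_mem _ fun f _ => ?_
  rw [map_smul, Submodule.coe_smul, retr, Module.Basis.constr_basis]
  refine Submodule.smul_mem _ _ ?_
  split_ifs
  · exact Submodule.subset_span (orbs_mem_orbSet _ _)
  · exact Submodule.zero_mem _

/-- A tensor over a base change of a free module which is fixed by all permutations is the image of
its projection. -/
lemma lTensor_retr {S : Type u} [CommSemiring S] [Algebra A S] (x : S ⊗[A] (⨂[A] _ : Fin d, M))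
    (hx : ∀ σ : Equiv.Perm (Fin d),
      (PiTensorProduct.reindex A (fun _ : Fin d => M) σ).toLinearMap.lTensor S x = x) :
    (symSub A d M).subtype.lTensor S ((retr d e).lTensor S x) = x := by
  classical
  set bT := Basis.piTensorProduct fun _ : Fin d => e with hbT
  let crd : S ⊗[A] (⨂[A] _ : Fin d, M) ≃ₗ[A] (Fin d → ι) →₀ S :=
    LinearEquiv.lTensor S bT.repr ≪≫ₗ TensorProduct.finsuppScalarRight A A S (Fin d → ι)
  have hcrd : ∀ (s : S) t h, crd (s ⊗ₜ[A] t) h = bT.repr t h • s := fun s t h => by
    simp [crd]
  have h1 : ∀ y h, crd ((symSub A d M).subtype.lTensor S ((retr d e).lTensor S y)) h =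
      crd y (canon h) := by
    intro y h
    induction y with
    | zero => simp
    | add y z hy hz => simp only [map_add, Finsupp.add_apply, hy, hz]
    | tmul s t =>
      rw [LinearMap.lTensor_tmul, LinearMap.lTensor_tmul, hcrd, hcrd]
      congr 1
      rw [← bT.linearCombination_repr t, Finsupp.linearCombination_apply, map_finsuppSum,
        map_finsuppSum, map_finsuppSum, map_finsuppSum, Finsupp.sum_apply, Finsupp.sum_apply]
      refine Finsupp.sum_congr fun f _ => ?_
      rw [map_smul, map_smul, map_smul, map_smul, Finsupp.smul_apply, Finsupp.smul_apply,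
        bT.repr_self, Finsupp.single_apply, retr, Module.Basis.constr_basis]
      congr 1
      by_cases hf : canon f = f
      · rw [if_pos hf, Submodule.subtype_apply, hbT, orbitOf_repr]
        refine if_congr ⟨fun hc => ?_, fun hc => ?_⟩ rfl rfl
        · rw [canon_congr hc, hf]
        · rw [hc, cnt_canon]
      · rw [if_neg hf, if_neg fun hc => hf (by rw [hc, canon_canon]), map_zero, map_zero]
        rfl
  have h2 : ∀ (σ : Equiv.Perm (Fin d)) y h,
      crd ((PiTensorProduct.reindex A (fun _ : Fin d => M) σ).toLinearMap.lTensor S y) h =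
        crd y (h ∘ σ) := by
    intro σ y h
    induction y with
    | zero => simp
    | add y z hy hz => simp only [map_add, Finsupp.add_apply, hy, hz]
    | tmul s t =>
      rw [LinearMap.lTensor_tmul, hcrd, hcrd]
      congr 1
      induction t using PiTensorProduct.induction_on with
      | add a b ha hb => simp only [map_add, Finsupp.add_apply, ha, hb]
      | smul_tprod r g =>
        rw [map_smul, map_smul, map_smul, Finsupp.smul_apply, Finsupp.smul_apply]
        congr 1
        rw [LinearEquiv.coe_coe, PiTensorProduct.reindex_tprod, hbT,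
          Basis.piTensorProduct_repr_tprod_apply, Basis.piTensorProduct_repr_tprod_apply]
        exact Fintype.prod_equiv σ.symm _ _ fun i => by simp
  apply crd.injective
  ext h
  obtain ⟨σ, hσ⟩ := exists_perm_of_cnt_eq (cnt_canon h).symm
  rw [h1]
  conv_rhs => rw [hσ]
  conv_lhs => rw [← hx σ]
  rw [h2]

lemma retr_val (t : symSub A d M) : retr d e t = t := by
  apply (symSub A d M).subtype_injective
  have h := lTensor_retr e ((1 : A) ⊗ₜ[A] (t : ⨂[A] _ : Fin d, M)) fun σ => by
    rw [LinearMap.lTensor_tmul, LinearEquiv.coe_coe, mem_symSub.1 t.2 σ]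
  simpa using congrArg (TensorProduct.lid A (⨂[A] _ : Fin d, M)) h

include e in
lemma symSub_le_span : symSub A d M ≤ Submodule.span A (orbSet A d M) := fun t ht => by
  have := retr_val e ⟨t, ht⟩
  have h : (retr d e t : ⨂[A] _ : Fin d, M) = t := congrArg Subtype.val this
  rw [← h]
  exact retr_mem_span e t

include e in
lemma lTensor_subtype_injective (S : Type u) [CommSemiring S] [Algebra A S] :
    Function.Injective ((symSub A d M).subtype.lTensor S) :=
  Function.LeftInverse.injective (g := (retr d e).lTensor S) fun y => by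
    rw [← LinearMap.comp_apply, ← LinearMap.lTensor_comp,
      show retr d e ∘ₗ (symSub A d M).subtype = LinearMap.id from LinearMap.ext (retr_val e),
      LinearMap.lTensor_id, LinearMap.id_apply]

end Free

end ZCLib
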