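import Groth.Agent.ZCLib.Chi
import Groth.Agent.ZCLib.Residue
import Groth.Agent.WeakNorm
import Mathlib.Algebra.Polynomial.Laurent
import Mathlib.FieldTheory.IsAlgClosed.AlgebraicClosure
import Mathlib.RingTheory.IntegralClosure.Algebra.Basic

/-! Geometric points of families of zero-cycles. -/

noncomputable section

open TensorProduct PiTensorProduct
set_option maxHeartbeats 300000

namespace ZCLib

universe u

variable {A : Type u} [CommRing A] {B : Type u} [CommRing B] [Algebra A B] {d : ℕ}
  (F : PolLaw.MulLaw A B A d)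

section Poly

lemma exists_finsupp_sum (z : Polynomial A ⊗[A] B) :
    ∃ c : ℕ →₀ B, z = c.sum fun j b => (Polynomial.X ^ j) ⊗ₜ[A] b := by
  induction z with
  | zero => exact ⟨0, by simp⟩
  | add x y hx hy =>
    obtain ⟨c, rfl⟩ := hx
    obtain ⟨c', rfl⟩ := hy
    exact ⟨c + c', (Finsupp.sum_add_index' (fun _ => TensorProduct.tmul_zero _ _)
      fun _ _ _ => TensorProduct.tmul_add _ _ _).symm⟩
  | tmul p b =>
    induction p using Polynomial.induction_on' with
    | add p q hp hq =>
      obtain ⟨c, hc⟩ := hp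
      obtain ⟨c', hc'⟩ := hq
      exact ⟨c + c', by rw [TensorProduct.add_tmul, hc, hc', Finsupp.sum_add_index'
        (fun _ => TensorProduct.tmul_zero _ _) fun _ _ _ => TensorProduct.tmul_add _ _ _]⟩
    | monomial n a =>
      refine ⟨Finsupp.single n (a • b), ?_⟩
      rw [Finsupp.sum_single_index (by simp), ← TensorProduct.smul_tmul,
        Polynomial.smul_X_eq_monomial]

lemma mem_ker_of_top {M : ℕ} (b : ℕ → B)
    (h : (∑ j ∈ Finset.range (M + 1), ((Polynomial.X : Polynomial A) ^ j) ⊗ₜ[A] b j) ∈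
      PolLaw.kerBC F.law (Polynomial A)) : b M ∈ PolLaw.ker F.law := by
  rw [mem_ker_iff]
  intro S _ _ w
  let L := LaurentPolynomial S
  let cL : S →ₐ[A] L := IsScalarTower.toAlgHom A S L
  let tinv : Polynomial A →ₐ[A] L := Polynomial.aeval (LaurentPolynomial.T (-1) : L)
  letI : Algebra (Polynomial A) L := tinv.toRingHom.toAlgebra
  haveI : IsScalarTower A (Polynomial A) L := IsScalarTower.of_algebraMap_eq fun a =>
    (tinv.commutes a).symm
  have hL := (mem_kerBC_iff F (Polynomial A) _).1 h L
    ((LaurentPolynomial.T (M : ℤ) : L) ⊗ₜ[A] (1 : B) *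
      Algebra.TensorProduct.map cL (AlgHom.id A B) w)
  let cP : S →ₐ[A] Polynomial S := IsScalarTower.toAlgHom A S (Polynomial S)
  let toL : Polynomial S →ₐ[A] L := (Polynomial.toLaurentAlg (R := S)).restrictScalars A
  let y : Polynomial S ⊗[A] B := 1 + Algebra.TensorProduct.map cP (AlgHom.id A B) w *
    ∑ j ∈ Finset.range (M + 1), (Polynomial.X ^ (M - j) : Polynomial S) ⊗ₜ[A] b j
  have hy : F.law.toFun' (Polynomial S) y = 1 := by
    have hmap : Algebra.TensorProduct.map toL (AlgHom.id A B) y =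
        1 + ((LaurentPolynomial.T (M : ℤ) : L) ⊗ₜ[A] (1 : B) *
          Algebra.TensorProduct.map cL (AlgHom.id A B) w) *
        bcMap (Polynomial A) L (∑ j ∈ Finset.range (M + 1), (Polynomial.X ^ j) ⊗ₜ[A] b j) := by
      rw [map_add, map_one, map_mul, map_sum]
      congr 1
      rw [mul_comm ((LaurentPolynomial.T (M : ℤ) : L) ⊗ₜ[A] (1 : B)), mul_assoc]
      congr 1
      · rw [← AlgHom.comp_apply]
        congr 1
        ext <;> simp [toL, cP, cL] <;> rfl
      · rw [map_sum, Finset.mul_sum]
        refine Finset.sum_congr rfl fun j hj => ?_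
        rw [bcMap, Algebra.TensorProduct.map_tmul, Algebra.TensorProduct.map_tmul,
          Algebra.TensorProduct.tmul_mul_tmul, one_mul]
        congr 1
        show toL (Polynomial.X ^ (M - j)) = LaurentPolynomial.T (M : ℤ) * tinv (Polynomial.X ^ j)
        have hj' : j ≤ M := Nat.lt_succ_iff.1 (Finset.mem_range.1 hj)
        simp only [toL, tinv, map_pow, Polynomial.aeval_X, AlgHom.restrictScalars_apply,
          Polynomial.toLaurentAlg_apply, Polynomial.toLaurent_X, LaurentPolynomial.T_pow]
        show (LaurentPolynomial.T 1 : LaurentPolynomial S) ^ (M - j) =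
          LaurentPolynomial.T (M : ℤ) * LaurentPolynomial.T (-1) ^ j
        rw [LaurentPolynomial.T_pow, LaurentPolynomial.T_pow, ← LaurentPolynomial.T_add]
        congr 1
        omega
    have h1 := map_rTensor toL F.law y
    rw [hmap, hL] at h1
    have h2 := congrArg (TensorProduct.rid A L) h1
    apply (TensorProduct.rid A (Polynomial S)).injective
    have hrid : ∀ x : Polynomial S ⊗[A] A, TensorProduct.rid A L
        (Algebra.TensorProduct.map toL (AlgHom.id A A) x) =
        toL (TensorProduct.rid A (Polynomial S) x) := by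
      intro x
      induction x with
      | zero => simp
      | tmul q a => simp
      | add a b ha hb => simp only [map_add, ha, hb]
    rw [hrid, Algebra.TensorProduct.one_def, TensorProduct.rid_tmul, one_smul] at h2
    rw [Algebra.TensorProduct.one_def, TensorProduct.rid_tmul, one_smul]
    refine Polynomial.toLaurent_injective ?_
    rw [map_one]
    exact h2.symm
  let ev : Polynomial S →ₐ[A] S := (Polynomial.aeval (0 : S)).restrictScalars A
  have h3 := map_rTensor ev F.law y
  rw [hy, map_one] at h3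
  rw [← h3]
  congr 1
  rw [map_add, map_one, map_mul, map_sum, ← AlgHom.comp_apply, ← Algebra.TensorProduct.map_comp,
    show ev.comp cP = AlgHom.id A S from AlgHom.ext fun r => by simp [ev, cP],
    AlgHom.comp_id, Algebra.TensorProduct.map_id, AlgHom.id_apply,
    Finset.sum_eq_single_of_mem M (Finset.self_mem_range_succ M) fun j hj hne => by
      have hj' : j < M := lt_of_le_of_ne (Nat.lt_succ_iff.1 (Finset.mem_range.1 hj)) hne
      simp [ev, zero_pow (Nat.sub_ne_zero_of_lt hj')]]
  simp [ev]

lemma mem_ker_of_range : ∀ (M : ℕ) (b : ℕ → B),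
    (∑ j ∈ Finset.range M, ((Polynomial.X : Polynomial A) ^ j) ⊗ₜ[A] b j) ∈
      PolLaw.kerBC F.law (Polynomial A) → ∀ j < M, b j ∈ PolLaw.ker F.law := by
  intro M
  induction M with
  | zero => intro b _ j hj; omega
  | succ M ih =>
    intro b h j hj
    have hM := mem_ker_of_top F b h
    rcases Nat.lt_succ_iff_lt_or_eq.1 hj with hj | rfl
    · refine ih b ?_ j hj
      rw [Finset.sum_range_succ] at h
      refine (Ideal.add_mem_iff_left _ ?_).1 h
      rw [show ((Polynomial.X : Polynomial A) ^ M) ⊗ₜ[A] b M =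
        (((Polynomial.X : Polynomial A) ^ M) ⊗ₜ[A] (1 : B)) *
          (Algebra.TensorProduct.includeRight : B →ₐ[A] Polynomial A ⊗[A] B) (b M) by simp]
      exact Ideal.mul_mem_left _ _ (map_ker_le_kerBC F _ (Ideal.mem_map_of_mem _ hM))
    · exact hM

/-- The kernel commutes with polynomial extension. -/
theorem kerBC_polynomial :
    PolLaw.kerBC F.law (Polynomial A) = (PolLaw.ker F.law).map
      (Algebra.TensorProduct.includeRight : B →ₐ[A] Polynomial A ⊗[A] B) := by
  refine le_antisymm (fun z hz => ?_) (map_ker_le_kerBC F _)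
  obtain ⟨c, rfl⟩ := exists_finsupp_sum z
  rw [Finsupp.sum_of_support_subset c c.support.subset_range_sup_succ _
    (fun i _ => TensorProduct.tmul_zero _ _)] at hz ⊢
  refine Ideal.sum_mem _ fun j hj => ?_
  rw [show ((Polynomial.X : Polynomial A) ^ j) ⊗ₜ[A] c j =
    (((Polynomial.X : Polynomial A) ^ j) ⊗ₜ[A] (1 : B)) *
      (Algebra.TensorProduct.includeRight : B →ₐ[A] Polynomial A ⊗[A] B) (c j) by simp]
  exact Ideal.mul_mem_left _ _ (Ideal.mem_map_of_mem _
    (mem_ker_of_range F _ c hz j (Finset.mem_range.1 hj)))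

end Poly

section Points

variable (Ω : Type u) [Field Ω] [Algebra A Ω]

/-- The base change of the law to a field is the product of the given points. -/
def IsPoints (g : Fin d → B →ₐ[A] Ω) : Prop :=
  ∀ (R : Type u) [CommRing R] [Algebra A R] [Algebra Ω R] [IsScalarTower A Ω R] (x : R ⊗[A] B),
    TensorProduct.rid A R (F.law.toFun' R x) =
      ∏ i, Algebra.TensorProduct.lift (AlgHom.id A R) ((IsScalarTower.toAlgHom A Ω R).comp (g i))
        (fun _ _ => Commute.all _ _) x

lemma eq_zero_of_prod_one_add {ι : Type*} [Fintype ι] (c : ι → Ω)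
    (h : ∏ i, (1 + Polynomial.C (c i) * Polynomial.X) = 1) (i : ι) : c i = 0 := by
  classical
  have hu : IsUnit (1 + Polynomial.C (c i) * Polynomial.X) :=
    isUnit_of_dvd_one ((Finset.dvd_prod_of_mem (fun i => 1 + Polynomial.C (c i) * Polynomial.X)
      (Finset.mem_univ i)).trans h.dvd)
  have hdeg := Polynomial.natDegree_eq_zero_of_isUnit hu
  have hc := Polynomial.coeff_eq_zero_of_natDegree_lt
    (p := 1 + Polynomial.C (c i) * Polynomial.X) (n := 1) (by omega)
  simpa [Polynomial.coeff_one] using hc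

lemma factor_algHom {P R : Type u} [CommRing P] [Algebra A P] [CommRing R] [Algebra A R]
    (π : P →ₐ[A] B) (hπ : Function.Surjective π) (g : P →ₐ[A] R) (h : ∀ q, π q = 0 → g q = 0) :
    ∃ g' : B →ₐ[A] R, g'.comp π = g := by
  refine ⟨(Ideal.Quotient.liftₐ (RingHom.ker π) g h).comp
    (Ideal.quotientKerAlgEquivOfSurjective hπ).symm.toAlgHom, AlgHom.ext fun q => ?_⟩
  have : (Ideal.quotientKerAlgEquivOfSurjective hπ).symm (π q) = Ideal.Quotient.mk _ q := by
    rw [AlgEquiv.symm_apply_eq]; rfl
  simp only [AlgHom.comp_apply, AlgEquiv.toAlgHom_apply, this]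
  rfl

variable [IsAlgClosed Ω]

/-- A family of zero-cycles has `d` geometric points. -/
theorem exists_points : ∃ g : Fin d → B →ₐ[A] Ω, IsPoints F Ω g := by
  classical
  let π := cover A B
  let G := F.precomp π
  obtain ⟨f, hf, -⟩ := isGammaD_tau_of_flat (A := A) (B := MvPolynomial B A) (d := d) A G
  obtain ⟨ψ, hψ⟩ := WeakNormLib.exists_lift ((algebraMap A Ω).comp f.toRingHom)
    (SymTen.TS A (MvPolynomial B A) d).val.toRingHom Subtype.val_injective isIntegral_val
  let Ψ : (⨂[A] _ : Fin d, MvPolynomial B A) →ₐ[A] Ω :=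
    { ψ with
      commutes' := fun a => by
        have h := hψ (algebraMap A (SymTen.TS A (MvPolynomial B A) d) a)
        simp only [RingHom.comp_apply, AlgHom.toRingHom_eq_coe, RingHom.coe_coe, AlgHom.commutes,
          Algebra.algebraMap_self, RingHom.id_apply] at h
        exact h }
  let g' : Fin d → MvPolynomial B A →ₐ[A] Ω := fun i =>
    Ψ.comp (PiTensorProduct.singleAlgHom (A := fun _ : Fin d => MvPolynomial B A) i)
  have hG : IsPoints G Ω g' := by
    intro R _ _ _ _ x
    rw [← hf]
    show TensorProduct.rid A R (f.toLinearMap.lTensor R ((tau A _ d).law.toFun' R x)) = _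
    rw [rid_lTensor]
    let ρ : R ⊗[A] (⨂[A] _ : Fin d, MvPolynomial B A) →ₐ[A] R :=
      Algebra.TensorProduct.lift (AlgHom.id A R) ((IsScalarTower.toAlgHom A Ω R).comp Ψ)
        fun _ _ => Commute.all _ _
    have h : spec f R =
        ρ.comp (Algebra.TensorProduct.map (AlgHom.id A R) (SymTen.TS A _ d).val) := by
      refine Algebra.TensorProduct.ext ?_ ?_
      · ext r; simp [spec, ρ]
      · refine AlgHom.ext fun t => ?_
        have h := hψ t
        simp [spec, ρ, Algebra.smul_def]
        rw [IsScalarTower.algebraMap_apply A Ω R]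
        exact congrArg (algebraMap Ω R) h.symm
    rw [h, AlgHom.comp_apply, val_tau, map_prod]
    refine Finset.prod_congr rfl fun i _ => ?_
    rw [← AlgHom.comp_apply]
    congr 1
    ext <;> simp [ρ, g', ← PiTensorProduct.one_def]
  have hker : ∀ i q, π q = 0 → g' i q = 0 := by
    intro i q hq
    refine eq_zero_of_prod_one_add Ω (fun i => g' i q) ?_ i
    have h := hG (Polynomial Ω) (1 + Polynomial.X ⊗ₜ[A] q)
    have h1 : G.law.toFun' (Polynomial Ω) (1 + Polynomial.X ⊗ₜ[A] q) = 1 := by
      show F.law.toFun' _ (π.toLinearMap.lTensor _ _) = _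
      rw [PolLaw.lTensor_algHom_apply, map_add, map_one, Algebra.TensorProduct.map_tmul, hq,
        TensorProduct.tmul_zero, add_zero, (F.mult _).1]
    rw [h1, Algebra.TensorProduct.one_def, TensorProduct.rid_tmul, one_smul] at h
    refine h.trans (Finset.prod_congr rfl fun j _ => ?_) |>.symm
    simp only [map_add, map_one, Algebra.TensorProduct.lift_tmul, AlgHom.id_apply,
      AlgHom.comp_apply]
    rw [mul_comm]
    rfl
  choose g hg using fun i => factor_algHom π cover_surjective (g' i) (hker i)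
  refine ⟨g, fun R _ _ _ _ x => ?_⟩
  obtain ⟨y, rfl⟩ := map_id_surjective (S := R) π cover_surjective x
  have h := hG R y
  rw [show G.law.toFun' R y = F.law.toFun' R (Algebra.TensorProduct.map (AlgHom.id R R) π y) by
    rw [← PolLaw.lTensor_algHom_apply]; rfl] at h
  rw [h]
  refine Finset.prod_congr rfl fun i _ => ?_
  clear h
  induction y with
  | zero => simp
  | tmul r p => simp [← hg i]
  | add a b ha hb => simp only [map_add, ha, hb]

variable {F Ω} {g : Fin d → B →ₐ[A] Ω}

omit [IsAlgClosed Ω] in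
lemma IsPoints.chi_map (hg : IsPoints F Ω g) {A' R : Type u} [CommRing A'] [Algebra A A']
    [CommRing R] [Algebra A R] [Algebra Ω R] [IsScalarTower A Ω R] (ψ : A' →ₐ[A] R)
    (z : A' ⊗[A] B) :
    (chi F A' z).map ψ.toRingHom = ∏ i, (Polynomial.C (Algebra.TensorProduct.lift ψ
      ((IsScalarTower.toAlgHom A Ω R).comp (g i)) (fun _ _ => Commute.all _ _) z) - Polynomial.X) := by
  rw [← ZCLib.chi_map, chi, hg (Polynomial R)]
  refine Finset.prod_congr rfl fun i _ => ?_
  rw [map_sub, Algebra.TensorProduct.lift_tmul, map_one, mul_one, AlgHom.id_apply]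
  congr 1
  rw [← AlgHom.comp_apply, ← AlgHom.comp_apply]
  generalize hu : Algebra.TensorProduct.lift ψ ((IsScalarTower.toAlgHom A Ω R).comp (g i))
    (fun _ _ => Commute.all _ _) = u
  show _ = ((IsScalarTower.toAlgHom A R (Polynomial R)).comp u) z
  congr 1
  subst hu
  ext <;> simp [IsScalarTower.algebraMap_apply Ω R (Polynomial R)]

omit [IsAlgClosed Ω] in
lemma IsPoints.kills_kerBC (hg : IsPoints F Ω g) {A' : Type u} [CommRing A'] [Algebra A A']
    (ψ : A' →ₐ[A] Ω) {z : A' ⊗[A] B} (hz : z ∈ PolLaw.kerBC F.law A') (i : Fin d) :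
    Algebra.TensorProduct.lift ψ (g i) (fun _ _ => Commute.all _ _) z = 0 := by
  refine eq_zero_of_prod_one_add Ω
    (fun i => Algebra.TensorProduct.lift ψ (g i) (fun _ _ => Commute.all _ _) z) ?_ i
  let c : Ω →ₐ[A] Polynomial Ω := IsScalarTower.toAlgHom A Ω (Polynomial Ω)
  letI : Algebra A' (Polynomial Ω) := (c.comp ψ).toRingHom.toAlgebra
  haveI : IsScalarTower A A' (Polynomial Ω) := IsScalarTower.of_algebraMap_eq fun a =>
    ((c.comp ψ).commutes a).symm
  have h1 := (mem_kerBC_iff F A' z).1 hz (Polynomial Ω) (Polynomial.X ⊗ₜ[A] (1 : B))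
  have h := hg (Polynomial Ω) (1 + Polynomial.X ⊗ₜ[A] (1 : B) * bcMap A' (Polynomial Ω) z)
  rw [h1, Algebra.TensorProduct.one_def, TensorProduct.rid_tmul, one_smul] at h
  refine (h.trans (Finset.prod_congr rfl fun j _ => ?_)).symm
  rw [map_add, map_one, map_mul, Algebra.TensorProduct.lift_tmul,
    map_one, mul_one, AlgHom.id_apply, mul_comm (Polynomial.C _)]
  congr 2
  rw [← AlgHom.comp_apply]
  show _ = (c.comp (Algebra.TensorProduct.lift ψ (g j) fun _ _ => Commute.all _ _)) z
  congr 1
  ext <;> simp [bcMap, c, RingHom.algebraMap_toAlgebra]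

omit [IsAlgClosed Ω] in
lemma IsPoints.kills_ker (hg : IsPoints F Ω g) {b : B} (hb : b ∈ PolLaw.ker F.law) (i : Fin d) :
    g i b = 0 := by
  have h := hg.kills_kerBC (Algebra.ofId A Ω)
    (map_ker_le_kerBC F A (Ideal.mem_map_of_mem _ hb)) i
  simpa using h

omit [IsAlgClosed Ω] in
/-- A map to `Ω` killing the coefficients of the Cayley–Hamilton element of a generic combination
agrees with one of the points on the family. -/
lemma IsPoints.exists_eq_of_coeff (hg : IsPoints F Ω g) {n : ℕ} (b : Fin n → B) (c : ℕ →₀ B)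
    (hc : Polynomial.aeval (∑ j : Fin n, ((Polynomial.X : Polynomial A) ^ (j : ℕ)) ⊗ₜ[A] b j)
        (chi F (Polynomial A) (∑ j : Fin n, ((Polynomial.X : Polynomial A) ^ (j : ℕ)) ⊗ₜ[A] b j)) =
      c.sum fun j b => (Polynomial.X ^ j) ⊗ₜ[A] b)
    (h : B →ₐ[A] Ω) (hh : ∀ k, h (c k) = 0) : ∃ i, ∀ j, g i (b j) = h (b j) := by
  classical
  set z := ∑ j : Fin n, ((Polynomial.X : Polynomial A) ^ (j : ℕ)) ⊗ₜ[A] b j with hz
  let ψ : Polynomial A →ₐ[A] Polynomial Ω := Polynomial.mapAlgHom (Algebra.ofId A Ω)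
  let C' : Ω →ₐ[A] Polynomial Ω := IsScalarTower.toAlgHom A Ω (Polynomial Ω)
  let H : Polynomial A ⊗[A] B →ₐ[A] Polynomial Ω :=
    Algebra.TensorProduct.lift ψ (C'.comp h) fun _ _ => Commute.all _ _
  have h0 : H (Polynomial.aeval z (chi F (Polynomial A) z)) = 0 := by
    rw [hc, map_finsuppSum]
    exact Finset.sum_eq_zero fun k _ => by simp [H, C', hh k]
  have h1 : H (Polynomial.aeval z (chi F (Polynomial A) z)) =
      ((chi F (Polynomial A) z).map ψ.toRingHom).eval (H z) := by
    induction chi F (Polynomial A) z using Polynomial.induction_on' with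
    | add p q hp hq => simp only [map_add, Polynomial.map_add, Polynomial.eval_add, hp, hq]
    | monomial m a =>
      simp [H, Polynomial.aeval_monomial, Algebra.TensorProduct.algebraMap_apply,
        Polynomial.map_monomial]
  rw [h0, hg.chi_map ψ z, Polynomial.eval_prod] at h1
  obtain ⟨i, -, hi⟩ := Finset.prod_eq_zero_iff.1 h1.symm
  refine ⟨i, fun j => ?_⟩
  rw [Polynomial.eval_sub, Polynomial.eval_C, Polynomial.eval_X, sub_eq_zero] at hi
  have e : ∀ φ : B →ₐ[A] Ω, Algebra.TensorProduct.lift ψ (C'.comp φ) (fun _ _ => Commute.all _ _) z =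
      ∑ l : Fin n, Polynomial.C (φ (b l)) * Polynomial.X ^ (l : ℕ) := fun φ => by
    rw [hz, map_sum]
    refine Finset.sum_congr rfl fun l _ => ?_
    rw [Algebra.TensorProduct.lift_tmul, mul_comm]
    simp [ψ, C', Polynomial.mapAlgHom]
  have hi' := hi
  rw [e (g i), show H z = _ from e h] at hi'
  have := congrArg (fun p => Polynomial.coeff p (j : ℕ)) hi'
  simpa [Polynomial.finsetSum_coeff, Polynomial.coeff_C_mul_X_pow, Fin.val_inj] using this

omit [IsAlgClosed Ω] in
/-- **Support theorem.** A point killing the kernel is one of the points of the law. -/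
theorem IsPoints.exists_eq (hg : IsPoints F Ω g) (h : B →ₐ[A] Ω)
    (hh : ∀ b ∈ PolLaw.ker F.law, h b = 0) : ∃ i, g i = h := by
  classical
  by_contra hne
  simp only [not_exists, AlgHom.ext_iff, not_forall] at hne
  choose b hb using hne
  obtain ⟨c, hc⟩ := exists_finsupp_sum (Polynomial.aeval
    (∑ j : Fin d, ((Polynomial.X : Polynomial A) ^ (j : ℕ)) ⊗ₜ[A] b j)
    (chi F (Polynomial A) (∑ j : Fin d, ((Polynomial.X : Polynomial A) ^ (j : ℕ)) ⊗ₜ[A] b j)))
  have hmem := aeval_chi_mem_kerBC F (Polynomial A)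
    (∑ j : Fin d, ((Polynomial.X : Polynomial A) ^ (j : ℕ)) ⊗ₜ[A] b j)
  rw [hc, Finsupp.sum_of_support_subset c c.support.subset_range_sup_succ _
    (fun i _ => TensorProduct.tmul_zero _ _)] at hmem
  obtain ⟨i, hi⟩ := hg.exists_eq_of_coeff b c hc h fun k => by
    by_cases hk : k ∈ c.support
    · exact hh _ (mem_ker_of_range F _ c hmem k
        (Finset.mem_range.1 (c.support.subset_range_sup_succ hk)))
    · rw [Finsupp.notMem_support_iff.1 hk, map_zero]
  exact hb i (hi i)

end Points

end ZCLib
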